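import Cfsg.Agent.Lib.Classical.RegUnipProduct

set_option autoImplicit false

/-! Conjugacy classes of linear automorphisms, in block upper triangular coordinates. -/

namespace Cfsg.Agent.Classical.CovPSL

open Module

universe u v

variable {K : Type u} [Field K] {V : Type v} [AddCommGroup V] [Module K V]

/-- Not a scalar. -/
def NS (f : V → V) : Prop := ∀ κ : K, ∃ x, f x ≠ κ • x

/-- A scalar plus an operator of rank at most one. -/
def R1 (f : V → V) (μ : K) : Prop := ∃ (a : V) (φ : V →ₗ[K] K), ∀ x, f x = μ • x + φ x • a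

/-- Eigenvalue. -/
def Eig (f : V → V) (c : K) : Prop := ∃ x, x ≠ 0 ∧ f x = c • x

/-- The conjugates, by elements of determinant one from dimension three on. -/
def Cl (A : V ≃ₗ[K] V) : Set (V ≃ₗ[K] V) :=
  {X | ∃ M : V ≃ₗ[K] V, (3 ≤ finrank K V → LinearEquiv.det M = 1) ∧ X = M * A * M⁻¹}

/-- A product of `m` members of `C` without common eigenvector for `c`. -/
def Good (C : Set (V ≃ₗ[K] V)) (m : ℕ) (g : V ≃ₗ[K] V) (c : K) : Prop :=
  ∃ l : List (V ≃ₗ[K] V), l.length = m ∧ (∀ X ∈ l, X ∈ C) ∧ l.prod = g ∧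
    ∀ x : V, x ≠ 0 → ¬ ∀ X ∈ l, X x = c • x

theorem mul_apply' (f g : V ≃ₗ[K] V) (x : V) : (f * g) x = f (g x) := rfl

theorem one_apply' (x : V) : (1 : V ≃ₗ[K] V) x = x := rfl

theorem inv_apply_eq (f : V ≃ₗ[K] V) {x y : V} (h : f x = y) : f⁻¹ y = x :=
  (LinearEquiv.symm_apply_eq f).2 h.symm

theorem apply_inv (f : V ≃ₗ[K] V) (x : V) : f (f⁻¹ x) = x := f.apply_symm_apply x

theorem inv_apply' (f : V ≃ₗ[K] V) (x : V) : f⁻¹ (f x) = x := f.symm_apply_apply x

theorem self_mem_Cl (A : V ≃ₗ[K] V) : A ∈ Cl A := ⟨1, fun _ => map_one _, by group⟩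

theorem Cl_conj {A X : V ≃ₗ[K] V} (hX : X ∈ Cl A) (N : V ≃ₗ[K] V)
    (hN : 3 ≤ finrank K V → LinearEquiv.det N = 1) : N * X * N⁻¹ ∈ Cl A := by
  obtain ⟨M, hM, rfl⟩ := hX
  exact ⟨N * M, fun h => by rw [map_mul, hN h, hM h, mul_one], by group⟩

theorem det_of_mem_Cl {A X : V ≃ₗ[K] V} (hX : X ∈ Cl A) : LinearEquiv.det X = LinearEquiv.det A := by
  obtain ⟨M, -, rfl⟩ := hX
  rw [map_mul, map_mul, map_inv, mul_inv_cancel_comm]

theorem NS.exists_noneigen {f : V →ₗ[K] V} (hf : NS (K := K) f) : ∃ x, ∀ κ : K, f x ≠ κ • x := by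
  by_contra h
  push Not at h
  obtain ⟨κ, hκ⟩ : ∃ κ : K, ∀ x, f x = κ • x := by
    rcases subsingleton_or_nontrivial V with hV | hV
    · exact ⟨0, fun x => Subsingleton.elim _ _⟩
    obtain ⟨x₀, hx₀⟩ := exists_ne (0 : V)
    obtain ⟨κ, hκ⟩ := h x₀
    refine ⟨κ, fun y => ?_⟩
    obtain ⟨a, ha⟩ := h y
    obtain ⟨b, hb⟩ := h (x₀ + y)
    rw [map_add, hκ, ha, smul_add] at hb
    by_cases hy : y ∈ K ∙ x₀
    · obtain ⟨t, rfl⟩ := Submodule.mem_span_singleton.1 hy
      rw [map_smul, hκ, smul_comm]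
    have e : (a - b) • y = (b - κ) • x₀ := by rw [sub_smul, sub_smul]; exact sub_eq_sub_iff_add_eq_add.2 (by rw [add_comm, hb, add_comm])
    by_cases hab : a = b
    · subst hab
      rw [sub_self, zero_smul, eq_comm, smul_eq_zero, sub_eq_zero] at e
      rcases e with e | e
      · rw [ha, e]
      · exact absurd e hx₀
    · refine absurd (Submodule.mem_span_singleton.2 ⟨(a - b)⁻¹ * (b - κ), ?_⟩) hy
      rw [mul_smul, ← e, smul_smul, inv_mul_cancel₀ (sub_ne_zero.2 hab), one_smul]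
  obtain ⟨x, hx⟩ := hf κ
  exact hx (hκ x)

theorem notMem_span_of_noneigen {f : V →ₗ[K] V} {x : V} (hx : ∀ κ : K, f x ≠ κ • x) :
    x ≠ 0 ∧ f x ∉ K ∙ x :=
  ⟨fun h => hx 0 (by rw [h, map_zero, smul_zero]),
    fun h => by obtain ⟨t, ht⟩ := Submodule.mem_span_singleton.1 h; exact hx t ht.symm⟩

theorem R1.finrank_le {f : V → V} {μ ν : K} [FiniteDimensional K V] (h₁ : R1 f μ) (h₂ : R1 f ν)
    (hne : μ ≠ ν) : finrank K V ≤ 2 := by
  classical
  obtain ⟨a, φ, ha⟩ := h₁
  obtain ⟨b, ψ, hb⟩ := h₂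
  have htop : (⊤ : Submodule K V) ≤ Submodule.span K ({a, b} : Set V) := fun x _ => by
    have e : (μ - ν) • x = ψ x • b - φ x • a := by
      have := (ha x).symm.trans (hb x)
      linear_combination (norm := module) this
    have : x = (μ - ν)⁻¹ • (ψ x • b - φ x • a) := by
      rw [← e, smul_smul, inv_mul_cancel₀ (sub_ne_zero.2 hne), one_smul]
    rw [this]
    exact Submodule.smul_mem _ _ (sub_mem
      (Submodule.smul_mem _ _ (Submodule.subset_span (by simp)))
      (Submodule.smul_mem _ _ (Submodule.subset_span (by simp))))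
  have h := (Submodule.finrank_mono htop).trans (finrank_span_le_card _)
  rw [finrank_top] at h
  refine h.trans ?_
  simpa [Set.toFinset_insert] using Finset.card_le_two (a := a) (b := b)

/-- An operator whose deviation from `μ` has values in a line is `R1`. -/
theorem R1.of_line {f : V →ₗ[K] V} {μ : K} (a : V) (h : ∀ x, f x - μ • x ∈ K ∙ a) : R1 f μ := by
  by_cases ha : a = 0
  · refine ⟨0, 0, fun x => ?_⟩
    have := h x
    rw [ha, Submodule.span_zero_singleton, Submodule.mem_bot, sub_eq_zero] at this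
    simpa using this
  obtain ⟨χ, hχ⟩ : ∃ χ : V →ₗ[K] K, χ a = 1 := by
    obtain ⟨χ, hχ⟩ := Module.Projective.exists_dual_ne_zero K ha
    exact ⟨(χ a)⁻¹ • χ, by simp [hχ]⟩
  refine ⟨a, χ.comp (f - μ • LinearMap.id), fun x => ?_⟩
  obtain ⟨t, ht⟩ := Submodule.mem_span_singleton.1 (h x)
  simp only [LinearMap.comp_apply, LinearMap.sub_apply, LinearMap.smul_apply, LinearMap.id_apply]
  rw [← ht, map_smul, hχ, smul_eq_mul, mul_one, ht, add_sub_cancel]

/-- A transvection or reflection. -/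
def pRefl (a : V) (φ : V →ₗ[K] K) (h : 1 + φ a ≠ 0) : V ≃ₗ[K] V :=
  LinearEquiv.ofLinearMap (LinearMap.transvection φ a) (LinearMap.transvection (-(1 + φ a)⁻¹ • φ) a)
    (LinearMap.ext fun x => by
      simp only [LinearMap.comp_apply, LinearMap.transvection.apply, LinearMap.id_apply, LinearMap.smul_apply,
        map_add, map_smul, smul_eq_mul]
      match_scalars <;> field_simp <;> ring)
    (LinearMap.ext fun x => by
      simp only [LinearMap.comp_apply, LinearMap.transvection.apply, LinearMap.id_apply, LinearMap.smul_apply,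
        map_add, map_smul, smul_eq_mul]
      match_scalars <;> field_simp <;> ring)

theorem pRefl_apply (a : V) (φ : V →ₗ[K] K) (h : 1 + φ a ≠ 0) (x : V) : pRefl a φ h x = x + φ x • a :=
  LinearMap.transvection.apply _ _ _

theorem det_pRefl [FiniteDimensional K V] (a : V) (φ : V →ₗ[K] K) (h : 1 + φ a ≠ 0) :
    ((LinearEquiv.det (pRefl a φ h) : Kˣ) : K) = 1 + φ a := by
  rw [LinearEquiv.coe_det]
  exact LinearMap.transvection.det φ a

/-- An automorphism with given determinant carrying one short independent family to another. -/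
theorem exists_map [FiniteDimensional K V] {ι : Type*} [Fintype ι] (w w' : ι → V)
    (hw : LinearIndependent K w) (hw' : LinearIndependent K w') (hlt : Fintype.card ι < finrank K V) (δ : Kˣ) :
    ∃ M : V ≃ₗ[K] V, (∀ i, M (w i) = w' i) ∧ LinearEquiv.det M = δ := by
  set P := Submodule.span K (Set.range w)
  set P' := Submodule.span K (Set.range w')
  obtain ⟨Q, hQ⟩ := Submodule.exists_isCompl P
  obtain ⟨Q', hQ'⟩ := Submodule.exists_isCompl P'
  have hP : finrank K P = Fintype.card ι := finrank_span_eq_card hw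
  have hP' : finrank K P' = Fintype.card ι := finrank_span_eq_card hw'
  have h1 := Submodule.finrank_add_eq_of_isCompl hQ
  have h2 := Submodule.finrank_add_eq_of_isCompl hQ'
  let eP : P ≃ₗ[K] P' := (Basis.span hw).equiv (Basis.span hw') (Equiv.refl ι)
  let eQ : Q ≃ₗ[K] Q' := LinearEquiv.ofFinrankEq _ _ (by omega)
  let M₀ : V ≃ₗ[K] V :=
    ((Submodule.prodEquivOfIsCompl P Q hQ).symm.trans (eP.prodCongr eQ)).trans (Submodule.prodEquivOfIsCompl P' Q' hQ')
  have hM₀ : ∀ i, M₀ (w i) = w' i := fun i => by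
    have hi : w i ∈ P := Submodule.subset_span (Set.mem_range_self i)
    have e : (Submodule.prodEquivOfIsCompl P Q hQ).symm (w i) = (⟨w i, hi⟩, 0) := by
      rw [LinearEquiv.symm_apply_eq]; simp
    have eb : (⟨w i, hi⟩ : P) = Basis.span hw i := (Basis.span_apply hw i).symm
    simp only [M₀, LinearEquiv.trans_apply, e, LinearEquiv.prodCongr_apply, map_zero]
    rw [eb, show eP (Basis.span hw i) = Basis.span hw' i from Basis.equiv_apply (Basis.span hw) i (Basis.span hw') (Equiv.refl ι)]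
    rw [Submodule.coe_prodEquivOfIsCompl', Submodule.coe_zero, add_zero, Basis.span_apply]
  obtain ⟨a, -, ha⟩ := SetLike.exists_of_lt (show P' < ⊤ from lt_top_iff_ne_top.2 fun h => by
    rw [h, finrank_top] at hP'; omega)
  obtain ⟨φ, hφa, hφ⟩ := Submodule.exists_dual_map_eq_bot_of_notMem ha inferInstance
  set k : K := ((δ * (LinearEquiv.det M₀)⁻¹ : Kˣ) : K) with hk
  have hval : (((k - 1) * (φ a)⁻¹) • φ) a = k - 1 := by
    rw [LinearMap.smul_apply, smul_eq_mul, mul_assoc, inv_mul_cancel₀ hφa, mul_one]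
  have hne : 1 + (((k - 1) * (φ a)⁻¹) • φ) a ≠ 0 := by
    rw [hval, add_sub_cancel]; exact Units.ne_zero _
  refine ⟨pRefl a (((k - 1) * (φ a)⁻¹) • φ) hne * M₀, fun i => ?_, ?_⟩
  · have h0 : φ (w' i) = 0 := by
      have : φ (w' i) ∈ P'.map φ := Submodule.mem_map_of_mem (Submodule.subset_span (Set.mem_range_self i))
      rwa [hφ, Submodule.mem_bot] at this
    rw [mul_apply', hM₀, pRefl_apply, LinearMap.smul_apply, h0, smul_zero, zero_smul, add_zero]
  · rw [map_mul]
    have : LinearEquiv.det (pRefl a (((k - 1) * (φ a)⁻¹) • φ) hne) = δ * (LinearEquiv.det M₀)⁻¹ :=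
      Units.ext (by rw [det_pRefl, hval, add_sub_cancel])
    rw [this, inv_mul_cancel_right]

theorem li_single {x : V} (hx : x ≠ 0) : LinearIndependent K ![x] :=
  linearIndependent_unique_iff.2 (by simpa using hx)

theorem li_pair {x y : V} (hx : x ≠ 0) (hy : y ∉ K ∙ x) : LinearIndependent K ![x, y] :=
  linearIndependent_fin2.2 ⟨fun h => hy (by simp at h; simp [h]), fun a h => by
    simp at h
    by_cases ha : a = 0
    · simp [ha] at h; exact hx h.symm
    · exact hy (Submodule.mem_span_singleton.2 ⟨a⁻¹, by rw [← h, smul_smul, inv_mul_cancel₀ ha, one_smul]⟩)⟩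

/-- A conjugate with a prescribed value at one vector. -/
theorem exists_mapping [FiniteDimensional K V] (h3 : 3 ≤ finrank K V) {A : V ≃ₗ[K] V} {w v e : V}
    (hw : ∀ κ : K, A w ≠ κ • w) (hv : v ≠ 0) (he : e ∉ K ∙ v) :
    ∃ M : V ≃ₗ[K] V, LinearEquiv.det M = 1 ∧ M w = v ∧ M (A w) = e ∧ (M * A * M⁻¹) v = e := by
  obtain ⟨h1, h2⟩ := notMem_span_of_noneigen (f := (A : V →ₗ[K] V)) hw
  obtain ⟨M, hM, hd⟩ := exists_map ![w, A w] ![v, e] (li_pair h1 h2) (li_pair hv he) (by simp; omega) 1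
  have e0 : M w = v := hM 0
  have e1 : M (A w) = e := hM 1
  refine ⟨M, hd, e0, e1, ?_⟩
  rw [mul_apply', mul_apply', inv_apply_eq M e0, e1]

section Transport

variable {V' : Type*} [AddCommGroup V'] [Module K V'] (Φ : V ≃ₗ[K] V')

/-- Transport of automorphisms. -/
def conjHom : (V ≃ₗ[K] V) →* (V' ≃ₗ[K] V') where
  toFun f := Φ.symm.trans (f.trans Φ)
  map_one' := LinearEquiv.ext fun x => Φ.apply_symm_apply x
  map_mul' f g := LinearEquiv.ext fun x => by
    show Φ (f (g (Φ.symm x))) = Φ (f (Φ.symm (Φ (g (Φ.symm x)))))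
    rw [Φ.symm_apply_apply]

theorem conjHom_apply (f : V ≃ₗ[K] V) (x : V') : conjHom Φ f x = Φ (f (Φ.symm x)) := rfl

theorem conjHom_apply' (f : V ≃ₗ[K] V) (x : V) : conjHom Φ f (Φ x) = Φ (f x) := by
  rw [conjHom_apply, Φ.symm_apply_apply]

theorem conjHom_symm (f : V' ≃ₗ[K] V') : conjHom Φ (conjHom Φ.symm f) = f :=
  LinearEquiv.ext fun x => by simp [conjHom_apply]

theorem det_conjHom [FiniteDimensional K V] (f : V ≃ₗ[K] V) :
    LinearEquiv.det (conjHom Φ f) = LinearEquiv.det f := by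
  refine Units.ext ?_
  rw [LinearEquiv.coe_det, LinearEquiv.coe_det]
  exact LinearMap.det_conj (f : V →ₗ[K] V) Φ

theorem mem_Cl_conjHom [FiniteDimensional K V] {A X : V ≃ₗ[K] V} (hX : X ∈ Cl A) :
    conjHom Φ X ∈ Cl (conjHom Φ A) := by
  obtain ⟨M, hM, rfl⟩ := hX
  exact ⟨conjHom Φ M, fun h => by rw [det_conjHom]; exact hM (Φ.finrank_eq ▸ h), by rw [map_mul, map_mul, map_inv]⟩

theorem Good.transport [FiniteDimensional K V] {A g : V ≃ₗ[K] V} {m : ℕ} {c : K}
    (h : Good (Cl A) m g c) : Good (Cl (conjHom Φ A)) m (conjHom Φ g) c := by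
  obtain ⟨l, hl, hC, hp, hno⟩ := h
  refine ⟨l.map (conjHom Φ), by simp [hl], fun X hX => ?_, by rw [List.prod_hom, hp], fun x hx hall => ?_⟩
  · obtain ⟨Y, hY, rfl⟩ := List.mem_map.1 hX
    exact mem_Cl_conjHom Φ (hC Y hY)
  · refine hno (Φ.symm x) (by simpa using hx) fun Y hY => Φ.injective ?_
    have := hall _ (List.mem_map_of_mem hY)
    rw [conjHom_apply] at this
    rw [this, map_smul, Φ.apply_symm_apply]

end Transport

/-- Coordinates adapted to a vector. -/
theorem exists_model [FiniteDimensional K V] {e : V} (he : e ≠ 0) {m : ℕ} (hn : finrank K V = m + 1) :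
    ∃ (W : Submodule K V) (Φ : V ≃ₗ[K] K × W), Φ e = (1, 0) ∧ finrank K W = m := by
  obtain ⟨W, hW⟩ := Submodule.exists_isCompl (K ∙ e)
  refine ⟨W, (Submodule.prodEquivOfIsCompl _ W hW).symm.trans
    ((LinearEquiv.toSpanNonzeroSingleton K V e he).symm.prodCongr (LinearEquiv.refl K W)), ?_, ?_⟩
  · have e1 : (Submodule.prodEquivOfIsCompl _ W hW).symm e =
        (⟨e, Submodule.mem_span_singleton_self e⟩, 0) := by rw [LinearEquiv.symm_apply_eq]; simp
    simp only [LinearEquiv.trans_apply, e1, LinearEquiv.prodCongr_apply, map_zero]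
    refine Prod.ext ?_ rfl
    rw [LinearEquiv.symm_apply_eq]
    exact Subtype.ext (one_smul K e).symm
  · have h1 := Submodule.finrank_add_eq_of_isCompl hW
    rw [finrank_span_singleton he] at h1
    omega

end Cfsg.Agent.Classical.CovPSL
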