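import Cfsg.Agent.Lib.Classical.CovPSL.Basic

set_option autoImplicit false

/-! Dimension two: products of two conjugates. -/

namespace Cfsg.Agent.Classical.CovPSL

open Module

universe u v

variable {K : Type u} [Field K] {V : Type v} [AddCommGroup V] [Module K V] [FiniteDimensional K V]

/-- The trace. -/
noncomputable abbrev tr (f : V ≃ₗ[K] V) : K := LinearMap.trace K V (f : V →ₗ[K] V)

/-- The determinant as a scalar. -/
noncomputable abbrev dt (f : V ≃ₗ[K] V) : K := ((LinearEquiv.det f : Kˣ) : K)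

/-- The exceptional pairs in dimension two. -/
def Bad2 (A g : V ≃ₗ[K] V) : Prop :=
  ¬ (∃ c₁ c₂ : K, c₁ ≠ c₂ ∧ Eig A c₁ ∧ Eig A c₂) ∧
    (tr g = 2 * dt A ∨ ((∀ c : K, ¬ Eig A c) ∧ tr g = -(2 * dt A)))

theorem tr_dt_basis (f : V ≃ₗ[K] V) (b : Basis (Fin 2) K V) {p q r s : K}
    (h0 : f (b 0) = p • b 0 + q • b 1) (h1 : f (b 1) = r • b 0 + s • b 1) :
    tr f = p + s ∧ dt f = p * s - r * q := by
  constructor
  · rw [tr, LinearMap.trace_eq_matrix_trace K b, Matrix.trace_fin_two]
    simp [LinearMap.toMatrix_apply, h0, h1]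
  · rw [dt, LinearEquiv.coe_det, ← LinearMap.det_toMatrix b, Matrix.det_fin_two]
    simp [LinearMap.toMatrix_apply, h0, h1]

theorem exists_basis (h2 : finrank K V = 2) (f : V ≃ₗ[K] V) {w : V} (hw : ∀ κ : K, f w ≠ κ • w) :
    ∃ b : Basis (Fin 2) K V, b 0 = w ∧ b 1 = f w ∧ f (b 1) = (-dt f) • b 0 + tr f • b 1 := by
  obtain ⟨h1, h3⟩ := notMem_span_of_noneigen (f := (f : V →ₗ[K] V)) hw
  let b := basisOfLinearIndependentOfCardEqFinrank (li_pair h1 h3) (by simp [h2])
  have hb : ∀ i, b i = ![w, f w] i := fun i => by simp [b]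
  have h0 : f (b 0) = (0 : K) • b 0 + (1 : K) • b 1 := by simp [hb]
  have e := b.sum_repr (f (b 1))
  rw [Fin.sum_univ_two] at e
  obtain ⟨ht, hd⟩ := tr_dt_basis f b h0 e.symm
  refine ⟨b, by simp [hb], by simp [hb], ?_⟩
  conv_lhs => rw [← e]
  rw [ht, hd]; simp

theorem cayley (h2 : finrank K V = 2) (f : V ≃ₗ[K] V) (x : V) : f (f x) = (-dt f) • x + tr f • f x := by
  by_cases hx : ∀ κ : K, f x ≠ κ • x
  · obtain ⟨b, h0, h1, h⟩ := exists_basis h2 f hx
    rwa [h0, h1] at h
  push Not at hx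
  obtain ⟨κ, hκ⟩ := hx
  by_cases hx0 : x = 0
  · simp [hx0]
  obtain ⟨y, hy⟩ : ∃ y, y ∉ K ∙ x := by
    by_contra hno
    push Not at hno
    have := Submodule.finrank_mono (show (⊤ : Submodule K V) ≤ K ∙ x from fun y _ => hno y)
    rw [finrank_top, finrank_span_singleton hx0] at this
    omega
  let b := basisOfLinearIndependentOfCardEqFinrank (li_pair hx0 hy) (by simp [h2])
  have hb : ∀ i, b i = ![x, y] i := fun i => by simp [b]
  have h0 : f (b 0) = κ • b 0 + (0 : K) • b 1 := by simp [hb, hκ]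
  have e := b.sum_repr (f (b 1))
  rw [Fin.sum_univ_two] at e
  obtain ⟨ht, hd⟩ := tr_dt_basis f b h0 e.symm
  rw [hκ, map_smul, hκ, ht, hd]
  module

theorem eig_iff (h2 : finrank K V = 2) (f : V ≃ₗ[K] V) (hf : NS (K := K) f) (c : K) :
    Eig f c ↔ c * c - tr f * c + dt f = 0 := by
  constructor
  · rintro ⟨x, hx0, hx⟩
    have h := cayley h2 f x
    rw [hx, map_smul, hx] at h
    by_contra hne
    refine hx0 ((smul_eq_zero.1 (?_ : (c * c - tr f * c + dt f) • x = 0)).resolve_left hne)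
    linear_combination (norm := module) h
  · intro hc
    obtain ⟨w, hw⟩ := NS.exists_noneigen (f := (f : V →ₗ[K] V)) hf
    refine ⟨f w - (tr f - c) • w, fun h => hw (tr f - c) (sub_eq_zero.1 h), ?_⟩
    rw [map_sub, map_smul, cayley h2 f w, show -dt f = c * c - tr f * c by linear_combination -hc]
    module

theorem similar (h2 : finrank K V = 2) (f f' : V ≃ₗ[K] V) (hf : NS (K := K) f) (hf' : NS (K := K) f')
    (ht : tr f = tr f') (hd : dt f = dt f') : ∃ M : V ≃ₗ[K] V, f' = M * f * M⁻¹ := by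
  obtain ⟨w, hw⟩ := NS.exists_noneigen (f := (f : V →ₗ[K] V)) hf
  obtain ⟨w', hw'⟩ := NS.exists_noneigen (f := (f' : V →ₗ[K] V)) hf'
  obtain ⟨b, h0, h1, h⟩ := exists_basis h2 f hw
  obtain ⟨b', h0', h1', h'⟩ := exists_basis h2 f' hw'
  set M := b.equiv b' (Equiv.refl _) with hM
  have hMb : ∀ i, M (b i) = b' i := fun i => Basis.equiv_apply b i b' (Equiv.refl _)
  refine ⟨M, ?_⟩
  rw [eq_mul_inv_iff_mul_eq]
  refine LinearEquiv.toLinearMap_injective (b.ext fun i => ?_)
  show f' (M (b i)) = M (f (b i))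
  rw [hMb]
  fin_cases i
  · show f' (b' 0) = M (f (b 0))
    rw [h0, ← h1, hMb, h0', h1']
  · show f' (b' 1) = M (f (b 1))
    rw [h, h', map_add, map_smul, map_smul, hMb, hMb, ht, hd]

/-- The equation for the first factor. -/
theorem exists_conic [Fintype K] (s d τ : K) (hroot : ∀ x : K, x * x - s * x + d ≠ 0) (h1 : τ ≠ 2) (h2 : τ ≠ -2) :
    ∃ x w : K, x * x + τ * x * w + w * w - s * x - s * w + d = 0 := by
  have hp : 2 + τ ≠ 0 := fun h => h2 (by linear_combination h)
  set x₀ := s / (2 + τ) with hx₀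
  have hx : x₀ * (2 + τ) = s := div_mul_cancel₀ _ hp
  obtain ⟨a, b, hab⟩ : ∃ a b : K, a * a + τ * a * b + b * b = s * x₀ - d := by
    by_cases hc : ringChar K = 2
    · obtain ⟨a, ha⟩ := FiniteField.isSquare_of_char_two hc (s * x₀ - d)
      exact ⟨a, 0, by rw [ha]; ring⟩
    have h20 : (2 : K) ≠ 0 := Ring.two_ne_zero hc
    set u := τ / 2 with hu
    have hτ : τ = u + u := by rw [hu, ← two_mul, mul_div_cancel₀ _ h20]
    set k : K := 1 - u * u with hk
    have hk0 : k ≠ 0 := fun h => by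
      have e : (u - 1) * (u + 1) = 0 := by rw [hk] at h; linear_combination -h
      rcases mul_eq_zero.1 e with e | e
      · exact h1 (by rw [hτ]; linear_combination 2 * e)
      · exact h2 (by rw [hτ]; linear_combination 2 * e)
    obtain ⟨a, b, h⟩ := FiniteField.exists_root_sum_quadratic (R := K)
      (f := Polynomial.X ^ 2) (g := Polynomial.C k * Polynomial.X ^ 2 - Polynomial.C (s * x₀ - d))
      (Polynomial.degree_X_pow 2)
      (by rw [Polynomial.degree_sub_C (by rw [Polynomial.degree_C_mul_X_pow 2 hk0]; norm_num),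
        Polynomial.degree_C_mul_X_pow 2 hk0]; rfl)
      (FiniteField.odd_card_of_char_ne_two hc)
    simp only [Polynomial.eval_pow, Polynomial.eval_X, Polynomial.eval_sub, Polynomial.eval_mul,
      Polynomial.eval_C] at h
    refine ⟨a - u * b, b, ?_⟩
    rw [hk] at h
    rw [hτ]
    linear_combination h
  refine ⟨x₀ + a, x₀ + b, ?_⟩
  linear_combination hab + (a + b + x₀) * hx

/-- Two conjugates in dimension two. -/
theorem good_two [Fintype K] (h2 : finrank K V = 2) {A g : V ≃ₗ[K] V} (hA : NS (K := K) A) (hg : NS (K := K) g)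
    (hd : dt g = dt A * dt A) (hbad : ¬ Bad2 A g) (c : K) : Good (Cl A) 2 g c := by
  obtain ⟨e, he⟩ := NS.exists_noneigen (f := (g : V →ₗ[K] V)) hg
  obtain ⟨b, hb0, hb1, hgb⟩ := exists_basis h2 g he
  have hg0 : g (b 0) = b 1 := by rw [hb0, hb1]
  set d := dt A
  set s := tr A
  set t := tr g
  have hd0 : d ≠ 0 := Units.ne_zero _
  rw [hd] at hgb
  -- it is enough to find the first factor
  suffices hX : ∃ x y z w : K, x + w = s ∧ x * w - y * z = d ∧ y - (d * d) * z + t * w = s * (t - d) ∧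
      ¬ (z = 0 ∧ y = 0 ∧ x = w) ∧ (∀ κ : K, κ * x = 0 → κ * z = 1 → s = 2 * κ → κ * κ = d → False) ∧
      (Eig A c → z = 0 ∧ x = c) by
    obtain ⟨x, y, z, w, hs, hdd, htr, hns, hY, hcommon⟩ := hX
    let f : V →ₗ[K] V := b.constr K ![x • b 0 + z • b 1, y • b 0 + w • b 1]
    have hf : f.det ≠ 0 := by
      rw [← LinearMap.det_toMatrix b, Matrix.det_fin_two]
      simp [f, LinearMap.toMatrix_apply, hdd, hd0]
    let X : V ≃ₗ[K] V := LinearMap.equivOfDetNeZero f hf
    have hX0 : X (b 0) = x • b 0 + z • b 1 := by simp [X, f, LinearMap.equivOfDetNeZero]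
    have hX1 : X (b 1) = y • b 0 + w • b 1 := by simp [X, f, LinearMap.equivOfDetNeZero]
    obtain ⟨hXt, hXd⟩ := tr_dt_basis X b hX0 hX1
    rw [hdd] at hXd
    rw [hs] at hXt
    have key : ∀ {a' b' c' d' : K}, a' • b 0 + b' • b 1 = c' • b 0 + d' • b 1 → a' = c' ∧ b' = d' := fun h => by
      have := congrArg b.repr h
      simp only [map_add, map_smul, Basis.repr_self] at this
      exact ⟨by simpa using congrArg (fun F => F 0) this, by simpa using congrArg (fun F => F 1) this⟩
    have hNSX : NS (K := K) X := fun κ => by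
      by_contra hno
      push Not at hno
      have e0 := hno (b 0)
      have e1 := hno (b 1)
      rw [hX0, show κ • b 0 = κ • b 0 + (0 : K) • b 1 by simp] at e0
      rw [hX1, show κ • b 1 = (0 : K) • b 0 + κ • b 1 by simp] at e1
      exact hns ⟨(key e0).2, (key e1).1, by rw [(key e0).1, (key e1).2]⟩
    obtain ⟨M, hM⟩ := similar h2 A X hA hNSX hXt.symm hXd.symm
    have hXC : X ∈ Cl A := ⟨M, fun h => absurd h (by omega), hM⟩
    set Y := g * X⁻¹ with hY'
    have hXinv : ∀ v, d • X⁻¹ v = s • v - X v := fun v => by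
      have := cayley h2 X (X⁻¹ v)
      rw [apply_inv, hXd, hXt] at this
      linear_combination (norm := module) this
    have hYd : dt Y = d := by
      have h1 : dt (g * X⁻¹) * dt X = dt g := by
        simp only [dt, map_mul, map_inv, Units.val_mul, mul_assoc, ← Units.val_mul, inv_mul_cancel, mul_one]
      rw [hXd, hd] at h1
      exact mul_right_cancel₀ hd0 h1
    have hY0 : Y (b 0) = d⁻¹ • ((s - x) • b 1 - z • ((-(d * d)) • b 0 + t • b 1)) := by
      rw [hY', mul_apply']
      conv_lhs => rw [show X⁻¹ (b 0) = d⁻¹ • (d • X⁻¹ (b 0)) by rw [smul_smul, inv_mul_cancel₀ hd0, one_smul]]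
      rw [hXinv, hX0]
      simp only [map_smul, map_sub, map_add, hg0, hgb]
      module
    have hY1 : Y (b 1) = d⁻¹ • ((-y) • b 1 + (s - w) • ((-(d * d)) • b 0 + t • b 1)) := by
      rw [hY', mul_apply']
      conv_lhs => rw [show X⁻¹ (b 1) = d⁻¹ • (d • X⁻¹ (b 1)) by rw [smul_smul, inv_mul_cancel₀ hd0, one_smul]]
      rw [hXinv, hX1]
      simp only [map_smul, map_sub, map_add, hg0, hgb]
      module
    have hY0' : Y (b 0) = (d⁻¹ * z * (d * d)) • b 0 + (d⁻¹ * (s - x - z * t)) • b 1 := by rw [hY0]; module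
    have hY1' : Y (b 1) = (d⁻¹ * (s - w) * (-(d * d))) • b 0 + (d⁻¹ * (-y + (s - w) * t)) • b 1 := by rw [hY1]; module
    have hYt : tr Y = s := by
      rw [(tr_dt_basis Y b hY0' hY1').1]
      field_simp
      linear_combination -htr
    have hNSY : NS (K := K) Y := fun κ => by
      by_contra hno
      push Not at hno
      have hgX : ∀ v, g v = κ • X v := fun v => by
        have := hno (X v)
        rwa [hY', mul_apply', inv_apply'] at this
      have e0 := hgX (b 0)
      rw [hg0, hX0] at e0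
      have hk : Y (b 0) = κ • b 0 + (0 : K) • b 1 := by simp [hno (b 0)]
      have hk' : Y (b 1) = (0 : K) • b 0 + κ • b 1 := by simp [hno (b 1)]
      obtain ⟨ht2, hd2⟩ := tr_dt_basis Y b hk hk'
      obtain ⟨e2, e3⟩ := key (show (κ * x) • b 0 + (κ * z) • b 1 = (0 : K) • b 0 + (1 : K) • b 1 by
        linear_combination (norm := module) -(1 : K) • e0)
      exact hY κ e2 e3 (by rw [← hYt, ht2]; ring) (by rw [← hYd, hd2]; ring)
    obtain ⟨M', hM'⟩ := similar h2 A Y hA hNSY hYt.symm hYd.symm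
    refine ⟨[Y, X], rfl, ?_, ?_, fun v hv hall => ?_⟩
    · simp only [List.mem_cons, List.not_mem_nil, or_false, forall_eq_or_imp, forall_eq]
      exact ⟨⟨M', fun h => absurd h (by omega), hM'⟩, hXC⟩
    · simp [hY']
    · have hXv : X v = c • v := hall X (by simp)
      have hEig : Eig A c := ⟨M⁻¹ v, by simpa using hv, M.injective (by
        rw [map_smul, apply_inv, ← hXv, hM, mul_apply', mul_apply'])⟩
      obtain ⟨hz, hx⟩ := hcommon hEig
      obtain ⟨p, q, rfl⟩ : ∃ p q : K, p • b 0 + q • b 1 = v := ⟨_, _, by rw [← Fin.sum_univ_two (fun i => b.repr v i • b i), b.sum_repr]⟩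
      rw [map_add, map_smul, map_smul, hX0, hX1, hz, hx] at hXv
      obtain ⟨h5, h6⟩ := key (show (p * c + q * y) • b 0 + (q * w) • b 1 = (c * p) • b 0 + (c * q) • b 1 by
        linear_combination (norm := module) hXv)
      have hq : q = 0 := by
        by_contra hq
        refine hns ⟨hz, ?_, ?_⟩
        · exact (mul_eq_zero.1 (by linear_combination h5 : q * y = 0)).resolve_left hq
        · rw [hx]; exact (mul_left_cancel₀ hq (by linear_combination h6)).symm
      have hp : p ≠ 0 := fun hp => hv (by simp [hp, hq])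
      have := hall Y (by simp)
      rw [hq, zero_smul, add_zero, map_smul, hY0', smul_comm c p] at this
      have h7 := smul_right_injective V hp this
      rw [hz, hx] at h7
      obtain ⟨-, h8⟩ := key (show (d⁻¹ * 0 * (d * d)) • b 0 + (d⁻¹ * (s - c - 0 * t)) • b 1 =
        c • b 0 + (0 : K) • b 1 by rw [zero_smul, add_zero]; exact h7)
      rw [zero_mul, sub_zero, mul_eq_zero] at h8
      rcases h8 with h8 | h8
      · exact inv_ne_zero hd0 h8
      · rw [hz, mul_zero, sub_zero, hx] at hdd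
        exact hd0 (by rw [← hdd, show w = 0 by linear_combination hs + h8 - hx, mul_zero])
  by_cases hsplit : ∃ c₁ : K, Eig A c₁
  · obtain ⟨c₁, hc₁, hcc⟩ : ∃ c₁ : K, Eig A c₁ ∧ (Eig A c → c₁ = c) := by
      by_cases hc : Eig A c
      · exact ⟨c, hc, fun _ => rfl⟩
      · obtain ⟨c₁, hc₁⟩ := hsplit; exact ⟨c₁, hc₁, fun h => absurd h hc⟩
    have hroot := (eig_iff h2 A hA c₁).1 hc₁
    refine ⟨c₁, t * c₁ - s * d, 0, s - c₁, by ring, by linear_combination -hroot, by ring, ?_, ?_,
      fun h => ⟨rfl, hcc h⟩⟩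
    · rintro ⟨-, hy, hxw⟩
      refine hbad ⟨?_, Or.inl ?_⟩
      · rintro ⟨a, a', hne, ha, ha'⟩
        have h1 := (eig_iff h2 A hA a).1 ha
        have h2' := (eig_iff h2 A hA a').1 ha'
        have ea : (a - c₁) * (a - c₁) = 0 := by linear_combination h1 - hroot + (-(a - c₁)) * hxw
        have eb : (a' - c₁) * (a' - c₁) = 0 := by linear_combination h2' - hroot + (-(a' - c₁)) * hxw
        exact hne ((sub_eq_zero.1 (mul_self_eq_zero.1 ea)).trans (sub_eq_zero.1 (mul_self_eq_zero.1 eb)).symm)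
      · have hc0 : c₁ ≠ 0 := fun h => hd0 (by linear_combination hroot + (s - c₁) * h)
        exact mul_left_cancel₀ hc0 (by linear_combination hy - d * hxw)
    · intro κ _ h1 _ _
      simp at h1
  · push Not at hsplit
    have hroot : ∀ x : K, x * x - s * x + d ≠ 0 := fun x h => hsplit x ((eig_iff h2 A hA x).2 h)
    have hns2 : ¬ ∃ c₁ c₂ : K, c₁ ≠ c₂ ∧ Eig A c₁ ∧ Eig A c₂ := fun ⟨a, _, _, ha, _⟩ => hsplit a ha
    obtain ⟨x, w', hxw⟩ := exists_conic s d (t / d) hroot
      (fun h => hbad ⟨hns2, Or.inl ((div_eq_iff hd0).1 h)⟩)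
      (fun h => hbad ⟨hns2, Or.inr ⟨hsplit, by linear_combination (div_eq_iff hd0).1 h⟩⟩)
    set z := w' / d with hzd
    have hw' : w' = z * d := (div_mul_cancel₀ _ hd0).symm
    have hz : z ≠ 0 := fun h => hroot x (by rw [hw', h] at hxw; linear_combination hxw)
    have heq : x * x - s * x + d + d * d * z * z + t * x * z - s * d * z = 0 := by
      rw [hw'] at hxw
      field_simp at hxw ⊢
      linear_combination hxw
    refine ⟨x, (x * (s - x) - d) / z, z, s - x, by ring, by field_simp; ring, ?_, fun h => hz h.1,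
      fun κ h0 h1 h3 h4 => ?_, fun h => absurd h (hsplit c)⟩
    · field_simp
      linear_combination -heq
    · refine hroot κ ?_
      rw [h3]; linear_combination -h4

end Cfsg.Agent.Classical.CovPSL
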