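import Cfsg.Agent.Lib.Classical.CovPSL.Cyc
import Cfsg.Agent.Lib.Classical.CovPSL.Two

set_option autoImplicit false

/-! Two cyclic operators have conjugates whose product is split with lines as eigenspaces. -/

namespace Cfsg.Agent.Classical.CovPSL

open Module Polynomial

universe u v

variable {K : Type u} [Field K] {V : Type v} [AddCommGroup V] [Module K V] [FiniteDimensional K V]

/-- A cyclic vector. -/
def CycVec (f : V ≃ₗ[K] V) (w : V) : Prop :=
  LinearIndependent K (fun i : Fin (finrank K V) => ((f : Module.End K V) ^ (i : ℕ)) w)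

/-- The weight governing the determinant of the second conjugator. -/
def wt {m : ℕ} (t : Fin m → Kˣ) : Kˣ := ∏ l, t l ^ ((l : ℕ) + 1)

theorem wt_mul {m : ℕ} (t t' : Fin m → Kˣ) : wt (t * t') = wt t * wt t' := by
  simp [wt, mul_pow, Finset.prod_mul_distrib]

theorem wt_mulSingle {m : ℕ} (i : Fin m) (a : Kˣ) : wt (Pi.mulSingle i a) = a ^ ((i : ℕ) + 1) := by
  rw [wt, Finset.prod_eq_single i]
  · simp
  · intro j _ hj; simp [Pi.mulSingle_eq_of_ne hj]
  · simp

theorem ann_of_charpoly {f : Module.End K V} {l : List K} (h : f.charpoly = pol l) : Ann f l := by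
  rw [Ann, ← h]; exact LinearMap.aeval_self_charpoly f

/-- The bidiagonal shape with a free first column. -/
theorem spl_column {m : ℕ} (hn : finrank K V = m + 1) (e : Basis (Fin (m + 1)) K V) {T : Module.End K V}
    (t : Fin m → Kˣ) {b : K} (hdet : LinearMap.det T = b * ∏ j, (t j : K)) (hbt : ∀ j, b ≠ t j)
    (hT : ∀ j : Fin m, T (e j.succ) = (t j : K) • e j.succ +
      if h : (j : ℕ) + 1 < m then e (Fin.succ ⟨(j : ℕ) + 1, h⟩) else 0) :
    Spl T (b :: List.ofFn fun j => (t j : K)) := by
  classical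
  set M := LinearMap.toMatrix e e T
  have hss : ∀ i j : Fin m, M i.succ j.succ =
      (if i = j then (t j : K) else 0) + if (j : ℕ) + 1 = i then 1 else 0 := fun i j => by
    show LinearMap.toMatrix e e T i.succ j.succ = _
    rw [LinearMap.toMatrix_apply, hT]
    split_ifs with h1 h2 h3 h4 <;>
      simp_all [Finsupp.single_apply, Fin.ext_iff, eq_comm] <;> omega
  have hzs : ∀ j : Fin m, M 0 j.succ = 0 := fun j => by
    show LinearMap.toMatrix e e T 0 j.succ = _
    rw [LinearMap.toMatrix_apply, hT]
    split_ifs <;> simp [Finsupp.single_apply, (Fin.succ_ne_zero _)]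
  have hlow : ∀ i j, i < j → M i j = 0 := fun i j h => by
    cases j using Fin.cases with
    | zero => exact absurd h (by simp)
    | succ j =>
      cases i using Fin.cases with
      | zero => exact hzs j
      | succ i =>
        have h' := Fin.lt_def.1 (Fin.succ_lt_succ_iff.1 h)
        rw [hss, if_neg (fun e => by rw [e] at h'; omega), if_neg (by omega), add_zero]
  have hdiag : ∀ j : Fin m, M j.succ j.succ = t j := fun j => by rw [hss]; simp
  have h00 : M 0 0 = b := by
    have h1 : M.det = b * ∏ j, (t j : K) := (LinearMap.det_toMatrix e T).trans hdet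
    rw [Matrix.det_of_lowerTriangular _ (fun i j h => hlow i j h), Fin.prod_univ_succ] at h1
    simp only [hdiag] at h1
    exact mul_right_cancel₀ (Finset.prod_ne_zero_iff.2 fun j _ => (t j).ne_zero) h1
  refine ⟨by simp [hn], ann_of_charpoly ?_, fun c x y hx hfx hfy => ?_⟩
  · have hup : (Matrix.transpose M).BlockTriangular id := fun i j h => hlow j i h
    rw [← LinearMap.charpoly_toMatrix T e, ← Matrix.charpoly_transpose]
    show (Matrix.transpose M).charpoly = _
    rw [Matrix.charpoly_of_upperTriangular _ hup, Fin.prod_univ_succ, pol_cons]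
    simp only [Matrix.transpose_apply]
    congr 1
    · rw [← h00]
    · simp [pol, List.map_ofFn, List.prod_ofFn, hdiag, M]
  -- coordinates of an eigenvector
  have hrow : ∀ z, T z = c • z → ∀ i, ∑ l, M i l * e.repr z l = c * e.repr z i := fun z hz i => by
    have := congrFun (LinearMap.toMatrix_mulVec_repr e e T z) i
    rw [hz, map_smul] at this
    simpa [Matrix.mulVec, dotProduct] using this
  have hrow0 : ∀ z, T z = c • z → (b - c) * e.repr z 0 = 0 := fun z hz => by
    have := hrow z hz 0
    rw [Fin.sum_univ_succ, h00] at this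
    simp only [hzs, zero_mul, Finset.sum_const_zero, add_zero] at this
    linear_combination this
  have hrowS : ∀ z, T z = c • z → ∀ i : Fin m, M i.succ 0 * e.repr z 0 + ((t i : K) - c) * e.repr z i.succ +
      (if h : 0 < (i : ℕ) then e.repr z (Fin.succ ⟨(i : ℕ) - 1, by omega⟩) else 0) = 0 := fun z hz i => by
    have := hrow z hz i.succ
    rw [Fin.sum_univ_succ] at this
    simp only [hss, add_mul, ite_mul, one_mul, zero_mul, Finset.sum_add_distrib, Finset.sum_ite_eq,
      Finset.mem_univ, if_true] at this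
    have e2 : (∑ l : Fin m, if (l : ℕ) + 1 = i then e.repr z l.succ else 0) =
        if h : 0 < (i : ℕ) then e.repr z (Fin.succ ⟨(i : ℕ) - 1, by omega⟩) else 0 := by
      split_ifs with h
      · rw [Finset.sum_eq_single (⟨(i : ℕ) - 1, by omega⟩ : Fin m)]
        · rw [if_pos (by simp only; omega)]
        · intro l _ hl; rw [if_neg fun e => hl (Fin.ext (by simp only; omega))]
        · simp
      · exact Finset.sum_eq_zero fun l _ => if_neg (by omega)
    rw [e2] at this
    linear_combination this
  -- one coordinate detects the eigenvectors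
  obtain ⟨i₀, hi₀⟩ : ∃ i₀, ∀ z, T z = c • z → e.repr z i₀ = 0 → z = 0 := by
    have finish : ∀ z, e.repr z 0 = 0 → (∀ i : Fin m, e.repr z i.succ = 0) → z = 0 := fun z h0 h =>
      e.repr.map_eq_zero_iff.1 (Finsupp.ext fun i => by cases i using Fin.cases <;> simp [h0, h])
    by_cases hc : c = b
    · refine ⟨0, fun z hz h0 => finish z h0 fun i => ?_⟩
      obtain ⟨k, hk⟩ := i
      induction k with
      | zero =>
        have := hrowS z hz ⟨0, hk⟩
        simp only [h0, mul_zero, zero_add, lt_irrefl, dite_false, add_zero] at this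
        exact (mul_eq_zero.1 this).resolve_left (sub_ne_zero.2 fun e => hbt _ (hc.symm.trans e.symm))
      | succ k ih =>
        have := hrowS z hz ⟨k + 1, hk⟩
        simp only [h0, mul_zero, zero_add, Nat.succ_pos', dite_true, Nat.add_sub_cancel, ih (by omega), add_zero]
          at this
        exact (mul_eq_zero.1 this).resolve_left (sub_ne_zero.2 fun e => hbt _ (hc.symm.trans e.symm))
    · refine ⟨Fin.last m, fun z hz hl => ?_⟩
      have h0 : e.repr z 0 = 0 := (mul_eq_zero.1 (hrow0 z hz)).resolve_left (sub_ne_zero.2 (Ne.symm hc))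
      refine finish z h0 fun i => ?_
      obtain ⟨k, hk⟩ := i
      obtain ⟨r, hr⟩ : ∃ r, k + r + 1 = m := ⟨m - 1 - k, by omega⟩
      induction r generalizing k with
      | zero => rwa [show Fin.succ (⟨k, hk⟩ : Fin m) = Fin.last m from Fin.ext (by simp; omega)]
      | succ r ih =>
        have := hrowS z hz ⟨k + 1, by omega⟩
        simp only [h0, mul_zero, zero_add, Nat.succ_pos', dite_true, Nat.add_sub_cancel,
          ih (k + 1) (by omega) (by omega)] at this
        exact this
  have hxi : e.repr x i₀ ≠ 0 := fun h => hx (hi₀ x hfx h)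
  refine Submodule.mem_span_singleton.2 ⟨e.repr y i₀ / e.repr x i₀, (sub_eq_zero.1 ?_).symm⟩
  refine hi₀ _ (by rw [map_sub, map_smul, hfx, hfy, smul_sub, smul_comm]) ?_
  simp [hxi]

theorem CycVec.basis {f : V ≃ₗ[K] V} {w : V} (h : CycVec f w) {m : ℕ} (hn : finrank K V = m + 1) :
    ∃ e : Basis (Fin (m + 1)) K V, ∀ i, e i = ((f : Module.End K V) ^ (i : ℕ)) w := by
  haveI : Nonempty (Fin (finrank K V)) := ⟨⟨0, by omega⟩⟩
  let e := basisOfLinearIndependentOfCardEqFinrank h (by simp)
  exact ⟨e.reindex (finCongr hn), fun i => by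
    rw [Basis.reindex_apply]
    exact congrFun (coe_basisOfLinearIndependentOfCardEqFinrank'
      (fun i : Fin (finrank K V) => ((f : Module.End K V) ^ (i : ℕ)) w) h (by simp)) _⟩

/-- Products of conjugates of two cyclic operators. -/
theorem exists_block_pair {m : ℕ} (hn : finrank K V = m + 1) {P₁ P₂ : V ≃ₗ[K] V} {w₁ w₂ : V} (h₁ : CycVec P₁ w₁)
    (h₂ : CycVec P₂ w₂) :
    ∃ ρ : Kˣ, ∀ (t : Fin m → Kˣ) (b : K), b * ∏ j, (t j : K) = dt P₁ * dt P₂ → (∀ j, b ≠ t j) →
      ∃ M₁ M₂ : V ≃ₗ[K] V, LinearEquiv.det M₁ = 1 ∧ LinearEquiv.det M₂ = ρ * wt t ∧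
        Spl (((M₁ * P₁ * M₁⁻¹) * (M₂ * P₂ * M₂⁻¹) : V ≃ₗ[K] V) : V →ₗ[K] V)
          (b :: List.ofFn fun j => (t j : K)) := by
  classical
  obtain ⟨e, he⟩ := h₁.basis hn
  obtain ⟨g, hg⟩ := h₂.basis hn
  let Q : Module.End K V := (P₂ : Module.End K V)
  let uu : Fin m → K := fun j => if (j : ℕ) + 1 < m then 1 else 0
  -- the descending chain for all weights one
  let F : Fin (m + 1) → V := Fin.reverseInduction w₂ fun j prev => Q prev - uu j • prev
  have hFlast : F (Fin.last m) = w₂ := by simp [F]
  have hF : ∀ j : Fin m, Q (F j.succ) = F j.castSucc + uu j • F j.succ := fun j => by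
    simp [F, sub_add_cancel]
  have hspan : ⊤ ≤ Submodule.span K (Set.range F) := by
    rw [← g.span_eq, Submodule.span_le]
    rintro _ ⟨i, rfl⟩
    rw [hg]
    suffices ∀ k : ℕ, k ≤ m → (Q ^ k) w₂ ∈ Submodule.span K (F '' {l : Fin (m + 1) | m ≤ k + l}) from
      Submodule.span_mono (Set.image_subset_range _ _) (this i (Nat.lt_succ_iff.1 i.2))
    intro k
    induction k with
    | zero => intro _; exact Submodule.subset_span ⟨Fin.last m, by simp, by simpa using hFlast⟩
    | succ k ih =>
      intro hk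
      rw [pow_succ', Module.End.mul_apply]
      refine Submodule.span_induction (p := fun z _ => Q z ∈ _) ?_ (by simp)
        (fun a b _ _ ha hb => by rw [map_add]; exact add_mem ha hb)
        (fun a z _ hz => by rw [map_smul]; exact Submodule.smul_mem _ a hz) (ih (by omega))
      rintro _ ⟨l, hl, rfl⟩
      obtain ⟨j, rfl⟩ : ∃ j : Fin m, l = j.succ := by
        simp only [Set.mem_setOf_eq] at hl
        exact ⟨⟨(l : ℕ) - 1, by omega⟩, Fin.ext (by simp; omega)⟩
      simp only [Set.mem_setOf_eq, Fin.val_succ] at hl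
      rw [hF]
      exact add_mem (Submodule.subset_span ⟨_, by simp; omega, rfl⟩)
        (Submodule.smul_mem _ _ (Submodule.subset_span ⟨_, by simp; omega, rfl⟩))
  let fB := basisOfTopLeSpanOfCardEqFinrank F hspan (by simp [hn])
  have hfB : ∀ i, fB i = F i := fun i => by simp [fB]
  let M₀ := fB.equiv e (Equiv.refl _)
  refine ⟨LinearEquiv.det M₀, fun t b hb hbt => ?_⟩
  let cc : Fin (m + 1) → Kˣ := fun i => ∏ l ∈ Finset.univ.filter (fun l : Fin m => (i : ℕ) ≤ l), t l
  have hcc : ∀ j : Fin m, cc j.castSucc = t j * cc j.succ := fun j => by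
    have : Finset.univ.filter (fun l : Fin m => (j : ℕ) ≤ l) =
        insert j (Finset.univ.filter fun l : Fin m => (j : ℕ) + 1 ≤ l) := by
      ext l; simp [Fin.ext_iff]; omega
    simp only [cc, Fin.val_castSucc, Fin.val_succ]
    rw [this, Finset.prod_insert (by simp)]
  let D := (fB.unitsSMul fun i => (cc i)⁻¹).equiv fB (Equiv.refl _)
  have hD : ∀ i, D (fB i) = (cc i : K) • fB i := fun i => by
    have e1 := Basis.equiv_apply (fB.unitsSMul fun i => (cc i)⁻¹) i fB (Equiv.refl _)
    rw [Basis.unitsSMul_apply, Equiv.refl_apply, Units.smul_def, map_smul] at e1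
    show (fB.unitsSMul fun i => (cc i)⁻¹).equiv fB (Equiv.refl _) (fB i) = _
    conv_rhs => rw [← e1]
    rw [smul_smul, ← Units.val_mul, mul_inv_cancel, Units.val_one, one_smul]
  have hDdet : LinearEquiv.det D = wt t := Units.ext (by
    rw [LinearEquiv.coe_det, ← LinearMap.det_toMatrix fB,
      show LinearMap.toMatrix fB fB D.toLinearMap = Matrix.diagonal fun i => (cc i : K) from by
        ext i j
        rw [LinearMap.toMatrix_apply, LinearEquiv.coe_coe, hD]
        rcases eq_or_ne i j with rfl | hij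
        · simp
        · simp [hij, Finsupp.single_apply, Ne.symm hij],
      Matrix.det_diagonal, ← Units.coe_prod]
    congr 1
    simp only [cc, wt, Finset.prod_filter]
    rw [Finset.prod_comm]
    refine Finset.prod_congr rfl fun l _ => ?_
    rw [← Finset.prod_filter, Finset.prod_const]
    congr 1
    rw [show (Finset.univ.filter fun i : Fin (m + 1) => (i : ℕ) ≤ l) = Finset.Iic (l.castSucc) from by
      ext i; simp [Fin.le_def], Fin.card_Iic]
    simp)
  refine ⟨1, M₀ * D, map_one _, by rw [map_mul, hDdet], ?_⟩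
  set X := (1 : V ≃ₗ[K] V) * P₁ * (1 : V ≃ₗ[K] V)⁻¹
  set Y := (M₀ * D) * P₂ * (M₀ * D)⁻¹
  refine spl_column hn e t ?_ hbt fun j => ?_
  · rw [hb, ← LinearEquiv.coe_det, dt, dt, ← Units.val_mul]
    congr 1
    have hc : ∀ M P : V ≃ₗ[K] V, LinearEquiv.det (M * P * M⁻¹) = LinearEquiv.det P := fun M P => by
      rw [map_mul, map_mul, map_inv, mul_inv_cancel_comm]
    rw [map_mul, hc, hc]
  have hMD : ∀ i, (M₀ * D) (fB i) = (cc i : K) • e i := fun i => by
    rw [mul_apply', hD, map_smul]; simp [M₀]
  have hY : Y (e j.succ) = (t j : K) • e j.castSucc + uu j • e j.succ := by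
    have h1 : (M₀ * D)⁻¹ (e j.succ) = ((cc j.succ)⁻¹ : Kˣ).val • fB j.succ := by
      refine inv_apply_eq _ ?_
      rw [map_smul, hMD, smul_smul, ← Units.val_mul, inv_mul_cancel, Units.val_one, one_smul]
    simp only [Y, mul_apply' (M₀ * D * P₂), mul_apply' (M₀ * D) P₂, h1, map_smul]
    rw [hfB, show P₂ (F j.succ) = _ from hF j, map_add, map_smul, ← hfB, ← hfB, hMD, hMD, hcc, smul_add, smul_smul,
      smul_smul, smul_smul]
    congr 2 <;> simp only [Units.val_mul, Units.val_inv_eq_inv_val] <;> field_simp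
  have hX : ∀ j : Fin m, X (e j.castSucc) = e j.succ := fun j => by
    simp only [X, one_mul, inv_one, mul_one, he, Fin.val_castSucc, Fin.val_succ, pow_succ', Module.End.mul_apply]
    rfl
  show X (Y (e j.succ)) = _
  rw [hY, map_add, map_smul, map_smul, hX]
  congr 1
  simp only [uu]
  split_ifs with h
  · rw [one_smul, show j.succ = Fin.castSucc (⟨(j : ℕ) + 1, h⟩ : Fin m) from Fin.ext rfl, hX]
  · rw [zero_smul]

end Cfsg.Agent.Classical.CovPSL
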