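import Cfsg.Agent.Lib.Classical.CovPSL.Basic

set_option autoImplicit false

/-! The choice of the one factor moving the base vector. -/

namespace Cfsg.Agent.Classical.CovPSL

open Module RegUnipProduct

universe u v

variable {K : Type u} [Field K] {V : Type v} [AddCommGroup V] [Module K V] [FiniteDimensional K V]

theorem exists_notMem_span (s : List V) (h : s.length < finrank K V) :
    ∃ x, x ∉ Submodule.span K {y | y ∈ s} := by
  classical
  by_contra hc
  push Not at hc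
  have h1 : (⊤ : Submodule K V) ≤ Submodule.span K (s.toFinset : Set V) := fun x _ => by
    simpa using hc x
  have h2 := (Submodule.finrank_mono h1).trans (finrank_span_finset_le_card s.toFinset)
  rw [finrank_top] at h2
  have := s.toFinset_card_le
  omega

/-- The functional space killing two vectors has dimension at least `n - 2`. -/
theorem finrank_ann_two (a b : V) :
    finrank K V ≤ finrank K (Submodule.span K {y | y ∈ [a, b]}).dualAnnihilator + 2 := by
  classical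
  have h := Subspace.finrank_add_finrank_dualAnnihilator_eq (Submodule.span K {y | y ∈ [a, b]})
  have h1 : finrank K (Submodule.span K {y | y ∈ [a, b]}) ≤ 2 := by
    have e : {y | y ∈ [a, b]} = (({a, b} : Finset V) : Set V) := by ext y; simp
    rw [e]
    exact (finrank_span_finset_le_card _).trans Finset.card_le_two
  omega

theorem mem_pair {S : Submodule K V} {a b : V} (ha : a ∈ S) (hb : b ∈ S) {x : V}
    (hx : x ∈ Submodule.span K {y | y ∈ [a, b]}) : x ∈ S :=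
  Submodule.span_le.2 (fun y hy => by simp at hy; rcases hy with rfl | rfl <;> assumption) hx

theorem span_line_le {l : List V} {e x : V} (he : e ∈ l) (hx : x ∈ K ∙ e) : x ∈ Submodule.span K {y | y ∈ l} :=
  Submodule.span_le.2 (by simpa using Submodule.subset_span (R := K) (s := {y | y ∈ l}) he) hx

theorem mem_of_mem_list {l : List V} {x : V} (hx : x ∈ l) : x ∈ Submodule.span K {y | y ∈ l} :=
  Submodule.subset_span hx

theorem exists_ann_ne (a b : V) (h : 3 ≤ finrank K V) :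
    ∃ ψ : V →ₗ[K] K, ψ a = 0 ∧ ψ b = 0 ∧ ψ ≠ 0 := by
  set S := (Submodule.span K {y | y ∈ [a, b]}).dualAnnihilator
  have : Nontrivial S := nontrivial_of_finrank_pos (R := K) (lt_of_lt_of_le (Nat.sub_pos_of_lt h) (Nat.sub_le_iff_le_add.2 (finrank_ann_two (K := K) a b)))
  obtain ⟨⟨ψ, hψ⟩, hne⟩ := exists_ne (0 : S)
  rw [Submodule.mem_dualAnnihilator] at hψ
  exact ⟨ψ, hψ a (mem_of_mem_list (by simp)), hψ b (mem_of_mem_list (by simp)), fun e => hne (Subtype.ext e)⟩

/-- Eigenvectors for the step with non-scalar quotient. -/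
theorem exists_u (h3 : 3 ≤ finrank K V) {A : V ≃ₗ[K] V} {c : K} (hc : Eig A c) (hA : NS (K := K) A)
    (hμ : ∀ μ, R1 A μ → c = μ) :
    ∃ u, u ≠ 0 ∧ A u = c • u ∧ ∀ κ : K, ∃ x, A x - κ • x ∉ K ∙ u := by
  by_cases h : R1 A c
  · obtain ⟨a, φ, ha⟩ := h
    have hφ : φ ≠ 0 := fun e => by obtain ⟨x, hx⟩ := hA c; exact hx (by simp [ha, e])
    have ha0 : a ≠ 0 := fun e => by obtain ⟨x, hx⟩ := hA c; exact hx (by simp [ha, e])
    have hk := Module.Dual.finrank_ker_add_one_of_ne_zero (f := φ) hφ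
    obtain ⟨u, hu, hua⟩ : ∃ u ∈ LinearMap.ker φ, u ∉ K ∙ a := by
      by_contra hno
      push Not at hno
      have := Submodule.finrank_mono (show LinearMap.ker φ ≤ K ∙ a from hno)
      rw [finrank_span_singleton ha0] at this
      omega
    have hu0 : u ≠ 0 := fun e => hua (e ▸ zero_mem _)
    refine ⟨u, hu0, by rw [ha, LinearMap.mem_ker.1 hu, zero_smul, add_zero], fun κ => ?_⟩
    by_contra hno
    push Not at hno
    by_cases hκ : κ = c
    · obtain ⟨x, hx⟩ := hA c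
      have h1 := hno x
      rw [hκ, ha, add_sub_cancel_left, Submodule.mem_span_singleton] at h1
      obtain ⟨t, ht⟩ := h1
      by_cases ht0 : t = 0
      · rw [ht0, zero_smul] at ht
        exact hx (by rw [ha, ← ht, add_zero])
      · exact hua (Submodule.mem_span_singleton.2 ⟨t⁻¹ * φ x, by
          rw [mul_smul, ← ht, smul_smul, inv_mul_cancel₀ ht0, one_smul]⟩)
    · obtain ⟨x, hx⟩ := exists_notMem_span (K := K) [u, a] (by simp; omega)
      have h1 := hno x
      rw [ha] at h1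
      refine hx ((Submodule.smul_mem_iff _ (sub_ne_zero.2 (Ne.symm hκ))).1 ?_)
      rw [show (c - κ) • x = (c • x + φ x • a - κ • x) - φ x • a by module]
      exact sub_mem (span_line_le (by simp) h1) (Submodule.smul_mem _ _ (mem_of_mem_list (by simp)))
  · obtain ⟨u, hu0, hu⟩ := hc
    refine ⟨u, hu0, hu, fun κ => ?_⟩
    by_contra hno
    push Not at hno
    have hR := R1.of_line (f := (A : V →ₗ[K] V)) u hno
    exact h (by rw [hμ κ hR]; exact hR)

/-- The conjugate by a transvection. -/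
theorem exists_variant {A X : V ≃ₗ[K] V} (hX : X ∈ Cl A) {e v : V} (hXv : X v = e) (a : V) (ψ : V →ₗ[K] K)
    (ha : ψ a = 0) (he : ψ e = 0) (hv : ψ v = 0) :
    ∃ X' ∈ Cl A, X' v = e ∧ ∀ x, X'⁻¹ x = X⁻¹ x - ψ x • X⁻¹ a + (ψ (X⁻¹ x) - ψ x * ψ (X⁻¹ a)) • a := by
  have h1 : 1 + ψ a ≠ 0 := by rw [ha, add_zero]; exact one_ne_zero
  set T := pRefl a ψ h1
  have hT : ∀ x, T⁻¹ x = x - ψ x • a := fun x => inv_apply_eq _ (by
    rw [pRefl_apply]; simp [ha])
  have hd : LinearEquiv.det T = 1 := Units.ext (by rw [det_pRefl, ha, add_zero]; rfl)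
  refine ⟨T * X * T⁻¹, Cl_conj hX T fun _ => hd, ?_, fun x => ?_⟩
  · rw [mul_apply', mul_apply', hT, hv, zero_smul, sub_zero, hXv, pRefl_apply, he, zero_smul, add_zero]
  · rw [mul_inv_rev, mul_inv_rev, inv_inv, mul_apply', mul_apply', hT, pRefl_apply, map_sub, map_smul, map_sub,
      map_smul, smul_eq_mul]

/-- Modulo the line of `e`, not scalar and not `τ` plus rank one. -/
def GoodMod (e : V) (τ : K) (h : V → V) : Prop :=
  (∀ κ : K, ∃ x, h x - κ • x ∉ K ∙ e) ∧ ¬ ∃ (a : V) (φ : V →ₗ[K] K), ∀ x, h x - τ • x - φ x • a ∈ K ∙ e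

/-- Improving the factor. -/
theorem exists_adjust (h4 : 4 ≤ finrank K V) {A g X : V ≃ₗ[K] V} (hX : X ∈ Cl A) {e v : V} {ν τ : K}
    (hge : g e ∉ K ∙ e) (hgv : g v = ν • e) (hXv : X v = e) {y : V}
    (hy : g (X⁻¹ y) - τ • y ∉ Submodule.span K {z | z ∈ [e, g e]}) :
    ∃ X' ∈ Cl A, X' v = e ∧ GoodMod e τ (fun x => g (X'⁻¹ x)) := by
  have hXe : X⁻¹ e = v := inv_apply_eq _ hXv
  have hve : ∀ ψ : V →ₗ[K] K, ψ e = 0 → ψ v = 0 → ∃ X' ∈ Cl A, X' v = e ∧
      ∀ x, g (X'⁻¹ x) = g (X⁻¹ x) + ψ (X⁻¹ x) • g e - (ψ x * ν) • e := fun ψ he hv => by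
    obtain ⟨X', h1, h2, h3⟩ := exists_variant hX hXv e ψ he he hv
    exact ⟨X', h1, h2, fun x => by
      rw [h3, hXe, hv, mul_zero, sub_zero, map_add, map_sub, map_smul, map_smul, hgv, smul_smul]; abel⟩
  have hge' : g e ∈ Submodule.span K {z | z ∈ [e, g e]} := mem_of_mem_list (by simp)
  have hline : ∀ {z : V}, z ∈ K ∙ e → z ∈ Submodule.span K {z | z ∈ [e, g e]} := fun hz =>
    span_line_le (by simp) hz
  by_cases hsc : ∃ κ : K, ∀ x, g (X⁻¹ x) - κ • x ∈ K ∙ e
  · obtain ⟨κ, hκ⟩ := hsc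
    have hκτ : κ ≠ τ := fun h => hy (hline (h ▸ hκ y))
    obtain ⟨ψ, he, hv, hψ⟩ := exists_ann_ne (K := K) e v (by omega)
    obtain ⟨X', h1, h2, h3⟩ := hve ψ he hv
    obtain ⟨x₀, hx₀⟩ : ∃ x, ψ (X⁻¹ x) ≠ 0 := by
      by_contra hno
      push Not at hno
      exact hψ (LinearMap.ext fun x => by simpa [inv_apply'] using hno (X x))
    have hd : ∀ x, g (X'⁻¹ x) - κ • x - ψ (X⁻¹ x) • g e ∈ K ∙ e := fun x => by
      rw [h3, show g (X⁻¹ x) + ψ (X⁻¹ x) • g e - (ψ x * ν) • e - κ • x - ψ (X⁻¹ x) • g e =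
        (g (X⁻¹ x) - κ • x) - (ψ x * ν) • e by abel]
      exact sub_mem (hκ x) (Submodule.smul_mem _ _ (Submodule.mem_span_singleton_self e))
    refine ⟨X', h1, h2, fun κ' => ?_, ?_⟩
    · by_contra hno
      push Not at hno
      by_cases hk : κ' = κ
      · refine hge ((Submodule.smul_mem_iff _ hx₀).1 ?_)
        have := sub_mem (hno x₀) (hd x₀)
        rw [hk] at this
        simpa using this
      · obtain ⟨x, hx⟩ := exists_notMem_span (K := K) [e, g e] (by simp; omega)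
        refine hx ((Submodule.smul_mem_iff _ (sub_ne_zero.2 hk)).1 ?_)
        rw [show (κ' - κ) • x = (g (X'⁻¹ x) - κ • x - ψ (X⁻¹ x) • g e) - (g (X'⁻¹ x) - κ' • x) +
          ψ (X⁻¹ x) • g e by module]
        exact add_mem (hline (sub_mem (hd x) (hno x))) (Submodule.smul_mem _ _ hge')
    · rintro ⟨a, φ, ha⟩
      obtain ⟨x, hx⟩ := exists_notMem_span (K := K) [e, g e, a] (by simp; omega)
      refine hx ((Submodule.smul_mem_iff _ (sub_ne_zero.2 hκτ)).1 ?_)
      rw [show (κ - τ) • x = (g (X'⁻¹ x) - τ • x - φ x • a) - (g (X'⁻¹ x) - κ • x - ψ (X⁻¹ x) • g e) -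
        ψ (X⁻¹ x) • g e + φ x • a by module]
      exact add_mem (sub_mem (span_line_le (by simp) (sub_mem (ha x) (hd x)))
        (Submodule.smul_mem _ _ (mem_of_mem_list (by simp)))) (Submodule.smul_mem _ _ (mem_of_mem_list (by simp)))
  push Not at hsc
  by_cases hr : ∃ (p : V) (α : V →ₗ[K] K), ∀ x, g (X⁻¹ x) - τ • x - α x • p ∈ K ∙ e
  swap
  · exact ⟨X, hX, hXv, hsc, hr⟩
  obtain ⟨p, α, hα⟩ := hr
  have hp : p ∉ Submodule.span K {z | z ∈ [e, g e]} := fun hp => hy (by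
    rw [show g (X⁻¹ y) - τ • y = (g (X⁻¹ y) - τ • y - α y • p) + α y • p by abel]
    exact add_mem (hline (hα y)) (Submodule.smul_mem _ _ hp))
  have hα0 : ∃ y₁, α y₁ ≠ 0 := ⟨y, fun h => hy (hline (by simpa [h] using hα y))⟩
  obtain ⟨y₁, hy₁⟩ := hα0
  -- a functional whose translate is independent of `α`
  obtain ⟨ψ, he, hv, x₀, hx₀, hx₀'⟩ : ∃ ψ : V →ₗ[K] K, ψ e = 0 ∧ ψ v = 0 ∧
      ∃ x₀, α x₀ = 0 ∧ ψ (X⁻¹ x₀) ≠ 0 := by
    by_contra hno
    push Not at hno
    have hle : (Submodule.span K {z | z ∈ [e, v]}).dualAnnihilator ≤ K ∙ (α.comp (X : V →ₗ[K] V)) := by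
      intro ψ hψ
      rw [Submodule.mem_dualAnnihilator] at hψ
      have h0 := hno ψ (hψ e (mem_of_mem_list (by simp))) (hψ v (mem_of_mem_list (by simp)))
      refine Submodule.mem_span_singleton.2 ⟨ψ (X⁻¹ y₁) / α y₁, LinearMap.ext fun x => ?_⟩
      have h1 := h0 (X x - (α (X x) / α y₁) • y₁) (by simp [hy₁])
      rw [map_sub, inv_apply', map_smul, map_sub, map_smul, smul_eq_mul, sub_eq_zero] at h1
      rw [LinearMap.smul_apply, LinearMap.comp_apply, smul_eq_mul, LinearEquiv.coe_coe, h1]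
      ring
    have h1 := Submodule.finrank_mono hle
    have h2 := finrank_ann_two (K := K) e v
    have h3 := h1.trans ((finrank_span_le_card _).trans (le_of_eq (Set.toFinset_singleton _ ▸ Finset.card_singleton _)))
    have h5 := h2.trans (Nat.add_le_add_right h3 2)
    omega
  obtain ⟨X', h1, h2, h3⟩ := hve ψ he hv
  have hd : ∀ x, g (X'⁻¹ x) - τ • x - α x • p - ψ (X⁻¹ x) • g e ∈ K ∙ e := fun x => by
    rw [h3, show g (X⁻¹ x) + ψ (X⁻¹ x) • g e - (ψ x * ν) • e - τ • x - α x • p - ψ (X⁻¹ x) • g e =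
      (g (X⁻¹ x) - τ • x - α x • p) - (ψ x * ν) • e by abel]
    exact sub_mem (hα x) (Submodule.smul_mem _ _ (Submodule.mem_span_singleton_self e))
  have hR : ¬ ∃ (a : V) (φ : V →ₗ[K] K), ∀ x, g (X'⁻¹ x) - τ • x - φ x • a ∈ K ∙ e := by
    rintro ⟨a, φ, ha⟩
    have key : ∀ x, α x • p + ψ (X⁻¹ x) • g e - φ x • a ∈ K ∙ e := fun x => by
      have := sub_mem (ha x) (hd x)
      rwa [show g (X'⁻¹ x) - τ • x - φ x • a - (g (X'⁻¹ x) - τ • x - α x • p - ψ (X⁻¹ x) • g e) =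
        α x • p + ψ (X⁻¹ x) • g e - φ x • a by abel] at this
    have k0 := key x₀
    rw [hx₀, zero_smul, zero_add] at k0
    have hφ : φ x₀ ≠ 0 := fun h => hge ((Submodule.smul_mem_iff _ hx₀').1 (by simpa [h] using k0))
    have hamem : a ∈ Submodule.span K {z | z ∈ [e, g e]} := (Submodule.smul_mem_iff _ hφ).1 (by
      rw [show φ x₀ • a = ψ (X⁻¹ x₀) • g e - (ψ (X⁻¹ x₀) • g e - φ x₀ • a) by abel]
      exact sub_mem (Submodule.smul_mem _ _ hge') (hline k0))
    refine hp ((Submodule.smul_mem_iff _ hy₁).1 ?_)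
    rw [show α y₁ • p = (α y₁ • p + ψ (X⁻¹ y₁) • g e - φ y₁ • a) - ψ (X⁻¹ y₁) • g e + φ y₁ • a by abel]
    exact add_mem (sub_mem (hline (key y₁)) (Submodule.smul_mem _ _ hge')) (Submodule.smul_mem _ _ hamem)
  refine ⟨X', h1, h2, fun κ => ?_, hR⟩
  by_contra hno
  push Not at hno
  by_cases hk : κ = τ
  · exact hR ⟨0, 0, fun x => by simpa [hk] using hno x⟩
  · obtain ⟨x, hx⟩ := exists_notMem_span (K := K) [e, g e, p] (by simp; omega)
    refine hx ((Submodule.smul_mem_iff _ (sub_ne_zero.2 hk)).1 ?_)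
    rw [show (κ - τ) • x = (g (X'⁻¹ x) - τ • x - α x • p - ψ (X⁻¹ x) • g e) - (g (X'⁻¹ x) - κ • x) +
      α x • p + ψ (X⁻¹ x) • g e by module]
    exact add_mem (add_mem (span_line_le (by simp) (sub_mem (hd x) (hno x)))
      (Submodule.smul_mem _ _ (mem_of_mem_list (by simp)))) (Submodule.smul_mem _ _ (mem_of_mem_list (by simp)))

/-- The choice in dimension at least four, for `A` a scalar plus rank one. -/
theorem exists_choice_R1 (hK : Big K) (h4 : 4 ≤ finrank K V) {A g : V ≃ₗ[K] V} {μ : K} {m : ℕ} (hμ : μ ≠ 0)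
    (hAμ : R1 A μ) (hA : NS (K := K) A) (hg : NS (K := K) g) (hgμ : ¬ R1 g (μ ^ (m + 1))) :
    ∃ e v : V, g e ∉ K ∙ e ∧ g v = μ ^ m • e ∧
      ∃ X ∈ Cl A, X v = e ∧ GoodMod e (μ ^ m) (fun x => g (X⁻¹ x)) := by
  set ν := μ ^ (m + 1) with hν
  set P := LinearMap.range ((g : V →ₗ[K] V) - ν • LinearMap.id) with hP
  obtain ⟨e, hne, heP⟩ : ∃ e, (∀ κ : K, g e ≠ κ • e) ∧ (P ≠ ⊤ → e ∉ P) := by
    have h0 : (⊥ : Submodule K V) ≠ ⊤ := fun h => by
      have := congrArg (fun S : Submodule K V => finrank K S) h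
      simp only [finrank_bot, finrank_top] at this; omega
    by_cases hPt : P = ⊤
    · obtain ⟨e, -, -, he⟩ := exists_noneigen hK (A := (g : V →ₗ[K] V)) hg h0 h0
      exact ⟨e, he, fun h => absurd hPt h⟩
    · obtain ⟨e, h1, -, he⟩ := exists_noneigen hK (A := (g : V →ₗ[K] V)) hg hPt h0
      exact ⟨e, he, fun _ => h1⟩
  obtain ⟨he0, hge⟩ := notMem_span_of_noneigen (f := (g : V →ₗ[K] V)) hne
  obtain ⟨y, hy⟩ : ∃ y, g y - ν • y ∉ Submodule.span K {z | z ∈ [e, g e]} := by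
    by_contra hno
    push Not at hno
    have hle : P ≤ Submodule.span K {z | z ∈ [e, g e]} := by
      rintro _ ⟨x, rfl⟩
      simpa using hno x
    have h2 : finrank K (Submodule.span K {z | z ∈ [e, g e]}) ≤ 2 := by
      classical
      have e' : {z | z ∈ [e, g e]} = (({e, g e} : Finset V) : Set V) := by ext z; simp
      rw [e']
      exact (finrank_span_finset_le_card _).trans Finset.card_le_two
    have hPt : P ≠ ⊤ := fun h => by
      have := Submodule.finrank_mono hle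
      rw [h, finrank_top] at this
      omega
    by_cases hP2 : finrank K P ≤ 1
    · obtain ⟨a, ha⟩ := finrank_le_one_iff.1 hP2
      refine hgμ (R1.of_line (f := (g : V →ₗ[K] V)) (a : V) fun x => ?_)
      obtain ⟨t, ht⟩ := ha ⟨_, LinearMap.mem_range_self _ x⟩
      exact Submodule.mem_span_singleton.2 ⟨t, by simpa [P] using congrArg Subtype.val ht⟩
    · have := Submodule.eq_of_le_of_finrank_le hle (by omega)
      exact heP hPt (this ▸ mem_of_mem_list (by simp))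
  set v := μ ^ m • g⁻¹ e with hv
  have hgv : g v = μ ^ m • e := by rw [hv, map_smul, apply_inv]
  have hν0 : μ ^ m ≠ 0 := pow_ne_zero _ hμ
  have hv0 : v ≠ 0 := fun h => he0 (by
    rw [h, map_zero, eq_comm, smul_eq_zero] at hgv
    exact hgv.resolve_left hν0)
  have hev : e ∉ K ∙ v := fun h => by
    obtain ⟨t, ht⟩ := Submodule.mem_span_singleton.1 h
    exact hne (t * μ ^ m) (by conv_lhs => rw [← ht]
                              rw [map_smul, hgv, smul_smul])
  obtain ⟨w, hw⟩ := NS.exists_noneigen (f := (A : V →ₗ[K] V)) hA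
  obtain ⟨M, hM, -, -, hXv⟩ := exists_mapping (by omega) hw hv0 hev
  set X := M * A * M⁻¹ with hX
  have hXC : X ∈ Cl A := ⟨M, fun _ => hM, rfl⟩
  obtain ⟨a, φ, ha⟩ := hAμ
  have hXa : ∀ x, X x = μ • x + φ (M⁻¹ x) • M a := fun x => by
    rw [hX, mul_apply', mul_apply', ha, map_add, map_smul, map_smul, apply_inv]
  have hMa : M a ∈ Submodule.span K {z | z ∈ [v, e]} := by
    have h1 := hXa v
    rw [hXv] at h1
    have : φ (M⁻¹ v) ≠ 0 := fun h => hev (Submodule.mem_span_singleton.2 ⟨μ, by rw [h1, h, zero_smul, add_zero]⟩)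
    refine (Submodule.smul_mem_iff _ this).1 ?_
    rw [show φ (M⁻¹ v) • M a = e - μ • v by rw [h1]; abel]
    exact sub_mem (mem_of_mem_list (by simp)) (Submodule.smul_mem _ _ (mem_of_mem_list (by simp)))
  have hgS : ∀ z ∈ Submodule.span K {z | z ∈ [v, e]}, g z ∈ Submodule.span K {z | z ∈ [e, g e]} := fun z hz => by
    refine mem_pair (S := (Submodule.span K {z | z ∈ [e, g e]}).comap (g : V →ₗ[K] V)) ?_ ?_ hz
    · simpa [hgv] using Submodule.smul_mem _ (μ ^ m) (mem_of_mem_list (K := K) (l := [e, g e]) (x := e) (by simp))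
    · exact mem_of_mem_list (by simp)
  refine ⟨e, v, hge, hgv, exists_adjust h4 hXC hge hgv hXv (y := y) fun hmem => hy ?_⟩
  have hinv : y - μ • X⁻¹ y = φ (M⁻¹ (X⁻¹ y)) • M a := by
    have := hXa (X⁻¹ y)
    rw [apply_inv] at this
    rw [sub_eq_iff_eq_add']
    exact this
  have h1 : g (y - μ • X⁻¹ y) ∈ Submodule.span K {z | z ∈ [e, g e]} :=
    hgS _ (by rw [hinv]; exact Submodule.smul_mem _ _ hMa)
  rw [map_sub, map_smul] at h1
  rw [show g y - ν • y = (g y - μ • g (X⁻¹ y)) + μ • (g (X⁻¹ y) - μ ^ m • y) by rw [hν, pow_succ']; module]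
  exact add_mem h1 (Submodule.smul_mem _ _ hmem)

/-- The choice in dimension at least four, for other `A`. -/
theorem exists_choice (hK : Big K) (h4 : 4 ≤ finrank K V) {A g : V ≃ₗ[K] V} (hA : ∀ μ : K, ¬ R1 A μ) {e : V}
    {ν τ : K} (hν : ν ≠ 0) (hne : ∀ κ : K, g e ≠ κ • e) :
    ∃ v : V, g v = ν • e ∧ ∃ X ∈ Cl A, X v = e ∧ GoodMod e τ (fun x => g (X⁻¹ x)) := by
  obtain ⟨he0, hge⟩ := notMem_span_of_noneigen (f := (g : V →ₗ[K] V)) hne
  have hNS : NS (K := K) A := fun κ => by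
    by_contra hno
    push Not at hno
    exact hA κ ⟨0, 0, fun x => by simp [hno x]⟩
  -- a vector outside the small ranges
  let N : K → (V →ₗ[K] V) := fun μ => (A : V →ₗ[K] V) - μ • LinearMap.id
  have hN : ∀ μ x, N μ x = A x - μ • x := fun μ x => rfl
  have hsum : ∀ a b, a ≠ b → ⊤ ≤ LinearMap.range (N a) ⊔ LinearMap.range (N b) := fun a b hab x _ => by
    rw [show x = N a ((b - a)⁻¹ • x) - N b ((b - a)⁻¹ • x) by
      rw [hN, hN, show A ((b - a)⁻¹ • x) - a • (b - a)⁻¹ • x - (A ((b - a)⁻¹ • x) - b • (b - a)⁻¹ • x) =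
        (b - a) • (b - a)⁻¹ • x by module, smul_smul, mul_inv_cancel₀ (sub_ne_zero.2 (Ne.symm hab)), one_smul]]
    exact sub_mem (Submodule.mem_sup_left (LinearMap.mem_range_self _ _))
      (Submodule.mem_sup_right (LinearMap.mem_range_self _ _))
  obtain ⟨w, hwne, hwS⟩ : ∃ w, (∀ κ : K, A w ≠ κ • w) ∧
      ∀ μ, finrank K (LinearMap.range (N μ)) ≤ 2 → w ∉ LinearMap.range (N μ) := by
    have htop : ∀ μ, finrank K (LinearMap.range (N μ)) ≤ 2 → LinearMap.range (N μ) ≠ ⊤ := fun μ h e' => by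
      rw [e', finrank_top] at h; omega
    have h0 : (⊥ : Submodule K V) ≠ ⊤ := fun h => by
      have := congrArg (fun S : Submodule K V => finrank K S) h
      simp only [finrank_bot, finrank_top] at this; omega
    by_cases hS : ∃ a, finrank K (LinearMap.range (N a)) ≤ 2
    swap
    · obtain ⟨w, -, -, hw⟩ := exists_noneigen hK (A := (A : V →ₗ[K] V)) hNS h0 h0
      exact ⟨w, hw, fun μ h => absurd ⟨μ, h⟩ hS⟩
    obtain ⟨a, ha⟩ := hS
    by_cases hS2 : ∃ b, b ≠ a ∧ finrank K (LinearMap.range (N b)) ≤ 2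
    swap
    · obtain ⟨w, hw1, -, hw⟩ := exists_noneigen hK (A := (A : V →ₗ[K] V)) hNS (htop a ha) h0
      exact ⟨w, hw, fun μ h => by
        have : μ = a := by by_contra hne'; exact hS2 ⟨μ, hne', h⟩
        exact this ▸ hw1⟩
    obtain ⟨b, hba, hb⟩ := hS2
    obtain ⟨w, hw1, hw2, hw⟩ := exists_noneigen hK (A := (A : V →ₗ[K] V)) hNS (htop a ha) (htop b hb)
    refine ⟨w, hw, fun μ hμ => ?_⟩
    rcases eq_or_ne μ a with rfl | hμa
    · exact hw1
    rcases eq_or_ne μ b with rfl | hμb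
    · exact hw2
    exfalso
    have hker : LinearMap.ker (N μ) ≤ LinearMap.range (N a) ⊓ LinearMap.range (N b) := fun x hx => by
      have hx' : A x = μ • x := sub_eq_zero.1 (LinearMap.mem_ker.1 hx)
      refine ⟨⟨(μ - a)⁻¹ • x, ?_⟩, ⟨(μ - b)⁻¹ • x, ?_⟩⟩ <;>
      · rw [hN, map_smul, hx', smul_smul, smul_smul, ← sub_smul, mul_comm, ← sub_mul,
          mul_inv_cancel₀ (sub_ne_zero.2 ‹_›), one_smul]
    have h1 := Submodule.finrank_mono hker
    have h2 := Submodule.finrank_sup_add_finrank_inf_eq (LinearMap.range (N a)) (LinearMap.range (N b))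
    have h3 := Submodule.finrank_mono (hsum a b (Ne.symm hba))
    rw [finrank_top] at h3
    have h4' := LinearMap.finrank_range_add_finrank_ker (N μ)
    omega
  set v := ν • g⁻¹ e with hv
  have hgv : g v = ν • e := by rw [hv, map_smul, apply_inv]
  have hv0 : v ≠ 0 := fun h => he0 (by
    rw [h, map_zero, eq_comm, smul_eq_zero] at hgv
    exact hgv.resolve_left hν)
  have hev : e ∉ K ∙ v := fun h => by
    obtain ⟨t, ht⟩ := Submodule.mem_span_singleton.1 h
    exact hne (t * ν) (by conv_lhs => rw [← ht]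
                          rw [map_smul, hgv, smul_smul])
  obtain ⟨M, hM, hMw, hMAw, hXv⟩ := exists_mapping (by omega) hwne hv0 hev
  set X := M * A * M⁻¹ with hX
  have hXC : X ∈ Cl A := ⟨M, fun _ => hM, rfl⟩
  refine ⟨v, hgv, ?_⟩
  by_contra hnone
  push Not at hnone
  set U := Submodule.span K {z | z ∈ [v, e]} with hU
  have hgU : ∀ z, g z ∈ Submodule.span K {z | z ∈ [e, g e]} → z ∈ U := fun z hz => by
    have h1 : g z ∈ U.map (g : V →ₗ[K] V) := by
      refine mem_pair (S := U.map (g : V →ₗ[K] V)) ⟨ν⁻¹ • v, Submodule.smul_mem _ _ (mem_of_mem_list (by simp)), ?_⟩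
        ⟨e, mem_of_mem_list (by simp), rfl⟩ hz
      rw [LinearEquiv.coe_coe, map_smul, hgv, smul_smul, inv_mul_cancel₀ hν, one_smul]
    obtain ⟨z', hz', hzz⟩ := h1
    exact g.injective hzz ▸ hz'
  have hsame : ∀ X' ∈ Cl A, X' v = e → ∀ y, X'⁻¹ y - τ • g⁻¹ y ∈ U := fun X' hC h' y => by
    refine hgU _ ?_
    rw [map_sub, map_smul, apply_inv]
    by_contra hno
    obtain ⟨X'', h1, h2, h3⟩ := exists_adjust h4 hC hge hgv h' hno
    exact hnone X'' h1 h2 h3
  have hinv : ∀ ψ : V →ₗ[K] K, ψ e = 0 → ψ v = 0 → ∀ y, ψ y = 0 → ψ (X⁻¹ y) = 0 := by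
    intro ψ he hv' y hy
    by_cases hψ : ψ = 0
    · simp [hψ]
    obtain ⟨a, ha, haU⟩ : ∃ a ∈ LinearMap.ker ψ, a ∉ U := by
      by_contra hno
      push Not at hno
      have h1 := Submodule.finrank_mono (show LinearMap.ker ψ ≤ U from hno)
      have h2 : finrank K U ≤ 2 := by
        classical
        have e' : {z | z ∈ [v, e]} = (({v, e} : Finset V) : Set V) := by ext z; simp
        rw [hU, e']
        exact (finrank_span_finset_le_card _).trans Finset.card_le_two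
      have := Module.Dual.finrank_ker_add_one_of_ne_zero (f := ψ) hψ
      omega
    obtain ⟨X', h1, h2, h3⟩ := exists_variant hXC hXv a ψ ha he hv'
    have h5 := sub_mem (hsame X' h1 h2 y) (hsame X hXC hXv y)
    rw [h3, hy, zero_smul, sub_zero, zero_mul, sub_zero,
      show X⁻¹ y + ψ (X⁻¹ y) • a - τ • g⁻¹ y - (X⁻¹ y - τ • g⁻¹ y) = ψ (X⁻¹ y) • a by abel] at h5
    by_contra hne'
    exact haU ((Submodule.smul_mem_iff _ hne').1 h5)
  -- the inverse is scalar modulo `U`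
  set S := U.dualAnnihilator
  have hS : ∀ ψ ∈ S, ψ e = 0 ∧ ψ v = 0 := fun ψ hψ => by
    rw [Submodule.mem_dualAnnihilator] at hψ
    exact ⟨hψ e (mem_of_mem_list (by simp)), hψ v (mem_of_mem_list (by simp))⟩
  have hmul : ∀ ψ ∈ S, ∃ k : K, ψ.comp (X⁻¹ : V ≃ₗ[K] V).toLinearMap = k • ψ := fun ψ hψ => by
    by_cases h0 : ψ = 0
    · exact ⟨0, by simp [h0]⟩
    obtain ⟨z, hz⟩ : ∃ z, ψ z ≠ 0 := by by_contra h; push Not at h; exact h0 (LinearMap.ext h)
    refine ⟨ψ (X⁻¹ z) / ψ z, LinearMap.ext fun x => ?_⟩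
    have h1 := hinv ψ (hS ψ hψ).1 (hS ψ hψ).2 (x - (ψ x / ψ z) • z) (by simp [hz])
    rw [map_sub, map_smul, map_sub, map_smul, smul_eq_mul, sub_eq_zero] at h1
    rw [LinearMap.comp_apply, LinearEquiv.coe_coe, h1, LinearMap.smul_apply, smul_eq_mul]
    ring
  let L : S →ₗ[K] S := ((X⁻¹ : V ≃ₗ[K] V).toLinearMap.dualMap.comp S.subtype).codRestrict S fun ψ => by
    obtain ⟨k, hk⟩ := hmul ψ.1 ψ.2
    show ψ.1.comp _ ∈ S
    rw [hk]
    exact Submodule.smul_mem _ _ ψ.2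
  obtain ⟨κ, hκ⟩ : ∃ κ : K, ∀ ψ : S, L ψ = κ • ψ := by
    by_contra hno
    push Not at hno
    obtain ⟨ψ, hψ⟩ := @NS.exists_noneigen K _ S S.addCommGroup S.module L hno
    obtain ⟨k, hk⟩ := hmul ψ.1 ψ.2
    exact hψ k (Subtype.ext hk)
  have hsc : ∀ x, X⁻¹ x - κ • x ∈ U := fun x => by
    rw [← Subspace.forall_mem_dualAnnihilator_apply_eq_zero_iff]
    intro ψ hψ
    have := LinearMap.congr_fun (congrArg Subtype.val (hκ ⟨ψ, hψ⟩)) x
    have e1 : ψ (X⁻¹ x) = κ * ψ x := this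
    rw [map_sub, map_smul, e1, smul_eq_mul, sub_self]
  -- pulled back to `A`
  set W₀ := Submodule.span K {z | z ∈ [w, A w]} with hW₀
  have hW : ∀ z, A⁻¹ z - κ • z ∈ W₀ := fun z => by
    have h1 := hsc (M z)
    rw [hX, mul_inv_rev, mul_inv_rev, inv_inv, mul_apply', mul_apply', inv_apply', ← map_smul, ← map_sub] at h1
    have h2 : M (A⁻¹ z - κ • z) ∈ W₀.map (M : V →ₗ[K] V) :=
      mem_pair (S := W₀.map (M : V →ₗ[K] V)) ⟨w, mem_of_mem_list (by simp), hMw⟩ ⟨A w, mem_of_mem_list (by simp), hMAw⟩ h1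
    obtain ⟨z', hz', hzz⟩ := h2
    exact M.injective hzz ▸ hz'
  have hW2 : finrank K W₀ ≤ 2 := by
    classical
    have e' : {z | z ∈ [w, A w]} = (({w, A w} : Finset V) : Set V) := by ext z; simp
    rw [hW₀, e']
    exact (finrank_span_finset_le_card _).trans Finset.card_le_two
  by_cases hκ0 : κ = 0
  · have : (⊤ : Submodule K V) ≤ W₀ := fun z _ => by
      have := hW (A z)
      rwa [inv_apply', hκ0, zero_smul, sub_zero] at this
    have := Submodule.finrank_mono this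
    rw [finrank_top] at this
    omega
  have hle : LinearMap.range (N κ⁻¹) ≤ W₀ := by
    rintro _ ⟨z, rfl⟩
    have := Submodule.smul_mem W₀ (-κ⁻¹) (hW (A z))
    rw [inv_apply', smul_sub, smul_smul, neg_mul, inv_mul_cancel₀ hκ0] at this
    rw [hN]
    convert this using 1
    module
  have hr2 : finrank K (LinearMap.range (N κ⁻¹)) ≤ 2 := (Submodule.finrank_mono hle).trans hW2
  by_cases hr1 : finrank K (LinearMap.range (N κ⁻¹)) ≤ 1
  · obtain ⟨a, ha⟩ := finrank_le_one_iff.1 hr1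
    refine hA κ⁻¹ (R1.of_line (f := (A : V →ₗ[K] V)) (a : V) fun x => ?_)
    obtain ⟨t, ht⟩ := ha ⟨_, LinearMap.mem_range_self _ x⟩
    exact Submodule.mem_span_singleton.2 ⟨t, by simpa [N] using congrArg Subtype.val ht⟩
  · exact hwS _ hr2 (Submodule.eq_of_le_of_finrank_le hle (by omega) ▸ mem_of_mem_list (by simp))

end Cfsg.Agent.Classical.CovPSL
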