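import Cfsg.Agent.Lib.Classical.CovPSL.Glue

set_option autoImplicit false

/-! Diagonal lists with a prescribed weight. -/

namespace Cfsg.Agent.Classical.CovPSL

universe u

variable {K : Type u} [Field K] [Fintype K]

attribute [local instance] Classical.propDecidable

/-- No two opposite values exhaust the list. -/
def Mixed (l : List K) : Prop := ∀ x : K, ∃ y ∈ l, y ≠ x ∧ y ≠ -x

omit [Fintype K] in
theorem Mixed.mono {l l' : List K} (h : Mixed l) (hl : ∀ a ∈ l, a ∈ l') : Mixed l' := fun x => by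
  obtain ⟨y, hy, h2⟩ := h x
  exact ⟨y, hl y hy, h2⟩

omit [Fintype K] in
theorem mixed_of_three {l : List K} {a b c : K} (ha : a ∈ l) (hb : b ∈ l) (hc : c ∈ l) (hab : a ≠ b) (hac : a ≠ c)
    (hbc : b ≠ c) : Mixed l := fun x => by
  by_cases ha' : a ≠ x ∧ a ≠ -x
  · exact ⟨a, ha, ha'⟩
  by_cases hb' : b ≠ x ∧ b ≠ -x
  · exact ⟨b, hb, hb'⟩
  refine ⟨c, hc, fun h => ?_, fun h => ?_⟩ <;>
    rcases not_and_or.1 ha' with p | p <;> rcases not_and_or.1 hb' with r | r <;>
      simp only [ne_eq, not_not] at p r <;> simp_all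

omit [Fintype K] in
theorem mixed_of_two {l : List K} {a b : K} (ha : a ∈ l) (hb : b ∈ l) (hab : a ≠ b) (hab' : a ≠ -b) : Mixed l := fun x => by
  by_cases ha' : a ≠ x ∧ a ≠ -x
  · exact ⟨a, ha, ha'⟩
  refine ⟨b, hb, fun h => ?_, fun h => ?_⟩ <;>
    rcases not_and_or.1 ha' with p | p <;> simp only [ne_eq, not_not] at p <;> simp_all

omit [Fintype K] in
theorem prod_mulSingle_two {m : ℕ} (i j : Fin m) (a c : Kˣ) :
    ∏ l, ((Pi.mulSingle i a * Pi.mulSingle j c : Fin m → Kˣ) l : K) = a * c := by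
  rw [← Units.coe_prod, ← Units.val_mul]
  congr 1
  simp [Finset.prod_mul_distrib, Finset.prod_pi_mulSingle']

/-- The lists used for one cyclic block. -/
structure Chosen (m : ℕ) (δ r : Kˣ) where
  t : Fin m → Kˣ
  b : K
  k : ℤ
  hwt : wt t = r * δ ^ k
  hprod : b * ∏ l, (t l : K) = (δ : K) * δ
  hb : ∀ l, b ≠ (t l : K)
  hmixed : Mixed (b :: List.ofFn fun l => (t l : K))
  hcard : (b :: List.ofFn fun l => (t l : K)).toFinset.card ≤ 4

omit [Fintype K] in
theorem card_le_four {m : ℕ} (t : Fin m → Kˣ) (b a c : K) (h : ∀ l, (t l : K) = a ∨ (t l : K) = c ∨ (t l : K) = 1) :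
    (b :: List.ofFn fun l => (t l : K)).toFinset.card ≤ 4 := by
  refine (Finset.card_le_card (t := ({b, a, c, 1} : Finset K)) fun x hx => ?_).trans Finset.card_le_four
  simp only [List.mem_toFinset, List.mem_cons, List.mem_ofFn] at hx
  rcases hx with rfl | ⟨l, rfl⟩
  · simp
  · rcases h l with e | e | e <;> simp [e]

omit [Fintype K] in
/-- The generic list. -/
theorem chosen_generic {m : ℕ} (hm : 3 ≤ m) {δ r : Kˣ} (k : ℤ) {r' : Kˣ} (hr : r' = r * δ ^ k)
    (h1 : (r' : K) ≠ (δ : K) * δ) (h2 : (r' : K) * r' ≠ (δ : K) * δ) (h3 : r' = 1 → (δ : K) * δ ≠ -1) :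
    Nonempty (Chosen m δ r) := by
  let i0 : Fin m := ⟨0, by omega⟩
  let i1 : Fin m := ⟨1, by omega⟩
  let t : Fin m → Kˣ := Pi.mulSingle i0 r'
  have ht : ∀ l, (t l : K) = r' ∨ (t l : K) = 1 := fun l => by
    by_cases h : l = i0
    · exact Or.inl (by simp [t, h])
    · exact Or.inr (by simp [t, Pi.mulSingle_eq_of_ne h])
  let b : K := (δ : K) * δ / r'
  have hb1 : b ≠ 1 := fun e => h1 (by rw [div_eq_one_iff_eq r'.ne_zero] at e; exact e.symm)
  have hbr : b ≠ r' := fun e => h2 (by rw [div_eq_iff r'.ne_zero] at e; exact e.symm)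
  have m1 : (1 : K) ∈ b :: List.ofFn fun l => (t l : K) :=
    List.mem_cons_of_mem _ (List.mem_ofFn.2 ⟨i1, by simp [t, Pi.mulSingle_eq_of_ne (show i1 ≠ i0 by simp [i0, i1])]⟩)
  refine ⟨⟨t, b, k, by rw [wt_mulSingle, hr]; simp [i0], ?_, fun l => ?_, ?_, card_le_four t b r' r' fun l => by
    rcases ht l with e | e <;> simp [e]⟩⟩
  · rw [← Units.coe_prod, show ∏ l, t l = r' by simp [t, Finset.prod_pi_mulSingle'], div_mul_cancel₀ _ r'.ne_zero]
  · rcases ht l with e | e <;> rw [e] <;> assumption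
  · by_cases hr1 : r' = 1
    · refine mixed_of_two (List.mem_cons_self ..) m1 hb1 fun e => h3 hr1 ?_
      simpa [b, hr1] using e
    · exact mixed_of_three (List.mem_cons_self ..) m1 (List.mem_cons_of_mem _ (List.mem_ofFn.2 ⟨i0, by simp [t]⟩))
        hb1 hbr (by simpa [t, eq_comm] using hr1)

theorem exists_not_pm : 4 ≤ Fintype.card K → ∃ c : K, c ≠ 0 ∧ c ≠ 1 ∧ c ≠ -1 := fun hF => by
  obtain ⟨c, -, hc⟩ := Finset.exists_mem_notMem_of_card_lt_card (s := ({0, 1, -1} : Finset K)) (t := Finset.univ)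
    (by rw [Finset.card_univ]; exact lt_of_le_of_lt Finset.card_le_three (by omega))
  simp only [Finset.mem_insert, Finset.mem_singleton, not_or] at hc
  exact ⟨c, hc.1, hc.2.1, hc.2.2⟩

theorem exists_pow_five_ne (hF : 4 ≤ Fintype.card K) (d : K) :
    ∃ c : K, c ≠ 0 ∧ c ≠ 1 ∧ c ≠ -1 ∧ c ^ 5 ≠ d := by
  by_contra hno
  push Not at hno
  have hS : (Finset.univ \ ({0, 1, -1} : Finset K)) ⊆ (Polynomial.nthRoots 5 d).toFinset := fun c hc => by
    simp only [Finset.mem_sdiff, Finset.mem_univ, true_and, Finset.mem_insert, Finset.mem_singleton, not_or] at hc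
    rw [Multiset.mem_toFinset, Polynomial.mem_nthRoots (by norm_num)]
    exact hno c hc.1 hc.2.1 hc.2.2
  have h3 : ({0, 1, -1} : Finset K).card ≤ 3 := Finset.card_le_three
  have h5 : Fintype.card K - 3 ≤ 5 := by
    refine le_trans ?_ ((Finset.card_le_card hS).trans ((Multiset.toFinset_card_le _).trans (Polynomial.card_nthRoots 5 d)))
    rw [Finset.card_sdiff, Finset.card_univ, Finset.inter_univ]
    omega
  obtain ⟨c, hc⟩ := exists_not_pm hF
  -- a second candidate
  have hinj : ∀ x y : K, x ≠ 0 → y ≠ 0 → x ^ 5 = y ^ 5 → x = y := fun x y hx hy h => by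
    have e1 : (x / y) ^ 5 = 1 := by rw [div_pow, h, div_self (pow_ne_zero _ hy)]
    have e2 : (x / y) ^ (Fintype.card K - 1) = 1 := FiniteField.pow_card_sub_one_eq_one _ (div_ne_zero hx hy)
    have e3 := pow_gcd_eq_one.2 ⟨e1, e2⟩
    by_cases hg : Nat.gcd 5 (Fintype.card K - 1) = 1
    · rw [hg, pow_one, div_eq_one_iff_eq hy] at e3; exact e3
    · have hd : 5 ∣ Fintype.card K - 1 := by
        have h1 := Nat.gcd_dvd_left 5 (Fintype.card K - 1)
        rcases (Nat.dvd_prime (by norm_num)).1 h1 with h' | h'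
        · exact absurd h' hg
        · have h2 := Nat.gcd_dvd_right 5 (Fintype.card K - 1)
          rwa [h'] at h2
      -- five divides the order of the multiplicative group, so there are six elements
      obtain ⟨k, hk⟩ := hd
      have hk1 : k = 1 := by omega
      obtain ⟨e, hp, he⟩ := FiniteField.card K (ringChar K)
      have : Fintype.card K = 6 := by omega
      rw [this] at he
      have h2 : (2 : ℕ) ∣ ringChar K := Nat.Prime.dvd_of_dvd_pow Nat.prime_two (by rw [← he]; norm_num : 2 ∣ ringChar K ^ _)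
      have h3 : (3 : ℕ) ∣ ringChar K := Nat.Prime.dvd_of_dvd_pow Nat.prime_three (by rw [← he]; norm_num : 3 ∣ ringChar K ^ _)
      have h2' := (Nat.prime_dvd_prime_iff_eq Nat.prime_two (by assumption)).1 h2
      have h3' := (Nat.prime_dvd_prime_iff_eq Nat.prime_three (by assumption)).1 h3
      omega
  obtain ⟨c', -, hc'⟩ := Finset.exists_mem_notMem_of_card_lt_card (s := ({0, 1, -1, c} : Finset K))
    (t := Finset.univ) (by
      rw [Finset.card_univ]
      rcases eq_or_lt_of_le hF with h | h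
      · rw [← h, neg_eq_self_of_card_four h.symm 1, Finset.insert_eq_of_mem (Finset.mem_insert_self 1 _ : (1 : K) ∈
          ({1, c} : Finset K))]
        exact lt_of_le_of_lt Finset.card_le_three (by norm_num)
      · exact lt_of_le_of_lt Finset.card_le_four h)
  simp only [Finset.mem_insert, Finset.mem_singleton, not_or] at hc'
  refine hc'.2.2.2 (hinj _ _ hc'.1 hc.1 ?_)
  rw [hno c' hc'.1 hc'.2.1 hc'.2.2.1, hno c hc.1 hc.2.1 hc.2.2]

/-- The list with three powers. -/
theorem chosen_square (hF : 4 ≤ Fintype.card K) {m : ℕ} (hm : 3 ≤ m) {δ r : Kˣ} (k : ℤ)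
    (hr : r * δ ^ k = δ * δ) : Nonempty (Chosen m δ r) := by
  obtain ⟨c₀, hc0, hc1, hc2, hc5⟩ := exists_pow_five_ne hF ((δ : K) * δ)
  let c : Kˣ := Units.mk0 c₀ hc0
  let a : Kˣ := δ * δ * (c ^ 3)⁻¹
  let i0 : Fin m := ⟨0, by omega⟩
  let i1 : Fin m := ⟨1, by omega⟩
  let i2 : Fin m := ⟨2, by omega⟩
  let t : Fin m → Kˣ := Pi.mulSingle i0 a * Pi.mulSingle i2 c
  have h02 : i0 ≠ i2 := by simp [i0, i2]
  have ht : ∀ l, (t l : K) = a ∨ (t l : K) = c ∨ (t l : K) = 1 := fun l => by
    by_cases h : l = i0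
    · exact Or.inl (by simp [t, h, h02])
    · by_cases h' : l = i2
      · exact Or.inr (Or.inl (by simp [t, h', Ne.symm h02]))
      · exact Or.inr (Or.inr (by simp [t, h, h']))
  have hsq1 : (c : K) ^ 2 ≠ 1 := fun e => by
    rcases sq_eq_one_iff.1 e with e | e
    exacts [hc1 e, hc2 e]
  have hsqc : (c : K) ^ 2 ≠ c := fun e => hc1 (by
    have := mul_right_cancel₀ hc0 (show c₀ * c₀ = 1 * c₀ by rw [one_mul, ← pow_two]; exact e)
    exact this)
  refine ⟨⟨t, (c : K) ^ 2, k, ?_, ?_, fun l => ?_, ?_, card_le_four t _ a c ht⟩⟩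
  · rw [wt_mul, wt_mulSingle, wt_mulSingle, hr]
    simp [i0, i2, a]
  · rw [prod_mulSingle_two]
    simp only [a, Units.val_mul, Units.val_inv_eq_inv_val, Units.val_pow_eq_pow_val]
    field_simp
  · rcases ht l with e | e | e <;> rw [e]
    · intro h
      refine hc5 ?_
      simp only [a, Units.val_mul, Units.val_inv_eq_inv_val, Units.val_pow_eq_pow_val] at h
      have h' : (c : K) ^ 2 * (c : K) ^ 3 = (δ : K) * δ := by
        rw [h]; field_simp
      rw [← h', ← pow_add]; rfl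
    · exact hsqc
    · exact hsq1
  · exact mixed_of_three (List.mem_cons_self ..)
      (List.mem_cons_of_mem _ (List.mem_ofFn.2 ⟨i2, by simp [t, Ne.symm h02]⟩))
      (List.mem_cons_of_mem _ (List.mem_ofFn.2 ⟨i1, by simp [t, i0, i1, i2]⟩)) hsqc hsq1 (fun e => hc1 e)

/-- The determinant one, weight minus one case. -/
theorem chosen_neg (hF : 4 ≤ Fintype.card K) {m : ℕ} (hm : 3 ≤ m) (hne : (-1 : K) ≠ 1) :
    Nonempty (Chosen m (1 : Kˣ) (-1 : Kˣ)) := by
  let i0 : Fin m := ⟨0, by omega⟩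
  let i1 : Fin m := ⟨1, by omega⟩
  let i2 : Fin m := ⟨2, by omega⟩
  by_cases hi : ∃ i : K, i * i = -1
  · obtain ⟨i, hi⟩ := hi
    have hi0 : i ≠ 0 := fun e => by rw [e, mul_zero, eq_comm, neg_eq_zero] at hi; exact one_ne_zero hi
    let u : Kˣ := Units.mk0 i hi0
    let t : Fin m → Kˣ := Pi.mulSingle i1 u
    have ht : ∀ l, (t l : K) = i ∨ (t l : K) = 1 := fun l => by
      by_cases h : l = i1
      · exact Or.inl (by simp [t, h, u])
      · exact Or.inr (by simp [t, Pi.mulSingle_eq_of_ne h])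
    have hn1 : -i ≠ 1 := fun e => hne (by rw [← hi]; linear_combination (-i + 1) * e)
    have hni : -i ≠ i := fun e => hne (by
      have := mul_right_cancel₀ hi0 (show (-1 : K) * i = 1 * i by rw [neg_one_mul, one_mul, e])
      exact this)
    refine ⟨⟨t, -i, 0, ?_, ?_, fun l => ?_, ?_, card_le_four t _ i i fun l => by rcases ht l with e | e <;> simp [e]⟩⟩
    · rw [wt_mulSingle]
      refine Units.ext ?_
      simp [i1, u, pow_two, hi]
    · rw [← Units.coe_prod, show ∏ l, t l = u by simp [t, Finset.prod_pi_mulSingle']]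
      simp [u, hi]
    · rcases ht l with e | e <;> rw [e] <;> assumption
    · exact mixed_of_three (List.mem_cons_self ..)
        (List.mem_cons_of_mem _ (List.mem_ofFn.2 ⟨i1, by simp [t, u]⟩))
        (List.mem_cons_of_mem _ (List.mem_ofFn.2 ⟨i0, by simp [t, i0, i1]⟩)) hni hn1
        (fun e => hne (by rw [← hi, e, one_mul]))
  push Not at hi
  obtain ⟨x, hx0, hx1, hx2⟩ := exists_not_pm hF
  obtain ⟨c₀, hc0, hc1, hc2, hc5⟩ : ∃ c : K, c ≠ 0 ∧ c ≠ 1 ∧ c ≠ -1 ∧ c ^ 5 ≠ 1 := by
    by_cases h : x ^ 5 = 1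
    · refine ⟨-x, neg_ne_zero.2 hx0, fun e => hx2 (by rw [← e, neg_neg]), fun e => hx1 (neg_injective e), ?_⟩
      rw [Odd.neg_pow (by decide), h]
      exact hne
    · exact ⟨x, hx0, hx1, hx2, h⟩
  let c : Kˣ := Units.mk0 c₀ hc0
  let a : Kˣ := -1 * (c ^ 3)⁻¹
  let t : Fin m → Kˣ := Pi.mulSingle i0 a * Pi.mulSingle i2 c
  have h02 : i0 ≠ i2 := by simp [i0, i2]
  have ht : ∀ l, (t l : K) = a ∨ (t l : K) = c ∨ (t l : K) = 1 := fun l => by
    by_cases h : l = i0
    · exact Or.inl (by simp [t, h, h02])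
    · by_cases h' : l = i2
      · exact Or.inr (Or.inl (by simp [t, h', Ne.symm h02]))
      · exact Or.inr (Or.inr (by simp [t, h, h']))
  have hb1 : -((c : K) ^ 2) ≠ 1 := fun e => hi c₀ (by rw [← pow_two, show c₀ = (c : K) from rfl]; linear_combination -e)
  have hbc : -((c : K) ^ 2) ≠ c := fun e => hc2 (by
    have := mul_right_cancel₀ hc0 (show -c₀ * c₀ = 1 * c₀ by rw [one_mul, neg_mul, ← pow_two]; exact e)
    rw [← this, neg_neg])
  refine ⟨⟨t, -((c : K) ^ 2), 0, ?_, ?_, fun l => ?_, ?_, card_le_four t _ a c ht⟩⟩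
  · rw [wt_mul, wt_mulSingle, wt_mulSingle]
    simp [i0, i2, a]
  · rw [prod_mulSingle_two]
    simp only [a, Units.val_mul, Units.val_inv_eq_inv_val, Units.val_pow_eq_pow_val, Units.val_neg, Units.val_one]
    field_simp
  · rcases ht l with e | e | e <;> rw [e]
    · intro h
      refine hc5 ?_
      simp only [a, Units.val_mul, Units.val_inv_eq_inv_val, Units.val_pow_eq_pow_val, Units.val_neg, Units.val_one] at h
      have h' : (c : K) ^ 2 * (c : K) ^ 3 = 1 := by
        rw [show (c : K) ^ 2 = ((c : K) ^ 3)⁻¹ by linear_combination -h, inv_mul_cancel₀ (pow_ne_zero _ c.ne_zero)]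
      rw [← h', ← pow_add]; rfl
    · exact hbc
    · exact hb1
  · exact mixed_of_three (List.mem_cons_self ..)
      (List.mem_cons_of_mem _ (List.mem_ofFn.2 ⟨i2, by simp [t, Ne.symm h02]⟩))
      (List.mem_cons_of_mem _ (List.mem_ofFn.2 ⟨i1, by simp [t, i0, i1, i2]⟩)) hbc hb1 (fun e => hc1 e)

/-- A list for every weight modulo powers of the determinant. -/
theorem exists_chosen (hF : 4 ≤ Fintype.card K) {m : ℕ} (hm : 3 ≤ m) (δ r : Kˣ) : Nonempty (Chosen m δ r) := by
  by_cases hrs : r = δ * δ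
  · exact chosen_square hF hm 0 (by simp [hrs])
  by_cases hr1 : r = δ
  · subst hr1
    by_cases hd : r * r = 1
    · exact chosen_square hF hm (-1) (by simp [hd])
    by_cases hd' : (r : K) * r = -1
    · exact chosen_square hF hm 1 (by simp)
    exact chosen_generic hm (-1) (r' := 1) (by simp) (by simpa using fun e => hd (Units.ext (by simpa using e.symm)))
      (by simpa using fun e => hd (Units.ext (by simpa using e.symm))) fun _ => hd'
  by_cases hr2 : r = -δ
  · subst hr2
    by_cases hne : (-1 : K) = 1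
    · exact absurd (Units.ext (by rw [Units.val_neg, ← neg_one_mul, hne, one_mul])) hr1
    by_cases hd1 : δ = 1
    · subst hd1
      exact chosen_neg hF hm hne
    by_cases hd2 : δ = -1
    · exact absurd (by rw [hd2]; simp) hrs
    by_cases hd' : (δ : K) * δ = -1
    · refine chosen_square hF hm 3 (Units.ext ?_)
      simp only [Units.val_mul, Units.val_neg, Units.val_zpow_eq_zpow_val]
      rw [show ((3 : ℤ)) = ((3 : ℕ) : ℤ) from rfl, zpow_natCast]
      linear_combination -((δ : K) * δ) * hd'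
    refine chosen_generic hm 1 (r' := -(δ * δ)) (by rw [zpow_one, neg_mul]) ?_ ?_ fun _ => hd'
    · intro e
      rw [Units.val_neg, Units.val_mul] at e
      exact hne (mul_right_cancel₀ (mul_ne_zero δ.ne_zero δ.ne_zero) (by rw [neg_one_mul, one_mul]; exact e))
    · intro e
      rw [Units.val_neg, Units.val_mul, neg_mul_neg] at e
      have h2 : ((δ : K) * δ) * 1 = ((δ : K) * δ) * ((δ : K) * δ) := by rw [mul_one, e]
      rcases mul_self_eq_one_iff.1 (mul_left_cancel₀ (mul_ne_zero δ.ne_zero δ.ne_zero) h2).symm with h | h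
      · exact hd1 (Units.ext (by simpa using h))
      · exact hd2 (Units.ext (by simpa using h))
  by_cases h1 : r = 1 ∧ (δ : K) * δ = -1
  · refine chosen_square hF hm 2 ?_
    rw [h1.1, one_mul, zpow_two]
  refine chosen_generic hm 0 (r' := r) (by simp) (fun e => hrs (Units.ext (by simpa using e))) (fun e => ?_)
    fun h hd => h1 ⟨h, hd⟩
  rcases mul_self_eq_mul_self_iff.1 e with h | h
  · exact hr1 (Units.ext h)
  · exact hr2 (Units.ext (by simpa using h))

end Cfsg.Agent.Classical.CovPSL
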