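import Cfsg.Agent.Lib.Classical.CovPSL.Tri
import Cfsg.Agent.Lib.Classical.CovPSL.Two

set_option autoImplicit false

/-! Operators with lines as eigenspaces: four, or eight, conjugates give every non-scalar. -/

namespace Cfsg.Agent.Classical.CovPSL

open Module Polynomial

universe u v

variable {K : Type u} [Field K] {V : Type v} [AddCommGroup V] [Module K V]

attribute [local instance] Classical.propDecidable

/-- A product of conjugates. -/
def Prd (A : V ≃ₗ[K] V) (k : ℕ) (g : V ≃ₗ[K] V) : Prop :=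
  ∃ l : List (V ≃ₗ[K] V), l.length = k ∧ (∀ X ∈ l, X ∈ Cl A) ∧ l.prod = g

/-- Every non-scalar with the right determinant. -/
def CovK (A : V ≃ₗ[K] V) (k : ℕ) : Prop := ∀ g : V ≃ₗ[K] V, NS (K := K) g → dt g = dt A ^ k → Prd A k g

theorem Prd.of_conj {A g : V ≃ₗ[K] V} {k : ℕ} {N : V ≃ₗ[K] V} (h : Prd A k g) (hN : LinearEquiv.det N = 1) :
    Prd A k (N * g * N⁻¹) := by
  obtain ⟨l, hl, hC, rfl⟩ := h
  refine ⟨l.map fun X => N * X * N⁻¹, by simp [hl], fun X hX => ?_, ?_⟩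
  · obtain ⟨Y, hY, rfl⟩ := List.mem_map.1 hX
    exact Cl_conj (hC Y hY) N fun _ => hN
  · clear hl hC
    induction l with
    | nil => simp
    | cons a l ih => rw [List.map_cons, List.prod_cons, ih, List.prod_cons]; group

theorem Prd.mul {A g h : V ≃ₗ[K] V} {i j : ℕ} (hg : Prd A i g) (hh : Prd A j h) : Prd A (i + j) (g * h) := by
  obtain ⟨l, hl, hC, rfl⟩ := hg
  obtain ⟨l', hl', hC', rfl⟩ := hh
  exact ⟨l ++ l', by simp [hl, hl'], fun X hX => (List.mem_append.1 hX).elim (hC X) (hC' X), List.prod_append⟩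

theorem prd_two {A : V ≃ₗ[K] V} {M N : V ≃ₗ[K] V} (hM : LinearEquiv.det M = 1) (hN : LinearEquiv.det N = 1) :
    Prd A 2 ((M * A * M⁻¹) * (N * A * N⁻¹)) :=
  ⟨[M * A * M⁻¹, N * A * N⁻¹], rfl, by
    simp only [List.mem_cons, List.not_mem_nil, or_false]
    rintro X (rfl | rfl)
    exacts [⟨M, fun _ => hM, rfl⟩, ⟨N, fun _ => hN, rfl⟩], by simp⟩

variable [FiniteDimensional K V]

theorem mem_Cl_of_full {A : V ≃ₗ[K] V} (hA : Full A) (M : V ≃ₗ[K] V) : M * A * M⁻¹ ∈ Cl A := by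
  obtain ⟨C, hC, hd⟩ := hA (LinearEquiv.det M)⁻¹
  refine ⟨M * C, fun _ => by rw [map_mul, hd, mul_inv_cancel], ?_⟩
  rw [mul_inv_rev, mul_assoc M C A, hC]
  group

theorem Prd.conj_of_full {A g : V ≃ₗ[K] V} {k : ℕ} (h : Prd A k g) (hg : Full g) (M : V ≃ₗ[K] V) :
    Prd A k (M * g * M⁻¹) := by
  obtain ⟨C, hC, hd⟩ := hg (LinearEquiv.det M)⁻¹
  have := h.of_conj (N := M * C) (by rw [map_mul, hd, mul_inv_cancel])
  rwa [mul_inv_rev, mul_assoc M C g, hC, show M * (g * C) * (C⁻¹ * M⁻¹) = M * g * M⁻¹ by group] at this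

theorem full_of_simple [Finite K] {T : V ≃ₗ[K] V} {b : K} {β : List K} (hT : Spl T.toLinearMap (b :: β)) (hb : b ∉ β) :
    Full T := by
  have hq : Irreducible (X - C b) := irreducible_X_sub_C b
  refine full_of_not_le hq fun hle => ?_
  have hlen : β.length + 1 = finrank K V := by rw [← hT.1]; rfl
  obtain ⟨v, hv⟩ := exists_cyclic_vector hT
  have hw : aeval T.toLinearMap (pol β) v ≠ 0 := fun h => by
    refine one_ne_zero (α := K) ?_
    have h2 := Fintype.linearIndependent_iff.1 hv (fun i => (pol β).coeff i) ?_ ⟨β.length, by omega⟩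
    · rwa [show (pol β).coeff β.length = 1 by rw [← pol_natDegree β]; exact pol_monic β] at h2
    · rw [← h, aeval_eq_sum_range, pol_natDegree, LinearMap.sum_apply,
        ← Fin.sum_univ_eq_sum_range (fun i => ((pol β).coeff i • T.toLinearMap ^ i) v)]
      exact (Fintype.sum_equiv (finCongr hlen) _ _ fun i => rfl).symm
  set w := aeval T.toLinearMap (pol β) v
  have hker : w ∈ LinearMap.ker (aeval T.toLinearMap (X - C b)) := by
    rw [LinearMap.mem_ker, ← Module.End.mul_apply, ← map_mul, ← pol_cons, hT.2.1]; rfl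
  obtain ⟨y, hy⟩ := hle hker
  have h0 : aeval T.toLinearMap (pol β) w = 0 := by
    rw [← hy, ← Module.End.mul_apply, ← map_mul, mul_comm, ← pol_cons, hT.2.1]; rfl
  have hTw : T.toLinearMap w = b • w := by
    simpa [sub_eq_zero] using hker
  rw [aeval_eigen hTw, smul_eq_zero] at h0
  refine hb ?_
  have h1 := h0.resolve_right hw
  rw [pol, eval_list_prod, List.map_map, List.prod_eq_zero_iff, List.mem_map] at h1
  obtain ⟨a, ha, hab⟩ := h1
  simp only [Function.comp_apply, eval_sub, eval_X, eval_C, sub_eq_zero] at hab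
  exact hab ▸ ha

/-- Squaring a product with lines as eigenspaces. -/
theorem covK_of_spl [Fintype K] (hF : 4 ≤ Fintype.card K) {A T : V ≃ₗ[K] V} {k : ℕ} {α : List K}
    (hT : Spl T.toLinearMap α) (hα : ∀ a ∈ α, a ≠ 0) (hprod : α.prod = dt A ^ k)
    (h : ∀ M : V ≃ₗ[K] V, Prd A k (M * T * M⁻¹)) : CovK A (k + k) := fun g hg hd => by
  obtain ⟨P, P', rfl⟩ := exists_sq hF hT hα hg (by rw [hd, hprod, pow_add])
  exact (h P).mul (h P')

theorem exists_other {A : V ≃ₗ[K] V} (h3 : 3 ≤ finrank K V) (hA : NS (K := K) A) :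
    ∃ X ∈ Cl A, ∀ s : K, ∃ x, X x ≠ s • A x := by
  obtain ⟨w, hw⟩ := NS.exists_noneigen (f := A.toLinearMap) hA
  obtain ⟨h1, h2⟩ := notMem_span_of_noneigen (f := A.toLinearMap) hw
  obtain ⟨M, hd, -, -, hM⟩ := exists_mapping h3 hw h1 (e := A w + w) fun h => h2 (by
    simpa using sub_mem h (Submodule.mem_span_singleton_self w))
  refine ⟨M * A * M⁻¹, ⟨M, fun _ => hd, rfl⟩, fun s => ⟨w, fun e => ?_⟩⟩
  rw [hM] at e
  by_cases hs : s = 1
  · rw [hs, one_smul, add_eq_left] at e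
    exact h1 e
  · refine hw (s - 1)⁻¹ ?_
    show A w = _
    have : (s - 1) • A w = w := by
      rw [sub_smul, one_smul, ← e]; abel
    conv_rhs => rw [← this]
    rw [smul_smul, inv_mul_cancel₀ (sub_ne_zero.2 hs), one_smul]

/-- One more factor, with any target. -/
theorem CovK.succ {A : V ≃ₗ[K] V} {k : ℕ} (h3 : 3 ≤ finrank K V) (hA : NS (K := K) A) (h : CovK A k)
    {g : V ≃ₗ[K] V} (hd : dt g = dt A ^ (k + 1)) : Prd A (k + 1) g := by
  obtain ⟨X₁, hX₁, hne⟩ := exists_other h3 hA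
  have key : ∀ X ∈ Cl A, NS (K := K) (g * X⁻¹) → Prd A (k + 1) g := fun X hX hns => by
    have hdet := det_of_mem_Cl hX
    obtain ⟨l, hl, hC, hp⟩ := h (g * X⁻¹) hns (by
      have e : dt (g * X⁻¹) = dt g * (dt A)⁻¹ := by simp [dt, map_mul, map_inv, hdet, Units.val_inv_eq_inv_val]
      rw [e, hd, pow_succ, mul_inv_cancel_right₀ (Units.ne_zero _)])
    exact ⟨l ++ (X :: []), by simp [hl], fun Y hY => (List.mem_append.1 hY).elim (hC Y) fun h' => by
      rw [List.mem_singleton.1 h']; exact hX, by rw [List.prod_append, hp, List.prod_singleton, inv_mul_cancel_right]⟩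
  by_cases h0 : NS (K := K) (g * A⁻¹)
  · exact key A (self_mem_Cl A) h0
  by_cases h1 : NS (K := K) (g * X₁⁻¹)
  · exact key X₁ hX₁ h1
  simp only [NS, not_forall, not_exists, ne_eq, not_not] at h0 h1
  obtain ⟨κ, hκ⟩ := h0
  obtain ⟨κ', hκ'⟩ := h1
  have hκ'0 : κ' ≠ 0 := fun e => by
    have := hκ' (X₁ 0)
    haveI : Nontrivial V := Module.nontrivial_of_finrank_pos (R := K) (by omega)
    obtain ⟨x, hx⟩ := exists_ne (0 : V)
    exact hx ((g * X₁⁻¹).injective (by rw [hκ' x, e, zero_smul, map_zero]))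
  obtain ⟨x, hx⟩ := hne (κ / κ')
  refine absurd ?_ hx
  have e1 : g x = κ • A x := by
    have := hκ (A x); rwa [mul_apply', inv_apply'] at this
  have e2 : g x = κ' • X₁ x := by
    have := hκ' (X₁ x); rwa [mul_apply', inv_apply'] at this
  rw [div_eq_inv_mul, mul_smul, ← e1, e2, inv_smul_smul₀ hκ'0]

theorem CovK.mono {A : V ≃ₗ[K] V} (h3 : 3 ≤ finrank K V) (hA : NS (K := K) A) {k : ℕ} (h : CovK A k) :
    ∀ j, k ≤ j → CovK A j := fun j hj => by
  induction j, hj using Nat.le_induction with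
  | base => exact h
  | succ j _ ih => exact fun g _ hd => ih.succ h3 hA hd

section Pairs

variable [Fintype K]

/-- A pair of linear conjugates with product split with lines as eigenspaces. -/
theorem exists_gl_pair (hF : 4 ≤ Fintype.card K) : ∀ (n : ℕ) (W : Type v) [AddCommGroup W] [Module K W]
    [FiniteDimensional K W], finrank K W = n → ∀ A : W ≃ₗ[K] W, G1 A.toLinearMap →
    ∃ (M₁ M₂ : W ≃ₗ[K] W) (α : List K), Spl ((M₁ * A * M₁⁻¹) * (M₂ * A * M₂⁻¹)).toLinearMap α ∧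
      α.prod = dt A * dt A ∧ ∀ a ∈ α, a ≠ 0 := by
  intro n
  induction n using Nat.strong_induction_on with
  | _ n ih =>
  intro W _ _ _ hn A hA
  have block : ∀ (U : Type v) [AddCommGroup U] [Module K U] [FiniteDimensional K U] (m : ℕ),
      finrank K U = m + 2 → ∀ (B : U ≃ₗ[K] U) (w : U), CycVec B w →
      ∃ (M₁ M₂ : U ≃ₗ[K] U) (α : List K), Spl ((M₁ * B * M₁⁻¹) * (M₂ * B * M₂⁻¹)).toLinearMap α ∧
        α.prod = dt B * dt B ∧ (∀ a ∈ α, a ≠ 0) ∧ α.toFinset.card ≤ 4 := by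
    intro U _ _ _ m hm B w hw
    obtain ⟨a, ha0, ha1, ha2⟩ := exists_avoid_two hF (dt B)
    obtain ⟨ρ, hρ⟩ := exists_block_pair (m := m + 1) hm hw hw
    let t : Fin (m + 1) → Kˣ := Pi.mulSingle 0 (Units.mk0 a ha0)
    have hb0 : dt B * dt B ≠ 0 := mul_ne_zero (Units.ne_zero _) (Units.ne_zero _)
    have hp : dt B * dt B / a * ∏ j, (t j : K) = dt B * dt B := by
      rw [← Units.coe_prod, show ∏ l, t l = Units.mk0 a ha0 by simp [t, Finset.prod_pi_mulSingle'], Units.val_mk0,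
        div_mul_cancel₀ _ ha0]
    have ht : ∀ j, (t j : K) = a ∨ (t j : K) = 1 := fun j => by
      by_cases h : j = 0
      · exact Or.inl (by simp [t, h])
      · exact Or.inr (by simp [t, Pi.mulSingle_eq_of_ne h])
    obtain ⟨M₁, M₂, -, -, hs⟩ := hρ t (dt B * dt B / a) hp fun j e => by
      rcases ht j with h | h <;> rw [h, div_eq_iff ha0] at e
      · exact ha2 e.symm
      · exact ha1 (by rw [e, one_mul])
    refine ⟨M₁, M₂, _, hs, by rw [List.prod_cons, List.prod_ofFn, hp], ?_, card_le_four t _ a a fun j => ?_⟩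
    · intro x hx
      rcases List.mem_cons.1 hx with rfl | hx
      · exact div_ne_zero hb0 ha0
      · obtain ⟨j, rfl⟩ := List.mem_ofFn.1 hx
        exact (t j).ne_zero
    · rcases ht j with h | h <;> simp [h]
  rcases (show n = 0 ∨ n = 1 ∨ 2 ≤ n by omega) with rfl | rfl | h2
  · haveI : Subsingleton W := Module.finrank_zero_iff.1 hn
    refine ⟨1, 1, [], ⟨hn.symm, Subsingleton.elim _ _, fun c x y hx => absurd (Subsingleton.elim x 0) hx⟩, ?_, by simp⟩
    have : LinearEquiv.det A = 1 := by rw [Subsingleton.elim A 1, map_one]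
    simp [dt, this]
  · obtain ⟨l, ⟨hl, hl2, -⟩, hprod, hl0⟩ := exists_spl_of_splits (A := A)
      (Polynomial.Splits.of_natDegree_le_one (by rw [LinearMap.charpoly_natDegree, hn])) hA
    obtain ⟨a, rfl⟩ := List.length_eq_one_iff.1 (hl.trans hn)
    have hAx : ∀ x, A x = a • x := fun x => by
      have := LinearMap.congr_fun hl2 x
      simpa [pol, sub_eq_zero] using this
    refine ⟨1, 1, [a * a], spl_line hn fun x => ?_, by simp [← hprod], by simpa using hl0⟩
    simp [mul_apply', one_apply', hAx, smul_smul]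
  by_cases hs : (A : W →ₗ[K] W).charpoly.Splits
  · obtain ⟨l, hl, -, -⟩ := exists_spl_of_splits hs hA
    obtain ⟨w, hw⟩ := exists_cyclic_vector hl
    obtain ⟨M₁, M₂, α, h1, h2', h3, -⟩ := block W (n - 2) (by omega) A w hw
    exact ⟨M₁, M₂, α, h1, h2', h3⟩
  obtain ⟨U, hU, hUd, hno, w, hw⟩ := exists_irreducible_sub hs
  obtain ⟨Q, Φ, B, Z, D, hΦ, hBA, hdim⟩ := exists_tri A U hU
  have hBno : ∀ c : K, ¬ Eig B c := fun c ⟨x, hx, hBx⟩ =>
    hno c x x.2 (fun e => hx (Subtype.ext e)) (by rw [← hBA, hBx]; rfl)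
  have hBres : (B : Module.End K U) = (A : Module.End K W).restrict hU := LinearMap.ext fun x => Subtype.ext (hBA x)
  obtain ⟨M₁, M₂, αU, hU1, hU2, hU3, hU4⟩ := block U (finrank K U - 2) (by omega) B w (by rw [CycVec, hBres]; exact hw)
  have hA' : conjHom Φ (triE B Z D) = A := LinearEquiv.ext fun x => by
    obtain ⟨p, rfl⟩ := Φ.surjective x
    rw [conjHom_apply', hΦ]
  have hGt : G1 (triE B Z D).toLinearMap := fun c x y hx hfx hfy => by
    obtain ⟨t, ht⟩ := Submodule.mem_span_singleton.1 (hA c (Φ x) (Φ y) (by simpa using hx)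
      (by show A (Φ x) = _; rw [hΦ, ← map_smul]; exact congrArg Φ hfx)
      (by show A (Φ y) = _; rw [hΦ, ← map_smul]; exact congrArg Φ hfy))
    exact Submodule.mem_span_singleton.2 ⟨t, Φ.injective (by rw [map_smul, ht])⟩
  obtain ⟨N₁, N₂, αQ, hQ1, hQ2, hQ3⟩ := ih (finrank K Q) (by omega) Q rfl D (hGt.quotient hBno)
  obtain ⟨R₁, R₂, -, -, hR⟩ := exists_glue hF Z hBno hU1 hQ1 hU4 hU3
  refine ⟨conjHom Φ R₁, conjHom Φ R₂, αU ++ αQ, ?_, ?_, ?_⟩
  · have := hR.conjHom Φ
    rwa [map_mul, map_mul, map_mul, map_mul, map_mul, map_inv, map_inv, hA'] at this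
  · rw [List.prod_append, hU2, hQ2, ← hA', dt, dt, dt, det_conjHom, det_triE, Units.val_mul]
    ring
  · exact fun a ha => (List.mem_append.1 ha).elim (hU3 a) (hQ3 a)

theorem covK_four_of_full (hF : 4 ≤ Fintype.card K) {A : V ≃ₗ[K] V} (hA : G1 A.toLinearMap) (hfull : Full A) :
    CovK A 4 := by
  obtain ⟨M₁, M₂, α, hT, hprod, hα⟩ := exists_gl_pair hF _ V rfl A hA
  refine covK_of_spl (k := 2) hF hT hα (by rw [hprod, pow_two]) fun M => ?_
  rw [show M * (M₁ * A * M₁⁻¹ * (M₂ * A * M₂⁻¹)) * M⁻¹ =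
    (M * M₁) * A * (M * M₁)⁻¹ * ((M * M₂) * A * (M * M₂)⁻¹) by group]
  exact ⟨[(M * M₁) * A * (M * M₁)⁻¹, (M * M₂) * A * (M * M₂)⁻¹], rfl, by
    simp only [List.mem_cons, List.not_mem_nil, or_false]
    rintro X (rfl | rfl) <;> exact mem_Cl_of_full hfull _, by simp⟩

theorem covK_four_of_cyclic (hF : 4 ≤ Fintype.card K) (h4 : 4 ≤ finrank K V) {A : V ≃ₗ[K] V} {w : V}
    (hw : CycVec A w) : CovK A 4 := by
  obtain ⟨m, hm⟩ : ∃ m, finrank K V = m + 1 := ⟨finrank K V - 1, by omega⟩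
  obtain ⟨ρ, hρ⟩ := exists_block_pair hm hw hw
  obtain ⟨ch⟩ := exists_chosen hF (m := m) (by omega) (LinearEquiv.det A) ρ⁻¹
  obtain ⟨M₁, M₂, h1, h2, hs⟩ := hρ ch.t ch.b ch.hprod ch.hb
  have e : M₂ * A ^ (-ch.k) * A * (M₂ * A ^ (-ch.k))⁻¹ = M₂ * A * M₂⁻¹ := by group
  have hdet : LinearEquiv.det (M₂ * A ^ (-ch.k)) = 1 := by
    rw [map_mul, map_zpow, h2, ch.hwt, zpow_neg, mul_inv_cancel_left, mul_inv_cancel]
  have hT : Prd A 2 ((M₁ * A * M₁⁻¹) * (M₂ * A * M₂⁻¹)) := e ▸ prd_two h1 hdet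
  refine covK_of_spl (k := 2) hF hs (fun a ha => ?_)
    (by rw [List.prod_cons, List.prod_ofFn, ch.hprod, pow_two])
    fun M => hT.conj_of_full (full_of_simple hs fun h => ?_) M
  · rcases List.mem_cons.1 ha with rfl | ha
    · exact fun e => by
        have := ch.hprod
        rw [e, zero_mul, eq_comm] at this
        exact mul_ne_zero (Units.ne_zero _) (Units.ne_zero _) this
    · obtain ⟨j, rfl⟩ := List.mem_ofFn.1 ha
      exact (ch.t j).ne_zero
  · obtain ⟨j, hj⟩ := List.mem_ofFn.1 h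
    exact ch.hb j hj.symm

theorem covK_eight (hF : 4 ≤ Fintype.card K) {A : V ≃ₗ[K] V} (hA : G1 A.toLinearMap) {q : K[X]} (hq : Irreducible q)
    (hdeg : 2 ≤ q.natDegree) (hle : LinearMap.ker (aeval (A : Module.End K V) q) ≤
      LinearMap.range (aeval (A : Module.End K V) q))
    (hne : LinearMap.ker (aeval (A : Module.End K V) q) ≠ ⊥) : CovK A 8 := by
  obtain ⟨v, hv, hv0⟩ := Submodule.exists_mem_ne_zero_of_ne_bot hne
  obtain ⟨w, hw⟩ := hle hv
  let T : Module.End K V := (A : Module.End K V)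
  have hw2 : aeval T (q * q) w = 0 := by rw [map_mul, Module.End.mul_apply, hw]; exact hv
  let p : K[X] := q * q * C (q * q).leadingCoeff⁻¹
  have hp : p.Monic := monic_mul_leadingCoeff_inv (mul_ne_zero hq.ne_zero hq.ne_zero)
  have hpd : p.natDegree = q.natDegree + q.natDegree := by
    rw [natDegree_mul_C (inv_ne_zero (leadingCoeff_ne_zero.2 (mul_ne_zero hq.ne_zero hq.ne_zero))),
      natDegree_mul hq.ne_zero hq.ne_zero]
  have hpw : aeval T p w = 0 := by
    rw [show p = C (q * q).leadingCoeff⁻¹ * (q * q) from mul_comm _ _, map_mul, Module.End.mul_apply, hw2, map_zero]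
  have hli := li_square hq hw2 (by rw [hw]; exact hv0)
  obtain ⟨U, hUd, hU, hUr, hUw⟩ := exists_cyclic_sub T w hli hp hpd hpw
  obtain ⟨Q, Φ, B, Z, D, hΦ, hBA, hdim⟩ := exists_tri A U hU
  have hBno : ∀ c : K, ¬ Eig B c := fun c ⟨x, hx, hBx⟩ => by
    obtain ⟨r, hr⟩ := hUr x x.2
    have h1 : T (x : V) = c • (x : V) := (hBA x).symm.trans (congrArg Subtype.val hBx)
    have h2 := aeval_eigen h1 (q * q)
    rw [hr, ← Module.End.mul_apply, ← map_mul, mul_comm, map_mul, Module.End.mul_apply, hw2, map_zero, ← hr,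
      eq_comm, smul_eq_zero] at h2
    have h3 : (q * q).eval c = 0 := h2.resolve_right fun e => hx (Subtype.ext e)
    rw [eval_mul, mul_self_eq_zero] at h3
    have h4 := natDegree_eq_of_degree_eq_some (n := 1) (by exact_mod_cast degree_eq_one_of_irreducible_of_root hq h3)
    omega
  obtain ⟨w', hw'⟩ : ∃ w', CycVec B w' := by
    let w' : U := ⟨w, by simpa using hUw ⟨0, by omega⟩⟩
    have hpow : ∀ i : ℕ, (((B : Module.End K U) ^ i) w' : V) = (T ^ i) w := fun i => by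
      induction i with
      | zero => rfl
      | succ i ih =>
        rw [pow_succ', pow_succ', Module.End.mul_apply, Module.End.mul_apply, LinearEquiv.coe_coe, hBA, ih]
        rfl
    refine ⟨w', LinearIndependent.of_comp U.subtype ?_⟩
    have := hli.comp (finCongr hUd) (finCongr hUd).injective
    convert this using 1
    funext i
    simp [hpow]
  obtain ⟨m, hm⟩ : ∃ m, finrank K U = m + 1 := ⟨finrank K U - 1, by omega⟩
  have hA' : conjHom Φ (triE B Z D) = A := LinearEquiv.ext fun x => by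
    obtain ⟨p, rfl⟩ := Φ.surjective x
    rw [conjHom_apply', hΦ]
  have hGt : G1 (triE B Z D).toLinearMap := fun c x y hx hfx hfy => by
    obtain ⟨t, ht⟩ := Submodule.mem_span_singleton.1 (hA c (Φ x) (Φ y) (by simpa using hx)
      (by show A (Φ x) = _; rw [hΦ, ← map_smul]; exact congrArg Φ hfx)
      (by show A (Φ y) = _; rw [hΦ, ← map_smul]; exact congrArg Φ hfy))
    exact Submodule.mem_span_singleton.2 ⟨t, Φ.injective (by rw [map_smul, ht])⟩
  obtain ⟨N₁, N₂, αQ, hQ1, hQ2, hQ3⟩ := exists_gl_pair hF _ Q rfl D (hGt.quotient hBno)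
  obtain ⟨ρ, hρ⟩ := exists_block_pair hm hw' hw'
  obtain ⟨ch⟩ := exists_chosen hF (m := m) (by omega) (LinearEquiv.det B)
    (ρ⁻¹ * LinearEquiv.det N₁ * (LinearEquiv.det N₂)⁻¹)
  obtain ⟨M₁, M₂, h1, h2, hs⟩ := hρ ch.t ch.b ch.hprod ch.hb
  have e : M₂ * B ^ (-ch.k) * B * (M₂ * B ^ (-ch.k))⁻¹ = M₂ * B * M₂⁻¹ := by group
  set αU := ch.b :: List.ofFn fun l => (ch.t l : K) with hαU
  have hαU0 : ∀ a ∈ αU, a ≠ 0 := fun a ha => by
    rcases List.mem_cons.1 ha with rfl | ha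
    · exact fun e => by
        have := ch.hprod
        rw [e, zero_mul, eq_comm] at this
        exact mul_ne_zero (Units.ne_zero _) (Units.ne_zero _) this
    · obtain ⟨j, rfl⟩ := List.mem_ofFn.1 ha
      exact (ch.t j).ne_zero
  obtain ⟨R₁, R₂, hR1, hR2, hR⟩ := exists_glue hF Z hBno (M₁ := M₁) (M₂ := M₂ * B ^ (-ch.k)) (lU := αU)
    (by rw [e]; exact hs) hQ1 ch.hcard hαU0
  -- both conjugators have the same determinant
  have hdeq : LinearEquiv.det R₂ = LinearEquiv.det R₁ := by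
    have key : ρ * wt ch.t * (LinearEquiv.det B) ^ (-ch.k) * LinearEquiv.det N₂ = LinearEquiv.det N₁ := by
      rw [ch.hwt, zpow_neg]
      simp [mul_assoc, mul_comm, mul_left_comm]
    rw [hR1, hR2, map_mul, map_zpow, h1, h2, one_mul, key]
  let P₁ := conjHom Φ R₁
  let P₂ := conjHom Φ R₂
  have hP : Prd A 2 (P₁⁻¹ * ((P₁ * A * P₁⁻¹) * (P₂ * A * P₂⁻¹)) * P₁) := by
    rw [show P₁⁻¹ * ((P₁ * A * P₁⁻¹) * (P₂ * A * P₂⁻¹)) * P₁ =
      (1 * A * 1⁻¹) * ((P₁⁻¹ * P₂) * A * (P₁⁻¹ * P₂)⁻¹) by group]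
    exact prd_two (map_one _) (by rw [map_mul, map_inv, det_conjHom, det_conjHom, hdeq, inv_mul_cancel])
  set T₀ := P₁⁻¹ * ((P₁ * A * P₁⁻¹) * (P₂ * A * P₂⁻¹)) * P₁
  have hT₀ : Spl T₀.toLinearMap (αU ++ αQ) := by
    have h := (hR.conjHom Φ).conj P₁⁻¹ (f' := T₀.toLinearMap) fun x => by
      show T₀ (P₁⁻¹ x) = P₁⁻¹ _
      rw [map_mul, map_mul, map_mul, map_mul, map_mul, map_inv, map_inv, hA']
      simp only [T₀, mul_apply', apply_inv]
      rfl
    exact h
  have hα0 : ∀ a ∈ αU ++ αQ, a ≠ 0 := fun a ha => (List.mem_append.1 ha).elim (hαU0 a) (hQ3 a)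
  have hαprod : (αU ++ αQ).prod = dt A * dt A := by
    rw [List.prod_append, hαU, List.prod_cons, List.prod_ofFn, ch.hprod, hQ2, ← hA', dt, dt, det_conjHom, det_triE,
      Units.val_mul]
    ring
  have hK : RegUnipProduct.Big K := by
    obtain ⟨f⟩ := Function.Embedding.nonempty_of_card_le (α := Fin 4) (β := K) (by simpa using hF)
    exact ⟨f, f.injective⟩
  obtain ⟨S₁, S₂, b, β, hS1, hS2, hb, hβ0, hβp, hβ⟩ :=
    exists_simple_product hK hT₀ hα0 (ch.hmixed.mono fun a ha => List.mem_append_left _ ha)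
  exact covK_of_spl (k := 4) hF hβ hβ0 (by rw [hβp, hαprod]; ring)
    fun M => ((hP.of_conj hS1).mul (hP.of_conj hS2)).conj_of_full (full_of_simple hβ hb) M

/-- The dichotomy. -/
theorem covK_cases (hF : 4 ≤ Fintype.card K) (h4 : 4 ≤ finrank K V) {A : V ≃ₗ[K] V} (hA : G1 A.toLinearMap) :
    CovK A 4 ∨ (8 ≤ finrank K V ∧ CovK A 8 ∧ ∃ q : K[X], Irreducible q ∧ 2 ≤ q.natDegree ∧
      LinearMap.ker (aeval (A : Module.End K V) q) ≤ LinearMap.range (aeval (A : Module.End K V) q) ∧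
      2 * q.natDegree ≤ finrank K (LinearMap.ker (aeval (A : Module.End K V) q))) := by
  by_cases h : ∃ q : K[X], Irreducible q ∧
      ¬ LinearMap.ker (aeval (A : Module.End K V) q) ≤ LinearMap.range (aeval (A : Module.End K V) q)
  · obtain ⟨q, hq, hq'⟩ := h
    exact Or.inl (covK_four_of_full hF hA (full_of_not_le hq hq'))
  push Not at h
  by_cases hk : ∀ q : K[X], Irreducible q →
      finrank K (LinearMap.ker (aeval (A : Module.End K V) q)) < 2 * q.natDegree
  · obtain ⟨w, hw⟩ := exists_cycVec A hk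
    exact Or.inl (covK_four_of_cyclic hF h4 hw)
  push Not at hk
  obtain ⟨q, hq, hq2⟩ := hk
  have hdeg : 2 ≤ q.natDegree := by
    by_contra h1
    have h1' : q.natDegree = 1 := by have := hq.natDegree_pos; omega
    obtain ⟨a, b, ha, rfl⟩ : ∃ a b, a ≠ 0 ∧ q = C a * X + C b :=
      ⟨q.coeff 1, q.coeff 0, by rw [← h1']; exact leadingCoeff_ne_zero.2 hq.ne_zero,
        eq_X_add_C_of_natDegree_le_one h1'.le⟩
    have hle : finrank K (LinearMap.ker (aeval (A : Module.End K V) (C a * X + C b))) ≤ 1 := by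
      by_cases h0 : LinearMap.ker (aeval (A : Module.End K V) (C a * X + C b)) = ⊥
      · rw [h0, finrank_bot]; omega
      obtain ⟨x, hx, hx0⟩ := Submodule.exists_mem_ne_zero_of_ne_bot h0
      have he : ∀ y ∈ LinearMap.ker (aeval (A : Module.End K V) (C a * X + C b)), A y = (-b / a) • y := fun y hy => by
        simp only [LinearMap.mem_ker, map_add, map_mul, aeval_C, aeval_X, LinearMap.add_apply, Module.End.mul_apply,
          Module.algebraMap_end_apply, LinearEquiv.coe_coe] at hy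
        rw [div_eq_inv_mul, mul_smul, neg_smul, ← eq_neg_of_add_eq_zero_left hy, inv_smul_smul₀ ha]
      refine (Submodule.finrank_mono (t := K ∙ x) fun y hy => hA _ x y hx0 (he x hx) (he y hy)).trans
        (finrank_span_singleton hx0).le
    omega
  refine Or.inr ⟨?_, covK_eight hF hA hq hdeg (h q hq) (fun e => ?_), q, hq, hdeg, h q hq, hq2⟩
  · have h1 := LinearMap.finrank_range_add_finrank_ker (aeval (A : Module.End K V) q)
    have h2 := Submodule.finrank_mono (h q hq)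
    omega
  · rw [e, finrank_bot] at hq2; omega

end Pairs

end Cfsg.Agent.Classical.CovPSL
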