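import Cfsg.Agent.Lib.Classical.CovPSL.Basic

set_option autoImplicit false

/-! Split operators with one-dimensional eigenspaces: they have a cyclic vector and are similar by their roots. -/

namespace Cfsg.Agent.Classical.CovPSL

open Module Polynomial

universe u v

variable {K : Type u} [Field K] {V : Type v} [AddCommGroup V] [Module K V]

/-- The polynomial with the given roots. -/
noncomputable def pol (l : List K) : K[X] := (l.map fun a => X - C a).prod

/-- Annihilated by the polynomial with the given roots. -/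
def Ann (f : Module.End K V) (l : List K) : Prop := aeval f (pol l) = 0

/-- One-dimensional eigenspaces. -/
def G1 (f : Module.End K V) : Prop := ∀ (c : K) (x y : V), x ≠ 0 → f x = c • x → f y = c • y → y ∈ K ∙ x

/-- Split with one-dimensional eigenspaces. -/
def Spl (f : Module.End K V) (l : List K) : Prop := l.length = finrank K V ∧ Ann f l ∧ G1 f

theorem pol_perm {l l' : List K} (h : l.Perm l') : pol l = pol l' := (h.map _).prod_eq

theorem pol_append (l l' : List K) : pol (l ++ l') = pol l * pol l' := by simp [pol]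

theorem pol_cons (a : K) (l : List K) : pol (a :: l) = (X - C a) * pol l := by simp [pol]

theorem pol_monic : ∀ l : List K, (pol l).Monic
  | [] => by simp [pol]
  | a :: l => by rw [pol_cons]; exact (monic_X_sub_C a).mul (pol_monic l)

theorem pol_natDegree : ∀ l : List K, (pol l).natDegree = l.length
  | [] => by simp [pol]
  | a :: l => by
    rw [pol_cons, (monic_X_sub_C a).natDegree_mul (pol_monic l), natDegree_X_sub_C, pol_natDegree l, List.length_cons,
      add_comm]

theorem Spl.perm {f : Module.End K V} {l l' : List K} (h : Spl f l) (hp : l.Perm l') : Spl f l' :=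
  ⟨hp.length_eq ▸ h.1, by rw [Ann, ← pol_perm hp]; exact h.2.1, h.2.2⟩

/-- A root with eigenvector inside an invariant set, here written for functionals. -/
theorem exists_dual_root {f : Module.End K V} : ∀ (l : List K) (N : Submodule K (Dual K V)),
    (∀ g ∈ N, g.comp f ∈ N) → ∀ g ∈ N, g ≠ 0 → g.comp (aeval f (pol l)) = 0 →
    ∃ a ∈ l, ∃ g' ∈ N, g' ≠ 0 ∧ g'.comp f = a • g' := by
  intro l
  induction l with
  | nil => intro N _ g _ hg h; exact absurd (by simpa [pol, Module.End.one_eq_id] using h) hg
  | cons a l ih =>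
    intro N hN g hgN hg h
    have hmem : ∀ p : K[X], g.comp (aeval f p) ∈ N := by
      intro p
      induction p using Polynomial.induction_on' with
      | add p q hp hq => rw [map_add, LinearMap.comp_add]; exact add_mem hp hq
      | monomial k c =>
        rw [aeval_monomial, Algebra.algebraMap_eq_smul_one, smul_mul_assoc, one_mul, LinearMap.comp_smul]
        refine N.smul_mem _ ?_
        induction k with
        | zero => simpa [Module.End.one_eq_id] using hgN
        | succ k ihk => rw [pow_succ, Module.End.mul_eq_comp, ← LinearMap.comp_assoc]; exact hN _ ihk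
    by_cases h0 : g.comp (aeval f (pol l)) = 0
    · obtain ⟨b, hb, r⟩ := ih N hN g hgN hg h0
      exact ⟨b, List.mem_cons_of_mem _ hb, r⟩
    refine ⟨a, List.mem_cons_self .., _, hmem _, h0, ?_⟩
    rw [pol_cons, mul_comm, map_mul, Module.End.mul_eq_comp, ← LinearMap.comp_assoc, map_sub, aeval_X, aeval_C,
      LinearMap.comp_sub, sub_eq_zero] at h
    rw [h]
    ext x
    simp [Module.algebraMap_end_apply]

theorem dual_line [FiniteDimensional K V] {f : Module.End K V} (hf : G1 f) {c : K} {g g' : Dual K V} (hg : g ≠ 0)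
    (h : g.comp f = c • g) (h' : g'.comp f = c • g') : g' ∈ K ∙ g := by
  let D := f - c • LinearMap.id
  have hk : finrank K (LinearMap.ker D) ≤ 1 := by
    by_cases h0 : LinearMap.ker D = ⊥
    · rw [h0, finrank_bot]; omega
    obtain ⟨x, hx, hx0⟩ := Submodule.exists_mem_ne_zero_of_ne_bot h0
    have hx' : f x = c • x := by simpa [D, sub_eq_zero] using hx
    refine (Submodule.finrank_mono (t := K ∙ x) fun y hy => hf c x y hx0 hx' ?_).trans (finrank_span_singleton hx0).le
    simpa [D, sub_eq_zero] using hy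
  have hann : ∀ φ : Dual K V, φ.comp f = c • φ → φ ∈ (LinearMap.range D).dualAnnihilator := fun φ hφ => by
    rw [Submodule.mem_dualAnnihilator]
    rintro _ ⟨x, rfl⟩
    simp [D, show φ (f x) = c * φ x from LinearMap.congr_fun hφ x]
  have h1 := Subspace.finrank_add_finrank_dualAnnihilator_eq (LinearMap.range D)
  have h2 := LinearMap.finrank_range_add_finrank_ker D
  have e : (K ∙ g) = (LinearMap.range D).dualAnnihilator := Submodule.eq_of_le_of_finrank_le
    ((Submodule.span_singleton_le_iff_mem ..).2 (hann g h)) (by rw [finrank_span_singleton hg]; omega)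
  rw [e]; exact hann g' h'

theorem exists_cyclic_vector [FiniteDimensional K V] {f : Module.End K V} {l : List K} (h : Spl f l) :
    ∃ v : V, LinearIndependent K (fun i : Fin (finrank K V) => (f ^ (i : ℕ)) v) := by
  classical
  obtain ⟨hlen, hann, hg1⟩ := h
  let S := {a : K // a ∈ l ∧ ∃ g : Dual K V, g ≠ 0 ∧ g.comp f = a • g}
  haveI : Finite S := ((l.finite_toSet).subset fun a (ha : a ∈ l ∧ _) => ha.1).to_subtype
  haveI := Fintype.ofFinite S
  choose φ hφ0 hφ using fun s : S => s.2.2
  let D : Module.End K (Dual K V) := LinearMap.dualMap f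
  have hli : LinearIndependent K φ := Module.End.eigenvectors_linearIndependent' D (fun s => s.1)
    Subtype.val_injective φ fun s => ⟨Module.End.mem_eigenspace_iff.2 (show D (φ s) = s.1 • φ s from hφ s), hφ0 s⟩
  obtain ⟨v, hv⟩ : ∃ v, ∀ s, φ s v = 1 := by
    have hs : LinearMap.range (LinearMap.pi φ) = ⊤ := by
      rw [← Subspace.dualAnnihilator_inj (W := (LinearMap.range (LinearMap.pi φ))), Submodule.dualAnnihilator_top,
        eq_bot_iff]
      intro ψ hψ
      rw [Submodule.mem_dualAnnihilator] at hψ
      have e : ∑ s, ψ (Pi.single s 1) • φ s = 0 := LinearMap.ext fun x => by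
        rw [LinearMap.zero_apply, ← hψ _ ⟨x, rfl⟩, LinearMap.pi_apply_eq_sum_univ ψ, LinearMap.sum_apply]
        refine Finset.sum_congr rfl fun i _ => ?_
        rw [LinearMap.smul_apply, smul_eq_mul, LinearMap.pi_apply, mul_comm, smul_eq_mul]
        congr 2
        funext j
        simp [Pi.single_apply, eq_comm]
      have := Fintype.linearIndependent_iff.1 hli _ e
      refine (Submodule.mem_bot K).2 ((Pi.basisFun K S).ext fun s => ?_)
      simpa using this s
    obtain ⟨v, hv⟩ := LinearMap.range_eq_top.1 hs fun _ => 1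
    exact ⟨v, fun s => congrFun hv s⟩
  refine ⟨v, linearIndependent_of_top_le_span_of_card_eq_finrank ?_ (by simp)⟩
  set W := Submodule.span K (Set.range fun i : Fin (finrank K V) => (f ^ (i : ℕ)) v)
  have hbase : ∀ k, k < finrank K V → (f ^ k) v ∈ W := fun k hk => Submodule.subset_span ⟨⟨k, hk⟩, rfl⟩
  have hall : ∀ k, (f ^ k) v ∈ W := by
    intro k
    induction k using Nat.strong_induction_on with
    | _ k ih =>
      rcases lt_or_ge k (finrank K V) with hk | hk
      · exact hbase k hk
      have e : (f ^ (k - finrank K V)) ((aeval f (pol l)) v) = 0 := by rw [hann]; simp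
      rw [aeval_eq_sum_range, pol_natDegree, hlen, Finset.sum_range_succ, LinearMap.add_apply, map_add,
        LinearMap.sum_apply, map_sum] at e
      have hlead : (pol l).coeff (finrank K V) = 1 := by rw [← hlen, ← pol_natDegree l]; exact pol_monic l
      rw [hlead, one_smul, ← Module.End.mul_apply, ← pow_add, Nat.sub_add_cancel hk, add_comm,
        add_eq_zero_iff_eq_neg] at e
      rw [e]
      refine neg_mem (Submodule.sum_mem _ fun i hi => ?_)
      rw [LinearMap.smul_apply, map_smul, ← Module.End.mul_apply, ← pow_add]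
      exact W.smul_mem _ (ih _ (by rw [Finset.mem_range] at hi; omega))
  by_contra hne
  have hW : W ≠ ⊤ := fun e => hne e.ge
  obtain ⟨g, hg, hgW⟩ : ∃ g : Dual K V, g ≠ 0 ∧ ∀ w ∈ W, g w = 0 := by
    obtain ⟨g, hgmem, hg0⟩ := Submodule.exists_mem_ne_zero_of_ne_bot
      (show W.dualAnnihilator ≠ ⊥ from fun e => hW (Subspace.dualAnnihilator_inj.1 (by rw [e, Submodule.dualAnnihilator_top])))
    exact ⟨g, hg0, (Submodule.mem_dualAnnihilator _).1 hgmem⟩
  let N : Submodule K (Dual K V) :=
    { carrier := {g | ∀ k, g ((f ^ k) v) = 0}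
      add_mem' := fun ha hb k => by simp [ha k, hb k]
      zero_mem' := fun _ => rfl
      smul_mem' := fun t _ ha k => by simp [ha k] }
  obtain ⟨a, hal, g', hg'N, hg'0, hg'⟩ := exists_dual_root (f := f) l N (fun ψ hψ k => by
      rw [LinearMap.comp_apply, ← Module.End.mul_apply, ← pow_succ']; exact hψ _)
    g (fun k => hgW _ (hall k)) hg (by rw [hann, LinearMap.comp_zero])
  obtain ⟨t, ht⟩ := Submodule.mem_span_singleton.1 (dual_line hg1 (hφ0 ⟨a, hal, g', hg'0, hg'⟩)
    (hφ ⟨a, hal, g', hg'0, hg'⟩) hg')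
  have := hg'N 0
  rw [pow_zero, Module.End.one_apply, ← ht, LinearMap.smul_apply, hv, smul_eq_mul, mul_one] at this
  exact hg'0 (by rw [← ht, this, zero_smul])

theorem pow_finrank_apply (F : Module.End K V) (w : V) {l : List K} (hF : Ann F l) {n : ℕ} (hl : l.length = n) :
    (F ^ n) w = - ∑ i ∈ Finset.range n, (pol l).coeff i • (F ^ i) w := by
  have e : (aeval F (pol l)) w = 0 := by rw [hF]; simp
  have hlead : (pol l).coeff n = 1 := by rw [← hl, ← pol_natDegree l]; exact pol_monic l
  rw [aeval_eq_sum_range, pol_natDegree, hl, Finset.sum_range_succ, LinearMap.add_apply, hlead, one_smul,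
    add_eq_zero_iff_neg_eq] at e
  rw [← e, LinearMap.sum_apply]
  rfl

theorem Spl.similar [FiniteDimensional K V] {V' : Type*} [AddCommGroup V'] [Module K V'] [FiniteDimensional K V']
    {f : Module.End K V} {f' : Module.End K V'} {l : List K} (h : Spl f l) (h' : Spl f' l) :
    ∃ P : V ≃ₗ[K] V', ∀ x, f' (P x) = P (f x) := by
  classical
  obtain ⟨v, hv⟩ := exists_cyclic_vector h
  obtain ⟨v', hv'⟩ := exists_cyclic_vector h'
  have hn : finrank K V' = finrank K V := by rw [← h.1, ← h'.1]
  let b := basisOfTopLeSpanOfCardEqFinrank _ (hv.span_eq_top_of_card_eq_finrank' (by simp)).ge (by simp)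
  let b' := basisOfTopLeSpanOfCardEqFinrank _ (hv'.span_eq_top_of_card_eq_finrank' (by simp)).ge (by simp)
  let P := b.equiv b' (finCongr hn.symm)
  have hP : ∀ k, k < finrank K V → P ((f ^ k) v) = (f' ^ k) v' := fun k hk => by
    have e1 : (f ^ k) v = b ⟨k, hk⟩ := by simp [b]
    rw [e1, Basis.equiv_apply]
    simp [b']
  have hrec : P ((f ^ finrank K V) v) = (f' ^ finrank K V) v' := by
    rw [pow_finrank_apply f v h.2.1 h.1, pow_finrank_apply f' v' h'.2.1 h.1, map_neg, map_sum]
    exact congrArg Neg.neg (Finset.sum_congr rfl fun i hi => by rw [map_smul, hP i (Finset.mem_range.1 hi)])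
  refine ⟨P, fun x => LinearMap.congr_fun (f := f'.comp P.toLinearMap) (g := P.toLinearMap.comp f)
    (b.ext fun i => ?_) x⟩
  have hi : (b i) = (f ^ (i : ℕ)) v := by simp [b]
  simp only [LinearMap.comp_apply, LinearEquiv.coe_coe]
  rw [hi, hP i i.2, ← Module.End.mul_apply, ← Module.End.mul_apply, ← pow_succ', ← pow_succ']
  rcases Nat.lt_or_ge ((i : ℕ) + 1) (finrank K V) with hlt | hge
  · exact (hP _ hlt).symm
  · rw [show (i : ℕ) + 1 = finrank K V from le_antisymm i.2 hge]; exact hrec.symm

/-- Transport. -/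
theorem Spl.conj {V' : Type*} [AddCommGroup V'] [Module K V'] {f : Module.End K V} {f' : Module.End K V'} {l : List K}
    (h : Spl f l) (P : V ≃ₗ[K] V') (hP : ∀ x, f' (P x) = P (f x)) : Spl f' l := by
  refine ⟨h.1.trans P.finrank_eq, LinearMap.ext fun x => ?_, fun c x y hx hfx hfy => ?_⟩
  · obtain ⟨y, rfl⟩ := P.surjective x
    have : ∀ p : K[X], aeval f' p (P y) = P (aeval f p y) := by
      intro p
      induction p using Polynomial.induction_on' with
      | add p q hp hq => simp [hp, hq]
      | monomial k c =>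
        simp only [aeval_monomial, Module.End.mul_apply, Module.algebraMap_end_apply, map_smul]
        congr 1
        induction k generalizing y with
        | zero => rfl
        | succ k ihk => rw [pow_succ, pow_succ, Module.End.mul_apply, Module.End.mul_apply, hP, ihk]
    rw [this, h.2.1]; simp
  · obtain ⟨x, rfl⟩ := P.surjective x
    obtain ⟨y, rfl⟩ := P.surjective y
    rw [hP, ← map_smul, P.injective.eq_iff] at hfx hfy
    obtain ⟨t, rfl⟩ := Submodule.mem_span_singleton.1 (h.2.2 c x y (fun e => hx (by rw [e, map_zero])) hfx hfy)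
    rw [map_smul]; exact Submodule.smul_mem _ _ (Submodule.mem_span_singleton_self _)

section Glue

variable {U Q : Type v} [AddCommGroup U] [Module K U] [AddCommGroup Q] [Module K Q]

/-- Two by two triangular operators. -/
def tri (B : Module.End K U) (Z : Q →ₗ[K] U) (D : Module.End K Q) : Module.End K (U × Q) :=
  (B.comp (LinearMap.fst K U Q) + Z.comp (LinearMap.snd K U Q)).prod (D.comp (LinearMap.snd K U Q))

theorem tri_apply (B : Module.End K U) (Z : Q →ₗ[K] U) (D : Module.End K Q) (p : U × Q) :
    tri B Z D p = (B p.1 + Z p.2, D p.2) := rfl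

theorem aeval_tri (B : Module.End K U) (Z : Q →ₗ[K] U) (D : Module.End K Q) (p : K[X]) :
    ∃ Z', aeval (tri B Z D) p = tri (aeval B p) Z' (aeval D p) := by
  induction p using Polynomial.induction_on with
  | C c => exact ⟨0, LinearMap.ext fun x => Prod.ext (by simp [tri_apply]) (by simp [tri_apply])⟩
  | add p q hp hq =>
    obtain ⟨Z₁, h₁⟩ := hp
    obtain ⟨Z₂, h₂⟩ := hq
    exact ⟨Z₁ + Z₂, LinearMap.ext fun x => by
      simp only [map_add, h₁, h₂, LinearMap.add_apply, tri_apply, Prod.mk_add_mk]
      rw [add_add_add_comm]⟩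
  | monomial k c ih =>
    obtain ⟨Z', h'⟩ := ih
    refine ⟨(aeval B (C c * X ^ k)).comp Z + Z'.comp D, LinearMap.ext fun x => ?_⟩
    rw [pow_succ, ← mul_assoc, map_mul (aeval (tri B Z D)), h', map_mul (aeval B) (C c * X ^ k) X,
      map_mul (aeval D) (C c * X ^ k) X, aeval_X, aeval_X, aeval_X]
    simp only [Module.End.mul_apply, tri_apply, map_add, LinearMap.add_apply, LinearMap.comp_apply]
    rw [add_assoc]

/-- Gluing: no eigenvector of the quotient lifts over a shared root. -/
theorem Spl.tri [FiniteDimensional K U] [FiniteDimensional K Q] {B : Module.End K U} {Z : Q →ₗ[K] U}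
    {D : Module.End K Q} {l₁ l₂ : List K} (h₁ : Spl B l₁) (h₂ : Spl D l₂)
    (hno : ∀ (c : K) (p₀ : U) (x : Q), p₀ ≠ 0 → B p₀ = c • p₀ → x ≠ 0 → D x = c • x → ∀ p : U, B p + Z x ≠ c • p) :
    Spl (tri B Z D) (l₁ ++ l₂) := by
  refine ⟨by rw [List.length_append, h₁.1, h₂.1, finrank_prod], LinearMap.ext fun x => ?_, ?_⟩
  · rw [pol_append, map_mul]
    obtain ⟨Z₁, e₁⟩ := aeval_tri B Z D (pol l₁)
    obtain ⟨Z₂, e₂⟩ := aeval_tri B Z D (pol l₂)
    rw [e₁, e₂, Module.End.mul_apply, tri_apply, tri_apply, h₁.2.1, h₂.2.1]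
    simp
  · rintro c ⟨p, x⟩ ⟨p', x'⟩ hne hx hy
    rw [tri_apply, Prod.smul_mk, Prod.mk.injEq] at hx hy
    simp only at hx hy
    by_cases hx0 : x = 0
    · subst hx0
      have hp0 : p ≠ 0 := fun e => hne (by rw [e]; rfl)
      rw [map_zero, add_zero] at hx
      by_cases hx'0 : x' = 0
      · subst hx'0
        rw [map_zero, add_zero] at hy
        obtain ⟨t, rfl⟩ := Submodule.mem_span_singleton.1 (h₁.2.2 c p p' hp0 hx.1 hy.1)
        exact Submodule.mem_span_singleton.2 ⟨t, by simp⟩
      · exact absurd hy.1 (hno c p x' hp0 hx.1 hx'0 hy.2 p')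
    · obtain ⟨t, rfl⟩ := Submodule.mem_span_singleton.1 (h₂.2.2 c x x' hx0 hx.2 hy.2)
      refine Submodule.mem_span_singleton.2 ⟨t, ?_⟩
      by_contra hd
      have hp0 : p' - t • p ≠ 0 := fun e => hd (by rw [Prod.smul_mk, sub_eq_zero.1 e])
      refine hno c (p' - t • p) x hp0 ?_ hx0 hx.2 p hx.1
      have e := hy.1
      rw [map_smul] at e
      rw [map_sub, map_smul, smul_sub, smul_comm c t, ← hx.1, ← e, smul_add]
      abel

end Glue

end Cfsg.Agent.Classical.CovPSL
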