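import Cfsg.Agent.Lib.Classical.CovPSL.Basic

set_option autoImplicit false

/-! A non-scalar matrix is similar to `L * U` with `L` unitriangular and `U` triangular with prescribed diagonal. -/

namespace Cfsg.Agent.Classical.CovPSL

open Matrix Module

universe u

variable {K : Type u} [Field K]

/-- A square matrix in `1 + m` blocks. -/
def bordered {m : ℕ} (a : K) (r l : Fin m → K) (M : Matrix (Fin m) (Fin m) K) : Matrix (Fin (m + 1)) (Fin (m + 1)) K :=
  Matrix.of fun i j => Fin.cases (Fin.cases a r j) (fun i' => Fin.cases (l i') (M i') j) i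

theorem bordered_zz {m : ℕ} (a : K) (r l : Fin m → K) (M : Matrix (Fin m) (Fin m) K) :
    bordered a r l M 0 0 = a := rfl

theorem bordered_zs {m : ℕ} (a : K) (r l : Fin m → K) (M : Matrix (Fin m) (Fin m) K) (j : Fin m) :
    bordered a r l M 0 j.succ = r j := rfl

theorem bordered_sz {m : ℕ} (a : K) (r l : Fin m → K) (M : Matrix (Fin m) (Fin m) K) (i : Fin m) :
    bordered a r l M i.succ 0 = l i := rfl

theorem bordered_ss {m : ℕ} (a : K) (r l : Fin m → K) (M : Matrix (Fin m) (Fin m) K) (i j : Fin m) :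
    bordered a r l M i.succ j.succ = M i j := rfl

theorem eq_bordered {m : ℕ} (g : Matrix (Fin (m + 1)) (Fin (m + 1)) K) :
    g = bordered (g 0 0) (fun j => g 0 j.succ) (fun i => g i.succ 0) (Matrix.of fun i j => g i.succ j.succ) := by
  ext i j
  cases i using Fin.cases <;> cases j using Fin.cases <;> rfl

theorem bordered_mul {m : ℕ} (a a' : K) (r r' l l' : Fin m → K) (M M' : Matrix (Fin m) (Fin m) K) :
    bordered a r l M * bordered a' r' l' M' =
      bordered (a * a' + r ⬝ᵥ l') (a • r' + r ᵥ* M') (a' • l + M *ᵥ l') (vecMulVec l r' + M * M') := by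
  ext i j
  cases i using Fin.cases <;> cases j using Fin.cases <;>
    simp [Matrix.mul_apply, Fin.sum_univ_succ, bordered_zz, bordered_zs, bordered_sz, bordered_ss, dotProduct,
      Matrix.vecMul, Matrix.mulVec, vecMulVec_apply, mul_comm]

theorem bordered_one {m : ℕ} : bordered (1 : K) (0 : Fin m → K) 0 1 = 1 := by
  ext i j
  cases i using Fin.cases <;> cases j using Fin.cases <;>
    simp [bordered_zz, bordered_zs, bordered_sz, bordered_ss, Matrix.one_apply, Fin.succ_inj, (Fin.succ_ne_zero _).symm]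

/-- Not scalar. -/
def NSm {n : ℕ} (g : Matrix (Fin n) (Fin n) K) : Prop := ∀ κ : K, g ≠ κ • 1

/-- A first column with prescribed corner. -/
theorem exists_corner_form {m : ℕ} (hm : 1 ≤ m) (g : Matrix (Fin (m + 1)) (Fin (m + 1)) K) (hg : NSm g) (c : K) :
    ∃ P Pi : Matrix (Fin (m + 1)) (Fin (m + 1)) K, P * Pi = 1 ∧
      (P * g * Pi) 0 0 = c ∧ ∀ i : Fin m, (P * g * Pi) i.succ 0 = if (i : ℕ) = 0 then 1 else 0 := by
  classical
  let G := Matrix.toLin' g
  have hns : NS (K := K) G := fun κ => by
    by_contra hno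
    push Not at hno
    refine hg κ (Matrix.toLin'.injective (LinearMap.ext fun x => ?_))
    rw [show Matrix.toLin' g x = G x from rfl, hno, map_smul, Matrix.toLin'_one]; rfl
  obtain ⟨e, he⟩ := NS.exists_noneigen hns
  obtain ⟨h1, h2⟩ := notMem_span_of_noneigen he
  have hli : LinearIndependent K ![e, G e - c • e] := li_pair h1 fun h => h2 (by
    simpa using add_mem h (Submodule.smul_mem _ c (Submodule.mem_span_singleton_self e)))
  let e₁ : Fin 2 → Fin (m + 1) := ![0, ⟨1, by omega⟩]
  have he₁ : Function.Injective e₁ := by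
    intro a b h
    fin_cases a <;> fin_cases b <;> simp [e₁, Fin.ext_iff] at h ⊢
  let b₀ := Pi.basisFun K (Fin (m + 1))
  have hstd : LinearIndependent K (b₀ ∘ e₁) := b₀.linearIndependent.comp _ he₁
  obtain ⟨M, hM⟩ : ∃ M : (Fin (m + 1) → K) ≃ₗ[K] (Fin (m + 1) → K), ∀ i, M (b₀ (e₁ i)) = ![e, G e - c • e] i := by
    rcases Nat.lt_or_ge 2 (m + 1) with h | h
    · obtain ⟨M, hM, -⟩ := exists_map (b₀ ∘ e₁) ![e, G e - c • e] hstd hli (by simpa using h) 1
      exact ⟨M, hM⟩
    · have h2 : finrank K (Fin (m + 1) → K) = 2 := by simp; omega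
      let B₁ := basisOfLinearIndependentOfCardEqFinrank hstd (by simp [h2])
      let B₂ := basisOfLinearIndependentOfCardEqFinrank hli (by simp [h2])
      refine ⟨B₁.equiv B₂ (Equiv.refl _), fun i => ?_⟩
      have := Basis.equiv_apply B₁ i B₂ (Equiv.refl _)
      simpa [B₁, B₂] using this
  refine ⟨LinearMap.toMatrix' M.symm.toLinearMap, LinearMap.toMatrix' M.toLinearMap,
    by rw [← LinearMap.toMatrix'_comp, show M.symm.toLinearMap.comp M.toLinearMap = LinearMap.id from
      LinearMap.ext fun x => M.symm_apply_apply x, LinearMap.toMatrix'_id], ?_⟩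
  have key : ∀ i, (LinearMap.toMatrix' M.symm.toLinearMap * g *
      LinearMap.toMatrix' M.toLinearMap) i 0 =
        (c • b₀ 0 + b₀ (e₁ 1)) i := by
    intro i
    have hcol : ∀ (N : Matrix (Fin (m + 1)) (Fin (m + 1)) K), N i 0 = (N *ᵥ b₀ 0) i := fun N => by simp [b₀]
    refine (hcol _).trans ?_
    rw [← Matrix.mulVec_mulVec, ← Matrix.mulVec_mulVec, LinearMap.toMatrix'_mulVec, LinearMap.toMatrix'_mulVec]
    refine congrFun (M.injective ?_) i
    rw [LinearEquiv.coe_coe, LinearEquiv.apply_symm_apply, map_add, map_smul,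
      show M (b₀ 0) = e from hM 0, show M (b₀ (e₁ 1)) = G e - c • e from hM 1]
    show G _ = _
    rw [LinearEquiv.coe_coe, show M (b₀ 0) = e from hM 0, add_sub_cancel]
  refine ⟨by rw [key]; simp [b₀, e₁, Fin.ext_iff], fun i => ?_⟩
  rw [key]
  simp [b₀, e₁, Pi.single_apply, Fin.ext_iff]

theorem det_bordered_factor {m : ℕ} {c : K} (hc : c ≠ 0) (r l : Fin m → K) (M : Matrix (Fin m) (Fin m) K) :
    bordered c r l M = bordered 1 0 (c⁻¹ • l) 1 * bordered c r 0 (M - vecMulVec (c⁻¹ • l) r) := by
  rw [bordered_mul]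
  congr 1 <;> simp [smul_smul, hc]

theorem det_bordered_upper {m : ℕ} (c : K) (r : Fin m → K) (M : Matrix (Fin m) (Fin m) K) :
    (bordered c r 0 M).det = c * M.det := by
  rw [Matrix.det_succ_column_zero, Finset.sum_eq_single (0 : Fin (m + 1))]
  · rw [bordered_zz]
    have : (bordered c r 0 M).submatrix Fin.succ Fin.succ = M := by
      ext i j; simp [bordered_ss]
    simp [this]
  · intro i _ hi
    obtain ⟨j, rfl⟩ := Fin.exists_succ_eq.2 hi
    simp [bordered_sz]
  · simp

theorem det_bordered_lower {m : ℕ} (l : Fin m → K) :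
    (bordered (1 : K) 0 l 1).det = 1 := by
  rw [Matrix.det_succ_row_zero, Finset.sum_eq_single (0 : Fin (m + 1))]
  · have : (bordered (1 : K) 0 l 1).submatrix Fin.succ Fin.succ = 1 := by
      ext i j; simp [bordered_ss]
    simp [this, bordered_zz]
  · intro i _ hi
    obtain ⟨j, rfl⟩ := Fin.exists_succ_eq.2 hi
    simp [bordered_zs]
  · simp

/-- Prescribed diagonal. -/
theorem exists_gauss : ∀ (n : ℕ) (g : Matrix (Fin n) (Fin n) K), (n ≤ 1 ∨ NSm g) → ∀ c : Fin n → K,
    (∀ i, c i ≠ 0) → ∏ i, c i = g.det → ∃ P Pi L U : Matrix (Fin n) (Fin n) K, P * Pi = 1 ∧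
      P * g * Pi = L * U ∧ (∀ i j, i < j → L i j = 0) ∧ (∀ i, L i i = 1) ∧ (∀ i j, j < i → U i j = 0) ∧
      ∀ i, U i i = c i := by
  intro n
  induction n with
  | zero => intro g _ c _ _; exact ⟨1, 1, 1, 1, one_mul _, Subsingleton.elim _ _, fun i => i.elim0, fun i => i.elim0,
      fun i => i.elim0, fun i => i.elim0⟩
  | succ m ih =>
    intro g hg c hc hprod
    rcases Nat.eq_zero_or_pos m with rfl | hm
    · refine ⟨1, 1, 1, g, one_mul _, by simp, fun i j h => absurd h (by omega), fun i => by simp,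
        fun i j h => absurd h (by omega), fun i => ?_⟩
      rw [Fin.eq_zero i]
      simpa [Matrix.det_unique] using hprod.symm
    have hg' : NSm g := hg.resolve_left (by omega)
    obtain ⟨P₀, P₀i, hP₀, hc0, hcol⟩ := exists_corner_form hm g hg' (c 0)
    -- adjust so that the Schur complement is not scalar
    obtain ⟨P, Pi, r, l, M, hP, hform, hl, hS⟩ : ∃ (P Pi : Matrix (Fin (m + 1)) (Fin (m + 1)) K)
        (r l : Fin m → K) (M : Matrix (Fin m) (Fin m) K), P * Pi = 1 ∧ P * g * Pi = bordered (c 0) r l M ∧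
        (l ≠ 0) ∧ (m ≤ 1 ∨ NSm (M - vecMulVec ((c 0)⁻¹ • l) r)) := by
      obtain ⟨r, l, M, hform, hl⟩ : ∃ r l M, P₀ * g * P₀i = bordered (c 0) r l M ∧
          ∀ i : Fin m, l i = if (i : ℕ) = 0 then 1 else 0 := by
        refine ⟨_, _, _, (eq_bordered _).trans (by rw [hc0]), hcol⟩
      have hl0 : l ≠ 0 := fun h => by simpa [hl] using congrFun h ⟨0, hm⟩
      by_cases hS : m ≤ 1 ∨ NSm (M - vecMulVec ((c 0)⁻¹ • l) r)
      · exact ⟨P₀, P₀i, r, l, M, hP₀, hform, hl0, hS⟩
      simp only [NSm, not_or, not_le, not_forall, ne_eq, not_not] at hS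
      obtain ⟨hm2, σ, hσ⟩ := hS
      let s : Fin m → K := Pi.single ⟨1, hm2⟩ 1
      have hsl : s ⬝ᵥ l = 0 := by simp [s, hl]
      refine ⟨bordered 1 s 0 1 * P₀, P₀i * bordered 1 (-s) 0 1, r + (s ᵥ* M - c 0 • s), l, M - vecMulVec l s,
        ?_, ?_, hl0, Or.inr fun κ h => ?_⟩
      · rw [Matrix.mul_assoc, ← Matrix.mul_assoc P₀, hP₀, Matrix.one_mul, bordered_mul]
        simpa using bordered_one
      · rw [show bordered 1 s 0 1 * P₀ * g * (P₀i * bordered 1 (-s) 0 1) =
          bordered 1 s 0 1 * (P₀ * g * P₀i) * bordered 1 (-s) 0 1 by simp only [Matrix.mul_assoc], hform, bordered_mul,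
          bordered_mul]
        simp only [hsl, one_mul, add_zero, dotProduct_zero, mul_one, Matrix.one_mul, Matrix.mul_one, zero_vecMulVec,
          zero_add, smul_zero, Matrix.one_mulVec, Matrix.mulVec_zero, one_smul, Matrix.vecMul_one]
        congr 1
        · funext j; simp; ring
        · ext i j; simp [vecMulVec_apply]; ring
      · have e : ∀ i j, (M i j - l i * s j) - (c 0)⁻¹ * l i * (r j + ((s ᵥ* M) j - c 0 * s j)) = κ * (1 : Matrix (Fin m) (Fin m) K) i j := by
          intro i j
          simpa [vecMulVec_apply, mul_assoc] using congrFun (congrFun h i) j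
        have e' : ∀ i j, M i j = σ * (1 : Matrix (Fin m) (Fin m) K) i j + (c 0)⁻¹ * l i * r j := by
          intro i j
          have := congrFun (congrFun hσ i) j
          simp [vecMulVec_apply] at this
          linear_combination this
        have hsM : ∀ j, (s ᵥ* M) j = σ * s j := fun j => by
          simp only [s, Matrix.single_vecMul, one_smul]
          rw [Matrix.row_apply, e', hl]
          simp [Matrix.one_apply, Pi.single_apply, eq_comm]
        have h01 := e ⟨0, hm⟩ ⟨1, hm2⟩
        rw [hsM, e', hl] at h01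
        simp [s, Matrix.one_apply, Fin.ext_iff] at h01
        have hσ0 : σ ≠ 0 := by
          intro h0
          have hdet : g.det = 0 := by
            have h2 : (P₀ * g * P₀i).det = 0 := by
              rw [hform, det_bordered_factor (hc 0), Matrix.det_mul, det_bordered_upper, hσ, h0]
              simp [Matrix.det_zero, (Fin.pos_iff_nonempty (n := m)).1 hm]
            rw [Matrix.det_mul, Matrix.det_mul, mul_right_comm, ← Matrix.det_mul, hP₀, Matrix.det_one, one_mul] at h2
            exact h2
          rw [hdet, Finset.prod_eq_zero_iff] at hprod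
          obtain ⟨i, -, hi⟩ := hprod
          exact hc i hi
        apply hσ0
        field_simp [hc 0] at h01
        linear_combination -h01
    set S := M - vecMulVec ((c 0)⁻¹ • l) r with hSd
    have hdetS : S.det = ∏ i : Fin m, c i.succ := by
      have h2 : (P * g * Pi).det = g.det := by
        rw [Matrix.det_mul, Matrix.det_mul, mul_right_comm, ← Matrix.det_mul, hP, Matrix.det_one, one_mul]
      rw [hform, det_bordered_factor (hc 0), Matrix.det_mul, det_bordered_lower, one_mul, det_bordered_upper, ← hprod,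
        Fin.prod_univ_succ] at h2
      exact mul_left_cancel₀ (hc 0) h2
    obtain ⟨Q, Qi, L, U, hQ, hLU, hL, hL1, hU, hU1⟩ := ih S hS (fun i => c i.succ) (fun i => hc _) hdetS.symm
    refine ⟨bordered 1 0 0 Q * P, Pi * bordered 1 0 0 Qi, bordered 1 0 ((c 0)⁻¹ • Q *ᵥ l) L,
      bordered (c 0) (r ᵥ* Qi) 0 U, ?_, ?_, ?_, ?_, ?_, ?_⟩
    · rw [Matrix.mul_assoc, ← Matrix.mul_assoc P, hP, Matrix.one_mul, bordered_mul, hQ]
      simpa using bordered_one
    · rw [show bordered 1 0 0 Q * P * g * (Pi * bordered 1 0 0 Qi) =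
        bordered 1 0 0 Q * (P * g * Pi) * bordered 1 0 0 Qi by simp only [Matrix.mul_assoc], hform, bordered_mul,
        bordered_mul, bordered_mul, ← hLU]
      simp only [one_mul, zero_dotProduct, add_zero, mul_one, Matrix.zero_vecMul, one_smul, smul_zero, zero_add,
        zero_vecMulVec, Matrix.vecMulVec_zero, Matrix.mulVec_zero, dotProduct_zero, smul_smul, hc 0, ne_eq,
        not_false_eq_true, mul_inv_cancel₀]
      congr 1
      · rw [hSd, Matrix.mul_sub, Matrix.sub_mul, Matrix.mul_vecMulVec, Matrix.vecMulVec_mul, Matrix.mulVec_smul,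
          Matrix.smul_vecMulVec]
        abel
    · intro i j hij
      cases i using Fin.cases <;> cases j using Fin.cases
      · exact absurd hij (lt_irrefl _)
      · rw [bordered_zs]; rfl
      · exact absurd hij (not_lt.2 (Fin.zero_le _))
      · rw [bordered_ss]; exact hL _ _ (Fin.succ_lt_succ_iff.1 hij)
    · intro i
      cases i using Fin.cases
      · rfl
      · rw [bordered_ss]; exact hL1 _
    · intro i j hij
      cases i using Fin.cases <;> cases j using Fin.cases
      · exact absurd hij (lt_irrefl _)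
      · exact absurd hij (not_lt.2 (Fin.zero_le _))
      · rw [bordered_sz]; rfl
      · rw [bordered_ss]; exact hU _ _ (Fin.succ_lt_succ_iff.1 hij)
    · intro i
      cases i using Fin.cases
      · rfl
      · rw [bordered_ss]; exact hU1 _

end Cfsg.Agent.Classical.CovPSL
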