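import Cfsg.Agent.Lib.Classical.CovPSL.Cyc
import Cfsg.Agent.Lib.Classical.CovPSL.Two
import Cfsg.Agent.Lib.Classical.CovPSL.Gauss
import Cfsg.Agent.Lib.Classical.RegularBlocks

set_option autoImplicit false

/-! A non-scalar operator is a product of two conjugates of a given split operator with lines as eigenspaces. -/

namespace Cfsg.Agent.Classical.CovPSL

open Matrix Module Polynomial

universe u v

variable {K : Type u} [Field K]

theorem pol_replicate (k : ℕ) (a : K) : pol (List.replicate k a) = (X - Polynomial.C a) ^ k := by simp [pol]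

theorem pol_ofFn {n : ℕ} (f : Fin n → K) : pol (List.ofFn f) = ∏ i, (X - Polynomial.C (f i)) := by
  simp [pol, List.map_ofFn, List.prod_ofFn]

/-- Scaling. -/
theorem Spl.smul {V : Type v} [AddCommGroup V] [Module K V] {f : Module.End K V} {k : ℕ} {a b : K}
    (h : Spl f (List.replicate k b)) (ha : a ≠ 0) : Spl (a • f) (List.replicate k (a * b)) := by
  refine ⟨by simpa using h.1, ?_, fun c x y hx hfx hfy => ?_⟩
  · have h2 := h.2.1
    simp only [Ann, pol_replicate, map_pow, map_sub, aeval_X, aeval_C] at h2 ⊢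
    have e : a • f - algebraMap K (Module.End K V) (a * b) = a • (f - algebraMap K (Module.End K V) b) := by
      rw [smul_sub, Algebra.algebraMap_eq_smul_one, Algebra.algebraMap_eq_smul_one, mul_smul]
    rw [e, _root_.smul_pow, h2, smul_zero]
  · have key : ∀ z, (a • f) z = c • z → f z = (a⁻¹ * c) • z := fun z hz => by
      rw [mul_smul, ← hz, LinearMap.smul_apply, inv_smul_smul₀ ha]
    exact h.2.2 _ x y hx (key x hfx) (key y hfy)

/-- The standard regular unipotent. -/
def jord (K : Type u) [Field K] (m : ℕ) : Matrix (Fin m) (Fin m) K :=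
  1 + Matrix.of fun i j => if j.val + 1 = i.val then 1 else 0

theorem jord_mulVec (m : ℕ) (x : Fin m → K) (i : Fin m) :
    (jord K m *ᵥ x) i = x i + if h : 0 < i.val then x ⟨i.val - 1, by omega⟩ else 0 := by
  simp only [jord, Matrix.add_mulVec, Matrix.one_mulVec, Pi.add_apply]
  congr 1
  simp only [Matrix.mulVec, dotProduct, Matrix.of_apply, ite_mul, one_mul, zero_mul]
  split_ifs with h
  · rw [Finset.sum_eq_single (⟨i.val - 1, by omega⟩ : Fin m)]
    · rw [if_pos (by simp only; omega)]
    · intro j _ hj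
      rw [if_neg fun e => hj (Fin.ext (by simp only; omega))]
    · simp
  · exact Finset.sum_eq_zero fun j _ => if_neg (by omega)

theorem reg_jord [Finite K] (m : ℕ) (hm : 0 < m) : RegularBlocks.Reg (jord K m) := by
  have hd : (jord K m).det = 1 := by
    rw [Matrix.det_of_lowerTriangular _ (fun i j h => by
      have h' : i.val < j.val := h
      simp [jord, Matrix.one_apply_ne (Fin.ne_of_val_ne h'.ne), show j.val + 1 ≠ i.val by omega])]
    simp [jord]
  refine RegularBlocks.reg_of_lower hm (a := (⟨jord K m, hd⟩ : SpecialLinearGroup (Fin m) K)) ?_ ?_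
  · intro i j h
    have h' : i.val ≤ j.val := h
    simp [jord, Matrix.one_apply, show j.val + 1 ≠ i.val by omega]
  · intro i j h
    have hne : i ≠ j := Fin.ne_of_val_ne (by omega)
    simp [jord, hne, h]

theorem spl_jord [Finite K] (m : ℕ) : Spl (Matrix.toLin' (jord K m)) (List.replicate m (1 : K)) := by
  rcases Nat.eq_zero_or_pos m with rfl | hm
  · exact ⟨by simp, Subsingleton.elim _ _, fun c x y hx => absurd (Subsingleton.elim x 0) hx⟩
  refine ⟨by simp, ?_, fun c x y hx hfx hfy => ?_⟩
  · simp only [Ann, pol_replicate, map_pow, map_sub, aeval_X, aeval_C, map_one]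
    rw [show Matrix.toLin' (jord K m) - 1 = Matrix.toLin' (jord K m - 1) by simp [map_sub, Module.End.one_eq_id],
      ← Matrix.toLin'_pow, (reg_jord m hm).1, map_zero]
  · have key : ∀ z, Matrix.toLin' (jord K m) z = c • z →
        ∀ i : Fin m, i.val + 1 < m → z i = 0 := by
      intro z hz
      have hz' : ∀ i : Fin m, (c - 1) * z i = if h : 0 < i.val then z ⟨i.val - 1, by omega⟩ else 0 := fun i => by
        have := congrFun hz i
        rw [Matrix.toLin'_apply, jord_mulVec, Pi.smul_apply, smul_eq_mul] at this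
        linear_combination -this
      intro i hi
      by_cases hc : c = 1
      · have := hz' ⟨i.val + 1, hi⟩
        simpa [hc] using this.symm
      · obtain ⟨k, hk⟩ := i
        induction k with
        | zero => simpa [sub_ne_zero.2 hc] using hz' ⟨0, hk⟩
        | succ k ih =>
          have := hz' ⟨k + 1, hk⟩
          simpa [sub_ne_zero.2 hc, ih (by omega) (by simp at hi ⊢; omega)] using this
    let last : Fin m := ⟨m - 1, by omega⟩
    have hl : x last ≠ 0 := fun e => hx (funext fun i => by
      by_cases hi : i.val + 1 < m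
      · exact key x hfx i hi
      · rwa [show i = last from Fin.ext (show i.val = m - 1 by omega)])
    refine Submodule.mem_span_singleton.2 ⟨y last / x last, funext fun i => ?_⟩
    by_cases hi : i.val + 1 < m
    · simp [key x hfx i hi, key y hfy i hi]
    · rw [show i = last from Fin.ext (show i.val = m - 1 by omega)]
      simp [hl]

theorem spl_reg [Finite K] {m : ℕ} {A : Matrix (Fin m) (Fin m) K} (hA : RegularBlocks.Reg A) (hm : 0 < m) {a : K}
    (ha : a ≠ 0) : Spl (Matrix.toLin' (a • A)) (List.replicate m a) := by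
  obtain ⟨P, hP⟩ := RegularBlocks.exists_conj (reg_jord m hm) hA
  have h := (spl_jord m).conj (Matrix.toLin'OfInv (Units.inv_mul P) (Units.mul_inv P))
    (f' := Matrix.toLin' A) fun x => by
      show Matrix.toLin' A (Matrix.toLin' P.val x) = Matrix.toLin' P.val (Matrix.toLin' (jord K m) x)
      rw [← Matrix.toLin'_mul_apply, ← Matrix.toLin'_mul_apply, ← hP, Matrix.mul_assoc, Units.inv_mul, Matrix.mul_one]
  simpa using h.smul ha

/-- One block: opposite unitriangular factors become regular after inserting a pair of inverse matrices. -/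
theorem exists_block [Fintype K] (hF : 4 ≤ Fintype.card K) {m : ℕ} {v₀ u₀ : Matrix (Fin m) (Fin m) K} {a : K}
    (ha : a ≠ 0) (hv : ∀ i j, i ≤ j → v₀ i j = if i = j then 1 else 0)
    (hu : ∀ i j, j ≤ i → u₀ i j = if i = j then a * a else 0) :
    ∃ W W' : Matrix (Fin m) (Fin m) K, W * W' = 1 ∧ Spl (Matrix.toLin' (v₀ * W)) (List.replicate m a) ∧
      Spl (Matrix.toLin' (W' * u₀)) (List.replicate m a) := by
  rcases (show m = 0 ∨ m = 1 ∨ 2 ≤ m by omega) with rfl | rfl | hm
  · have h0 : ∀ M : Matrix (Fin 0) (Fin 0) K, Spl (Matrix.toLin' M) (List.replicate 0 a) := fun M =>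
      ⟨by simp, Subsingleton.elim _ _, fun c x y hx => absurd (Subsingleton.elim x 0) hx⟩
    exact ⟨1, 1, one_mul _, h0 _, h0 _⟩
  · have e1 : jord K 1 = 1 := by ext i j; simp [jord, Matrix.one_apply]
    have hs : Spl (Matrix.toLin' (a • (1 : Matrix (Fin 1) (Fin 1) K))) (List.replicate 1 a) :=
      e1 ▸ spl_reg (reg_jord 1 one_pos) one_pos ha
    refine ⟨a • 1, a⁻¹ • 1, by simp [smul_smul, ha], ?_, ?_⟩
    · have : v₀ * (a • 1) = a • (1 : Matrix (Fin 1) (Fin 1) K) := by
        ext i j; fin_cases i; fin_cases j; simp [hv 0 0 le_rfl]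
      rwa [this]
    · have : (a⁻¹ • (1 : Matrix (Fin 1) (Fin 1) K)) * u₀ = a • 1 := by
        ext i j; fin_cases i; fin_cases j; simp [hu 0 0 le_rfl, ha]
      rwa [this]
  let u₁ := (a * a)⁻¹ • u₀
  have hu₁ : ∀ i j, j ≤ i → u₁ i j = if i = j then 1 else 0 := fun i j h => by
    simp only [u₁, Matrix.smul_apply, hu i j h, smul_eq_mul]
    split_ifs
    · exact inv_mul_cancel₀ (mul_ne_zero ha ha)
    · exact mul_zero _
  have hdv : v₀.det = 1 := by
    rw [Matrix.det_of_lowerTriangular _ (fun i j h => by
      have h' : i < j := h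
      rw [hv i j h'.le, if_neg h'.ne])]
    simp [hv _ _ le_rfl]
  have hdu : u₁.det = 1 := by
    rw [Matrix.det_of_upperTriangular (fun i j h => by
      have h' : j < i := h
      rw [hu₁ i j h'.le, if_neg h'.ne'])]
    simp [hu₁ _ _ le_rfl]
  obtain ⟨A, B, hA, hB, e⟩ := RegularBlocks.exists_product (F := K) hF hm (v := ⟨v₀, hdv⟩) (u := ⟨u₁, hdu⟩) hv
    (fun i j h => by
      show u₁ j i = _
      rw [hu₁ j i h]; simp [eq_comm])
  have e' : v₀ * u₁ = A.val * B.val := congrArg Subtype.val e
  let V₀ : SpecialLinearGroup (Fin m) K := ⟨v₀, hdv⟩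
  let v' : Matrix (Fin m) (Fin m) K := V₀⁻¹.val
  have hvv : v₀ * v' = 1 := congrArg Subtype.val (mul_inv_cancel V₀)
  have hvv' : v' * v₀ = 1 := congrArg Subtype.val (inv_mul_cancel V₀)
  have hAA : A.val * (A⁻¹).val = 1 := congrArg Subtype.val (mul_inv_cancel A)
  refine ⟨a • (v' * A.val), a⁻¹ • ((A⁻¹).val * v₀), ?_, ?_, ?_⟩
  · rw [Matrix.smul_mul, Matrix.mul_smul, smul_smul, mul_inv_cancel₀ ha, one_smul, Matrix.mul_assoc,
      ← Matrix.mul_assoc A.val, hAA, Matrix.one_mul, hvv']
  · rw [Matrix.mul_smul, ← Matrix.mul_assoc, hvv, Matrix.one_mul]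
    exact spl_reg hA (by omega) ha
  · have : (a⁻¹ • ((A⁻¹).val * v₀)) * u₀ = a • B.val := by
      have hu₀ : u₀ = (a * a) • u₁ := by
        simp only [u₁, smul_smul, mul_inv_cancel₀ (mul_ne_zero ha ha), one_smul]
      rw [hu₀, Matrix.smul_mul, Matrix.mul_smul, smul_smul, Matrix.mul_assoc, e', ← Matrix.mul_assoc,
        show (A⁻¹).val * A.val = 1 from congrArg Subtype.val (inv_mul_cancel A), Matrix.one_mul]
      congr 1
      field_simp
    rw [this]
    exact spl_reg hB (by omega) ha

/-- Block triangular assembly. -/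
theorem spl_triangular {n q : ℕ} (b : Fin n → Fin q) (val : Fin q → K) (hval : Function.Injective val)
    (M : Matrix (Fin n) (Fin n) K) (hM : ∀ i j, b j < b i → M i j = 0)
    (hblk : ∀ k, Spl (Matrix.toLin' (M.submatrix Subtype.val Subtype.val : Matrix {i // b i = k} {i // b i = k} K))
      (List.replicate (Fintype.card {i // b i = k}) (val k))) :
    Spl (Matrix.toLin' M) (List.ofFn fun i => val (b i)) := by
  classical
  set f := Matrix.toLin' M
  let blk (k : Fin q) := Matrix.toLin' (M.submatrix Subtype.val Subtype.val : Matrix {i // b i = k} {i // b i = k} K)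
  let res (k : Fin q) (x : Fin n → K) : {i // b i = k} → K := fun i => x i.1
  -- vectors supported on levels below `k`
  let S (k : ℕ) : Submodule K (Fin n → K) :=
    { carrier := {x | ∀ i, k ≤ (b i : ℕ) → x i = 0}
      add_mem' := fun hx hy i h => by simp [hx i h, hy i h]
      zero_mem' := fun _ _ => rfl
      smul_mem' := fun t _ hx i h => by simp [hx i h] }
  have hSf : ∀ k x, x ∈ S k → f x ∈ S k := fun k x hx i hi => by
    rw [Matrix.toLin'_apply, Matrix.mulVec, dotProduct]
    refine Finset.sum_eq_zero fun j _ => ?_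
    rcases lt_or_ge (b j) (b i) with h | h
    · rw [hM i j h, zero_mul]
    · rw [hx j (hi.trans (Fin.le_def.1 h)), mul_zero]
  have hres : ∀ (k : Fin q) x, x ∈ S (k + 1) → res k (f x) = blk k (res k x) := fun k x hx => funext fun i => by
    simp only [res, blk, Matrix.toLin'_apply, Matrix.mulVec, dotProduct, f, Matrix.submatrix_apply]
    rw [← Finset.sum_subtype (Finset.univ.filter fun j => b j = k) (by simp) fun j => M i.1 j * x j]
    refine (Finset.sum_subset (Finset.subset_univ _) fun j _ hj => ?_).symm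
    simp only [Finset.mem_filter, Finset.mem_univ, true_and] at hj
    rcases lt_or_gt_of_ne hj with h | h
    · rw [hM i.1 j (by rw [i.2]; exact h), zero_mul]
    · rw [hx j (by have := Fin.lt_def.1 h; omega), mul_zero]
  have hresp : ∀ (k : Fin q) (p : K[X]) x, x ∈ S (k + 1) →
      aeval f p x ∈ S (k + 1) ∧ res k (aeval f p x) = aeval (blk k) p (res k x) := by
    intro k p
    induction p using Polynomial.induction_on with
    | C c => intro x hx; simp only [aeval_C, Module.algebraMap_end_apply]; exact ⟨Submodule.smul_mem _ _ hx, rfl⟩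
    | add p r hp hr =>
      intro x hx
      simp only [map_add, LinearMap.add_apply]
      exact ⟨add_mem (hp x hx).1 (hr x hx).1, by rw [← (hp x hx).2, ← (hr x hx).2]; rfl⟩
    | monomial j c ih =>
      intro x hx
      rw [pow_succ, ← mul_assoc, map_mul (aeval f), map_mul (aeval (blk k)), aeval_X, aeval_X,
        Module.End.mul_apply, Module.End.mul_apply]
      obtain ⟨h1, h2⟩ := ih (f x) (hSf _ x hx)
      exact ⟨h1, by rw [h2, hres k x hx]⟩
  let cnt (k : Fin q) := Fintype.card {i // b i = k}
  have hpol : pol (List.ofFn fun i => val (b i)) = ∏ k, (X - Polynomial.C (val k)) ^ cnt k := by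
    rw [pol_ofFn, ← Finset.prod_fiberwise Finset.univ b]
    refine Finset.prod_congr rfl fun k _ => ?_
    rw [Finset.prod_congr rfl (g := fun _ => X - Polynomial.C (val k)) (fun i hi => by rw [(Finset.mem_filter.1 hi).2]),
      Finset.prod_const]
    show _ ^ _ = _ ^ Fintype.card {i // b i = k}
    rw [Fintype.card_subtype]
  refine ⟨by simp, ?_, ?_⟩
  · rw [Ann, hpol]
    have key : ∀ k, k ≤ q → ∀ x ∈ S k,
        aeval f (∏ j ∈ Finset.univ.filter (fun j : Fin q => (j : ℕ) < k), (X - Polynomial.C (val j)) ^ cnt j) x = 0 := by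
      intro k
      induction k with
      | zero =>
        intro _ x hx
        rw [show x = 0 from funext fun i => hx i (Nat.zero_le _), map_zero]
      | succ k ih =>
        intro hk x hx
        let k' : Fin q := ⟨k, hk⟩
        have e : (Finset.univ.filter fun j : Fin q => (j : ℕ) < k + 1) =
            insert k' (Finset.univ.filter fun j : Fin q => (j : ℕ) < k) := by
          ext j; simp [k', Fin.ext_iff]; omega
        rw [e, Finset.prod_insert (by simp [k']), mul_comm, map_mul, Module.End.mul_apply]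
        refine ih (Nat.le_of_succ_le hk) _ fun i hi => ?_
        obtain ⟨h1, h2⟩ := hresp k' ((X - Polynomial.C (val k')) ^ cnt k') x hx
        rcases Nat.lt_or_ge k (b i : ℕ) with h | h
        · exact h1 i h
        · have hb : b i = k' := Fin.ext (le_antisymm h hi)
          have h3 := (hblk k').2.1
          rw [Ann, pol_replicate] at h3
          have := congrFun h2 ⟨i, hb⟩
          rw [h3] at this
          exact this
    refine LinearMap.ext fun x => ?_
    have := key q le_rfl x fun i hi => absurd hi (not_le.2 (b i).2)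
    rwa [show (Finset.univ.filter fun j : Fin q => (j : ℕ) < q) = Finset.univ from by ext j; simp] at this
  · intro c x y hx hfx hfy
    have top : ∀ z : Fin n → K, z ≠ 0 → f z = c • z →
        ∃ k : Fin q, val k = c ∧ z ∈ S (k + 1) ∧ res k z ≠ 0 := by
      intro z hz hfz
      have hne : (Finset.univ.filter fun i => z i ≠ 0).Nonempty := by
        obtain ⟨i, hi⟩ := Function.ne_iff.1 hz
        exact ⟨i, by simpa using hi⟩
      obtain ⟨i, hi, hmax⟩ := (Finset.univ.filter fun i => z i ≠ 0).exists_max_image b hne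
      rw [Finset.mem_filter] at hi
      have hS : z ∈ S (b i + 1) := fun j hj => by
        by_contra h
        have := Fin.le_def.1 (hmax j (by simpa using h))
        omega
      have hr : res (b i) z ≠ 0 := fun e => hi.2 (congrFun e ⟨i, rfl⟩)
      refine ⟨b i, ?_, hS, hr⟩
      have h1 : blk (b i) (res (b i) z) = c • res (b i) z := by rw [← hres _ z hS, hfz]; rfl
      by_contra hc
      apply hr
      have h3 := (hblk (b i)).2.1
      rw [Ann, pol_replicate] at h3
      have h4 : ∀ j, ((aeval (blk (b i)) ((X - Polynomial.C (val (b i))) ^ j)) (res (b i) z)) =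
          (c - val (b i)) ^ j • res (b i) z := by
        intro j
        induction j with
        | zero => simp
        | succ j ihj =>
          rw [pow_succ', map_mul, Module.End.mul_apply, ihj, map_smul, map_sub, aeval_X, aeval_C,
            LinearMap.sub_apply, Module.algebraMap_end_apply, h1, ← sub_smul, smul_smul, ← pow_succ]
      have := h4 (cnt (b i))
      rw [h3, LinearMap.zero_apply, eq_comm, smul_eq_zero] at this
      exact this.resolve_left (pow_ne_zero _ (sub_ne_zero.2 (Ne.symm hc)))
    obtain ⟨k, hk, hxS, hxr⟩ := top x hx hfx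
    by_cases hy : y = 0
    · rw [hy]; exact Submodule.zero_mem _
    obtain ⟨k', hk', hyS, hyr⟩ := top y hy hfy
    obtain rfl : k' = k := hval (hk'.trans hk.symm)
    obtain ⟨t, ht⟩ := Submodule.mem_span_singleton.1 ((hblk k').2.2 c _ _ hxr
      (show blk k' (res k' x) = c • res k' x by rw [← hres _ x hxS, hfx]; rfl)
      (show blk k' (res k' y) = c • res k' y by rw [← hres _ y hyS, hfy]; rfl))
    refine Submodule.mem_span_singleton.2 ⟨t, (sub_eq_zero.1 ?_).symm⟩
    by_contra hd
    obtain ⟨k'', hk'', hdS, hdr⟩ := top (y - t • x) hd (by rw [map_sub, map_smul, hfx, hfy, smul_sub, smul_comm])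
    obtain rfl : k'' = k' := hval (hk''.trans hk'.symm)
    exact hdr (funext fun i => by simp only [res, Pi.sub_apply, Pi.smul_apply]; exact sub_eq_zero.2 (congrFun ht i).symm)

theorem sum_fiber {ι κ : Type*} [Fintype ι] [DecidableEq κ] (b : ι → κ) (k : κ) (f : ι → K)
    (h : ∀ l, b l ≠ k → f l = 0) : ∑ l, f l = ∑ l : {l // b l = k}, f l := by
  classical
  rw [← Finset.sum_subtype (Finset.univ.filter fun l => b l = k) (by simp) f]
  exact (Finset.sum_subset (Finset.subset_univ _) fun l _ hl => h l (by simpa using hl)).symm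

/-- A non-scalar matrix with the right determinant is similar to a product of two split ones. -/
theorem exists_two_spl [Fintype K] (hF : 4 ≤ Fintype.card K) {n : ℕ} (g : Matrix (Fin n) (Fin n) K) (hg : NSm g)
    (α : Fin n → K) (hα : ∀ i, α i ≠ 0) (hd : g.det = (∏ i, α i) * ∏ i, α i) :
    ∃ (P Pi A B : Matrix (Fin n) (Fin n) K) (σ : Equiv.Perm (Fin n)), P * Pi = 1 ∧ P * g * Pi = A * B ∧
      Spl (Matrix.toLin' A) (List.ofFn (α ∘ σ)) ∧ Spl (Matrix.toLin' B) (List.ofFn (α ∘ σ)) := by
  classical
  let e := Fintype.equivFin K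
  let σ := Tuple.sort fun i => e (α i)
  let b : Fin n → Fin (Fintype.card K) := fun i => e (α (σ i))
  have hb : Monotone b := Tuple.monotone_sort fun i => e (α i)
  have hval : ∀ i, e.symm (b i) = α (σ i) := fun i => e.symm_apply_apply _
  obtain ⟨P, Pi, L, U, hP, hLU, hL, hL1, hU, hU1⟩ := exists_gauss n g (Or.inr hg) (fun i => α (σ i) * α (σ i))
    (fun i => mul_ne_zero (hα _) (hα _))
    (by rw [Finset.prod_mul_distrib, Equiv.prod_comp σ α, hd])
  have hnum : ∀ k, ∃ W W' : Matrix {i // b i = k} {i // b i = k} K, W * W' = 1 ∧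
      Spl (Matrix.toLin' ((L.submatrix Subtype.val Subtype.val : Matrix {i // b i = k} {i // b i = k} K) * W))
        (List.replicate (Fintype.card {i // b i = k}) (e.symm k)) ∧
      Spl (Matrix.toLin' (W' * (U.submatrix Subtype.val Subtype.val : Matrix {i // b i = k} {i // b i = k} K)))
        (List.replicate (Fintype.card {i // b i = k}) (e.symm k)) := by
    intro k
    let o : Fin (Fintype.card {i // b i = k}) ≃o {i // b i = k} := Fintype.orderIsoFinOfCardEq _ rfl
    rcases Nat.eq_zero_or_pos (Fintype.card {i // b i = k}) with h0 | hpos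
    · haveI : IsEmpty {i // b i = k} := Fintype.card_eq_zero_iff.1 h0
      have hS : ∀ M : Matrix {i // b i = k} {i // b i = k} K,
          Spl (Matrix.toLin' M) (List.replicate (Fintype.card {i // b i = k}) (e.symm k)) := fun M =>
        ⟨by simp, Subsingleton.elim _ _, fun c x y hx => absurd (Subsingleton.elim x 0) hx⟩
      exact ⟨1, 1, one_mul _, hS _, hS _⟩
    have ha : e.symm k ≠ 0 := by
      obtain ⟨i, hi⟩ : Nonempty {i // b i = k} := Fintype.card_pos_iff.1 hpos
      rw [← hi, hval]; exact hα _
    obtain ⟨W, W', hW, hA, hB⟩ := exists_block hF ha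
      (v₀ := Matrix.of fun i j => L (o i).1 (o j).1) (u₀ := Matrix.of fun i j => U (o i).1 (o j).1)
      (fun i j h => by
        rcases lt_or_eq_of_le h with h | rfl
        · rw [if_neg (ne_of_lt h)]; exact hL _ _ (o.strictMono h)
        · rw [if_pos rfl]; exact hL1 _)
      (fun i j h => by
        rcases lt_or_eq_of_le h with h | rfl
        · rw [if_neg (ne_of_gt h)]; exact hU _ _ (o.strictMono h)
        · rw [if_pos rfl]
          show U (o j).1 (o j).1 = _
          rw [hU1, ← hval, (o j).2])
    let Φ : (Fin (Fintype.card {i // b i = k}) → K) ≃ₗ[K] ({i // b i = k} → K) :=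
      LinearEquiv.funCongrLeft K K o.toEquiv.symm
    refine ⟨W.submatrix o.symm o.symm, W'.submatrix o.symm o.symm, ?_, hA.conj Φ fun x => ?_, hB.conj Φ fun x => ?_⟩
    · show W.submatrix o.symm.toEquiv o.symm.toEquiv * W'.submatrix o.symm.toEquiv o.symm.toEquiv = 1
      rw [Matrix.submatrix_mul_equiv, hW]
      exact Matrix.submatrix_one_equiv o.symm.toEquiv
    · funext i
      simp only [Φ, LinearEquiv.funCongrLeft_apply, LinearMap.funLeft_apply, Matrix.toLin'_apply, Matrix.mulVec,
        dotProduct, Matrix.mul_apply, Matrix.of_apply, Matrix.submatrix_apply, RelIso.coe_fn_toEquiv,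
        OrderIso.toEquiv_symm, OrderIso.apply_symm_apply]
      refine (Fintype.sum_equiv o.toEquiv _ _ fun j => ?_).symm
      congr 1
      · exact Fintype.sum_equiv o.toEquiv _ _ fun l => by simp
      · simp
    · funext i
      simp only [Φ, LinearEquiv.funCongrLeft_apply, LinearMap.funLeft_apply, Matrix.toLin'_apply, Matrix.mulVec,
        dotProduct, Matrix.mul_apply, Matrix.of_apply, Matrix.submatrix_apply, RelIso.coe_fn_toEquiv,
        OrderIso.toEquiv_symm, OrderIso.apply_symm_apply]
      refine (Fintype.sum_equiv o.toEquiv _ _ fun j => ?_).symm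
      congr 1
      · exact Fintype.sum_equiv o.toEquiv _ _ fun l => by simp
      · simp
  choose W W' hW hA hB using hnum
  let D : Matrix (Fin n) (Fin n) K := Matrix.of fun i j => if h : b i = b j then W (b j) ⟨i, h⟩ ⟨j, rfl⟩ else 0
  let D' : Matrix (Fin n) (Fin n) K := Matrix.of fun i j => if h : b i = b j then W' (b j) ⟨i, h⟩ ⟨j, rfl⟩ else 0
  have hD : ∀ (N : (k : Fin (Fintype.card K)) → Matrix {i // b i = k} {i // b i = k} K) (i j : Fin n) (k) (hi : b i = k)
      (hj : b j = k), (if h : b i = b j then N (b j) ⟨i, h⟩ ⟨j, rfl⟩ else 0) = N k ⟨i, hi⟩ ⟨j, hj⟩ := by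
    intro N i j k hi hj
    subst hj
    rw [dif_pos hi]
  have hDz : ∀ i j, b i ≠ b j → D i j = 0 ∧ D' i j = 0 := fun i j h => ⟨dif_neg h, dif_neg h⟩
  have hDD : D * D' = 1 := by
    ext i j
    rw [Matrix.mul_apply]
    by_cases h : b i = b j
    · rw [sum_fiber b (b j) _ fun l hl => by rw [(hDz l j hl).2, mul_zero]]
      have e1 : ∀ l : {l // b l = b j}, D i l.1 * D' l.1 j = W (b j) ⟨i, h⟩ l * W' (b j) l ⟨j, rfl⟩ := fun l => by
        simp only [D, D', Matrix.of_apply, hD W i l.1 _ h l.2, hD W' l.1 j _ l.2 rfl]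
      simp only [e1, ← Matrix.mul_apply, hW]
      simp [Matrix.one_apply]
    · rw [Matrix.one_apply_ne (fun e => h (by rw [e]))]
      refine Finset.sum_eq_zero fun l _ => ?_
      by_cases hl : b l = b j
      · rw [(hDz i l (fun e => h (e.trans hl))).1, zero_mul]
      · rw [(hDz l j hl).2, mul_zero]
  have hblkA : ∀ k (i j : {i // b i = k}), (L * D) i.1 j.1 =
      ((L.submatrix Subtype.val Subtype.val : Matrix {i // b i = k} {i // b i = k} K) * W k) i j := fun k i j => by
    rw [Matrix.mul_apply, Matrix.mul_apply,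
      sum_fiber b k _ fun l hl => by rw [(hDz l j.1 (by rw [j.2]; exact hl)).1, mul_zero]]
    refine Finset.sum_congr rfl fun l _ => ?_
    simp only [D, Matrix.of_apply, hD W l.1 j.1 k l.2 j.2, Matrix.submatrix_apply]
  have hblkB : ∀ k (i j : {i // b i = k}), (D' * U) i.1 j.1 =
      (W' k * (U.submatrix Subtype.val Subtype.val : Matrix {i // b i = k} {i // b i = k} K)) i j := fun k i j => by
    rw [Matrix.mul_apply, Matrix.mul_apply,
      sum_fiber b k _ fun l hl => by rw [(hDz i.1 l (by rw [i.2]; exact Ne.symm hl)).2, zero_mul]]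
    refine Finset.sum_congr rfl fun l _ => ?_
    simp only [D', Matrix.of_apply, hD W' i.1 l.1 k i.2 l.2, Matrix.submatrix_apply]
  refine ⟨P, Pi, L * D, D' * U, σ, hP, by rw [hLU, Matrix.mul_assoc, ← Matrix.mul_assoc D, hDD, Matrix.one_mul], ?_, ?_⟩
  · -- lower: reverse the levels
    have h := spl_triangular (fun i => Fin.rev (b i)) (fun k => e.symm (Fin.rev k))
      (e.symm.injective.comp Fin.rev_injective) (L * D) (fun i j h => by
        rw [Fin.rev_lt_rev] at h
        rw [Matrix.mul_apply]
        refine Finset.sum_eq_zero fun l _ => ?_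
        by_cases hl : b l = b j
        · rw [hL i l (lt_of_not_ge fun hle => absurd (hb hle) (not_le.2 (hl ▸ h))), zero_mul]
        · rw [(hDz l j hl).1, mul_zero])
      (fun k => by
        let ε : {i // b i = Fin.rev k} ≃ {i // Fin.rev (b i) = k} := Equiv.subtypeEquivRight fun i => by
          constructor <;> intro h <;> [rw [h, Fin.rev_rev]; rw [← h, Fin.rev_rev]]
        rw [← Fintype.card_congr ε]
        refine (hA (Fin.rev k)).conj (LinearEquiv.funCongrLeft K K ε.symm) fun x => ?_
        funext i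
        simp only [LinearEquiv.funCongrLeft_apply, LinearMap.funLeft_apply, Matrix.toLin'_apply, Matrix.mulVec,
          dotProduct]
        refine (Fintype.sum_equiv ε _ _ fun j => ?_).symm
        rw [← hblkA]
        simp [ε])
    simpa [hval, Function.comp_def] using h
  · have h := spl_triangular b e.symm e.symm.injective (D' * U) (fun i j h => by
        rw [Matrix.mul_apply]
        refine Finset.sum_eq_zero fun l _ => ?_
        by_cases hl : b i = b l
        · rw [hU l j (lt_of_not_ge fun hle => absurd (hb hle) (not_le.2 (hl ▸ h))), mul_zero]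
        · rw [(hDz i l hl).2, zero_mul])
      (fun k => by
        have e2 : ((D' * U).submatrix Subtype.val Subtype.val : Matrix {i // b i = k} {i // b i = k} K) =
            W' k * U.submatrix Subtype.val Subtype.val := Matrix.ext fun i j => hblkB k i j
        rw [e2]; exact hB k)
    simpa [hval, Function.comp_def] using h

section

variable {V : Type v} [AddCommGroup V] [Module K V] [FiniteDimensional K V]

theorem conj_of_intertwine {P A X : V ≃ₗ[K] V} (h : ∀ x, X (P x) = P (A x)) : X = P * A * P⁻¹ := by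
  refine LinearEquiv.ext fun x => ?_
  rw [mul_apply', mul_apply', ← h, apply_inv]

/-- Two conjugates of a split operator with lines as eigenspaces give every non-scalar. -/
theorem exists_sq [Fintype K] (hF : 4 ≤ Fintype.card K) {T g : V ≃ₗ[K] V} {α : List K}
    (hT : Spl (T : V →ₗ[K] V) α) (hα : ∀ a ∈ α, a ≠ 0) (hg : NS (K := K) g) (hd : dt g = α.prod * α.prod) :
    ∃ P P' : V ≃ₗ[K] V, g = (P * T * P⁻¹) * (P' * T * P'⁻¹) := by
  classical
  let bV := finBasis K V
  let G := LinearMap.toMatrix bV bV (g : V →ₗ[K] V)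
  let α' : Fin (finrank K V) → K := fun i => α[(i : ℕ)]'(by rw [hT.1]; exact i.2)
  have hofn : List.ofFn α' = α := List.ext_getElem (by simp [hT.1]) fun i h1 h2 => by simp [α']
  have hgns : NSm G := fun κ e => by
    obtain ⟨x, hx⟩ := hg κ
    apply hx
    have : (g : V →ₗ[K] V) = κ • LinearMap.id := (LinearMap.toMatrix bV bV).injective (by
      rw [map_smul, LinearMap.toMatrix_id]; exact e)
    exact LinearMap.congr_fun this x
  have hdG : G.det = (∏ i, α' i) * ∏ i, α' i := by
    rw [← List.prod_ofFn, hofn, ← hd, dt, LinearEquiv.coe_det]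
    exact LinearMap.det_toMatrix bV _
  obtain ⟨P, Pi, A, B, σ, hP, hAB, hA, hB⟩ := exists_two_spl hF G hgns α'
    (fun i => hα _ (List.getElem_mem _)) hdG
  have hperm : (List.ofFn (α' ∘ σ)).Perm α := hofn ▸ σ.ofFn_comp_perm α'
  let Ψ : V ≃ₗ[K] (Fin (finrank K V) → K) :=
    bV.equivFun.trans (Matrix.toLin'OfInv (mul_eq_one_comm.1 hP) hP)
  have hΨ : ∀ x, Ψ (g x) = Matrix.toLin' A (Matrix.toLin' B (Ψ x)) := fun x => by
    show Matrix.toLin' P (bV.equivFun (g x)) = Matrix.toLin' A (Matrix.toLin' B (Matrix.toLin' P (bV.equivFun x)))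
    have e1 : bV.equivFun (g x) = Matrix.toLin' G (bV.equivFun x) := by
      rw [Matrix.toLin'_apply]
      exact (LinearMap.toMatrix_mulVec_repr bV bV (g : V →ₗ[K] V) x).symm
    rw [e1, ← Matrix.toLin'_mul_apply, ← Matrix.toLin'_mul_apply, ← Matrix.toLin'_mul_apply]
    congr 2
    calc P * G = P * G * (Pi * P) := by rw [mul_eq_one_comm.1 hP, Matrix.mul_one]
      _ = A * B * P := by rw [← Matrix.mul_assoc (P * G), hAB]
  obtain ⟨R, hR⟩ := hT.similar (hA.perm hperm)
  obtain ⟨R', hR'⟩ := hT.similar (hB.perm hperm)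
  refine ⟨R.trans Ψ.symm, R'.trans Ψ.symm, LinearEquiv.ext fun x => Ψ.injective ?_⟩
  have key : ∀ (S : V ≃ₗ[K] _) (C : Matrix (Fin (finrank K V)) (Fin (finrank K V)) K),
      (∀ y, Matrix.toLin' C (S y) = S (T y)) → ∀ y,
      Ψ (((S.trans Ψ.symm) * T * (S.trans Ψ.symm)⁻¹) y) = Matrix.toLin' C (Ψ y) := by
    intro S C hS y
    obtain ⟨z, rfl⟩ := (S.trans Ψ.symm).surjective y
    rw [mul_apply', mul_apply', inv_apply']
    show Ψ (Ψ.symm (S (T z))) = Matrix.toLin' C (Ψ (Ψ.symm (S z)))
    rw [LinearEquiv.apply_symm_apply, LinearEquiv.apply_symm_apply, hS]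
  rw [hΨ, mul_apply', key R A hR, key R' B hR']

end

end Cfsg.Agent.Classical.CovPSL
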