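import Cfsg.Agent.Lib.Classical.CovPSL.Quad

set_option autoImplicit false

/-! Dimension four without splitting: a product of a split element and its inverse. -/

namespace Cfsg.Agent.Classical.CovPSL

open Module Polynomial

universe u v

variable {K : Type u} [Field K] {V : Type v} [AddCommGroup V] [Module K V]

attribute [local instance] Classical.propDecidable

theorem Spl.inv {T : V ≃ₗ[K] V} {l : List K} (h : Spl T.toLinearMap l) (hl : ∀ a ∈ l, a ≠ 0) :
    Spl (T⁻¹ : V ≃ₗ[K] V).toLinearMap (l.map fun a => a⁻¹) := by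
  refine ⟨by rw [List.length_map]; exact h.1, ?_, fun c x y hx hfx hfy => ?_⟩
  · have key : ∀ l : List K, (∀ a ∈ l, a ≠ 0) → ∀ x, aeval (T⁻¹ : V ≃ₗ[K] V).toLinearMap (pol (l.map fun a => a⁻¹))
        ((T.toLinearMap ^ l.length) x) = (l.map fun a => -a⁻¹).prod • aeval T.toLinearMap (pol l) x := by
      intro l
      induction l with
      | nil => intro _ x; simp [pol]
      | cons a l ih =>
        intro hl x
        have ha := hl a (List.mem_cons_self ..)
        have e := ih (fun b hb => hl b (List.mem_cons_of_mem _ hb)) (T x)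
        rw [List.map_cons, List.map_cons, List.prod_cons, List.length_cons, pow_succ, Module.End.mul_apply, pol_cons,
          pol_cons, map_mul, map_mul, Module.End.mul_apply, Module.End.mul_apply, LinearEquiv.coe_coe, e]
        rw [map_smul, show aeval T.toLinearMap (pol l) (T x) = T (aeval T.toLinearMap (pol l) x) from
          (apply_aeval T.toLinearMap _ x).symm, mul_comm (-a⁻¹), mul_smul]
        congr 1
        simp only [map_sub, aeval_X, aeval_C, LinearMap.sub_apply, Module.algebraMap_end_apply, LinearEquiv.coe_coe,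
          inv_apply']
        rw [smul_sub, smul_smul, neg_mul, inv_mul_cancel₀ ha, neg_one_smul, neg_smul]
        abel
    refine LinearMap.ext fun x => ?_
    have hsurj : Function.Surjective (T.toLinearMap ^ l.length) := by
      rw [Module.End.coe_pow]; exact T.surjective.iterate _
    obtain ⟨y, rfl⟩ := hsurj x
    rw [key l hl, h.2.1]
    simp
  · have conv1 : ∀ z, z ≠ 0 → T⁻¹ z = c • z → c ≠ 0 ∧ T z = c⁻¹ • z := fun z hz e => by
      have hc : c ≠ 0 := fun h0 => hz (by rw [h0, zero_smul] at e; exact (LinearEquiv.map_eq_zero_iff _).1 e)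
      have e' := congrArg T e
      rw [apply_inv, map_smul] at e'
      exact ⟨hc, ((inv_smul_eq_iff₀ hc).2 e').symm⟩
    by_cases hy : y = 0
    · rw [hy]; exact Submodule.zero_mem _
    exact h.2.2 _ x y hx (conv1 x hx hfx).2 (conv1 y hy hfy).2

variable [FiniteDimensional K V]

/-- A product of two conjugates, similar to its inverse. -/
theorem prdScalar_of_inverse (h4 : finrank K V = 4) {A T R : V ≃ₗ[K] V} (hT : Prd A 2 T)
    (hc : ∀ M : V ≃ₗ[K] V, Prd A 2 (M * T * M⁻¹)) (hR : T⁻¹ = R * T * R⁻¹) : PrdScalar A := by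
  refine ⟨1, ?_⟩
  have h := hT.mul (hc R)
  rw [← hR, mul_inv_cancel] at h
  rw [h4, show (LinearEquiv.smulOfUnit (1 : Kˣ) : V ≃ₗ[K] V) = 1 from LinearEquiv.ext fun x => by
    simp [smulOfUnit_apply', one_apply']]
  exact h

theorem prdScalar_of_spl (h4 : finrank K V = 4) {A T : V ≃ₗ[K] V} {α : List K} (hT : Prd A 2 T)
    (hc : ∀ M : V ≃ₗ[K] V, Prd A 2 (M * T * M⁻¹)) (hs : Spl T.toLinearMap α) (hα : ∀ a ∈ α, a ≠ 0)
    (hperm : (α.map fun a => a⁻¹).Perm α) : PrdScalar A := by
  obtain ⟨R, hR⟩ := hs.similar ((hs.inv hα).perm hperm)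
  exact prdScalar_of_inverse h4 hT hc (conj_of_intertwine hR)

theorem prd_two_of_full {A : V ≃ₗ[K] V} (hA : Full A) (M₁ M₂ : V ≃ₗ[K] V) :
    ∀ M : V ≃ₗ[K] V, Prd A 2 (M * ((M₁ * A * M₁⁻¹) * (M₂ * A * M₂⁻¹)) * M⁻¹) := fun M => by
  refine ⟨[(M * M₁) * A * (M * M₁)⁻¹, (M * M₂) * A * (M * M₂)⁻¹], rfl, ?_, ?_⟩
  · simp only [List.mem_cons, List.not_mem_nil, or_false]
    rintro X (rfl | rfl) <;> exact mem_Cl_of_full hA _
  · simp only [List.prod_cons, List.prod_nil]
    group

theorem finrank_ker_linear {A : V ≃ₗ[K] V} (hA : G1 A.toLinearMap) {q : K[X]} (hq : Irreducible q)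
    (h1 : q.natDegree = 1) : finrank K (LinearMap.ker (aeval (A : Module.End K V) q)) ≤ 1 := by
  obtain ⟨a, b, ha, rfl⟩ : ∃ a b, a ≠ 0 ∧ q = C a * X + C b :=
    ⟨q.coeff 1, q.coeff 0, by rw [← h1]; exact leadingCoeff_ne_zero.2 hq.ne_zero,
      eq_X_add_C_of_natDegree_le_one h1.le⟩
  by_cases h0 : LinearMap.ker (aeval (A : Module.End K V) (C a * X + C b)) = ⊥
  · rw [h0, finrank_bot]; omega
  obtain ⟨x, hx, hx0⟩ := Submodule.exists_mem_ne_zero_of_ne_bot h0
  have he : ∀ y ∈ LinearMap.ker (aeval (A : Module.End K V) (C a * X + C b)), A y = (-b / a) • y := fun y hy => by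
    simp only [LinearMap.mem_ker, map_add, map_mul, aeval_C, aeval_X, LinearMap.add_apply, Module.End.mul_apply,
      Module.algebraMap_end_apply, LinearEquiv.coe_coe] at hy
    rw [div_eq_inv_mul, mul_smul, neg_smul, ← eq_neg_of_add_eq_zero_left hy, inv_smul_smul₀ ha]
  exact (Submodule.finrank_mono (t := K ∙ x) fun y hy => hA _ x y hx0 (he x hx) (he y hy)).trans
    (finrank_span_singleton hx0).le

/-- Dimension four, no splitting, lines as eigenspaces. -/
theorem prdScalar_four_G1 [Fintype K] (hF : 4 ≤ Fintype.card K) (h4 : finrank K V = 4) {A : V ≃ₗ[K] V}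
    (hdA : dt A = 1) (hA : G1 A.toLinearMap) (hs : ¬ (A : V →ₗ[K] V).charpoly.Splits) : PrdScalar A := by
  classical
  have quad : ∀ q : K[X], Irreducible q → q.natDegree = 2 →
      (aeval (A : Module.End K V) q = 0 ∨
        LinearMap.ker (aeval (A : Module.End K V) q) = LinearMap.range (aeval (A : Module.End K V) q)) →
      PrdScalar A := fun q hq hd h => by
    obtain ⟨ζ, hζ⟩ := prd_four_of_quad (k := 1) h4 hq hd h
    exact ⟨ζ, by rw [h4]; exact hζ⟩
  by_cases hfull : ∃ q : K[X], Irreducible q ∧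
      ¬ LinearMap.ker (aeval (A : Module.End K V) q) ≤ LinearMap.range (aeval (A : Module.End K V) q)
  · obtain ⟨q₀, hq₀, hq₀'⟩ := hfull
    have hAf := full_of_not_le hq₀ hq₀'
    by_cases hk : ∀ q : K[X], Irreducible q →
        finrank K (LinearMap.ker (aeval (A : Module.End K V) q)) < 2 * q.natDegree
    · obtain ⟨w, hw⟩ := exists_cycVec A hk
      obtain ⟨a, ha0, ha1, ha2⟩ := exists_not_pm hF
      obtain ⟨ρ, hρ⟩ := exists_block_pair (m := 3) h4 hw hw
      let ua : Kˣ := Units.mk0 a ha0
      let t : Fin 3 → Kˣ := ![ua⁻¹, 1, 1]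
      have hne1 : a⁻¹ ≠ a := fun e => by
        have : (a - 1) * (a + 1) = 0 := by linear_combination -a * e + (inv_mul_cancel₀ ha0)
        rcases mul_eq_zero.1 this with h | h
        · exact ha1 (sub_eq_zero.1 h)
        · exact ha2 (eq_neg_of_add_eq_zero_left h)
      obtain ⟨M₁, M₂, -, -, hT⟩ := hρ t a (by simp [Fin.prod_univ_three, t, ua, hdA, ha0]) fun j => by
        fin_cases j <;> simp [t, ua, hne1, Ne.symm ha1, hne1.symm, ha1]
      have hP := prd_two_of_full hAf M₁ M₂
      refine prdScalar_of_spl h4 (by simpa using hP 1) hP hT ?_ ?_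
      · simp [List.ofFn_succ, t, ua, ha0]
      · simp [List.ofFn_succ, t, ua, List.Perm.swap]
    push Not at hk
    obtain ⟨q, hq, hk⟩ := hk
    have h1 := hq.natDegree_pos
    have hle := Submodule.finrank_le (LinearMap.ker (aeval (A : Module.End K V) q))
    have h2 : q.natDegree = 2 := by
      by_contra h
      have := finrank_ker_linear hA hq (by omega)
      omega
    refine quad q hq h2 (Or.inl (LinearMap.ker_eq_top.1 (Submodule.eq_top_of_finrank_eq ?_)))
    omega
  push Not at hfull
  obtain ⟨g, hgi, hgd, hg2⟩ : ∃ g, Irreducible g ∧ g ∣ (A : V →ₗ[K] V).charpoly ∧ 2 ≤ g.natDegree := by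
    by_contra hno
    push Not at hno
    refine hs (splits_iff_splits.2 (Or.inr fun {g} hgi hgd => ?_))
    have h1 := hno g hgi hgd
    have h2 := hgi.natDegree_pos
    exact degree_eq_iff_natDegree_eq_of_pos one_pos |>.2 (by omega)
  have hm : (normalize g).Monic := monic_normalize hgi.ne_zero
  have hi : Irreducible (normalize g) := (normalize_associated g).irreducible_iff.2 hgi
  obtain ⟨U, hU, hUc⟩ := InvCharpoly.exists_cyclic (A : V →ₗ[K] V) hm hi ((normalize_associated g).dvd.trans hgd)
  have hdeg : (normalize g).natDegree = g.natDegree := natDegree_eq_of_degree_eq degree_normalize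
  have hUd : finrank K U = g.natDegree := by
    rw [← LinearMap.charpoly_natDegree ((A : V →ₗ[K] V).restrict hU), hUc, hdeg]
  have hres : ∀ (p : K[X]) (x : U), aeval (A : Module.End K V) p (x : V) =
      (aeval ((A : Module.End K V).restrict hU) p x : V) := by
    intro p
    induction p using Polynomial.induction_on with
    | C a => intro x; simp
    | add p r hp hr => intro x; simp [hp x, hr x]
    | monomial j a ih =>
      intro x
      simp only [pow_succ, ← mul_assoc, map_mul _ (C a * X ^ j) X, aeval_X, Module.End.mul_apply]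
      exact ih ((A : Module.End K V).restrict hU x)
  have hker : U ≤ LinearMap.ker (aeval (A : Module.End K V) (normalize g)) := fun x hx => by
    rw [LinearMap.mem_ker, hres (normalize g) ⟨x, hx⟩, ← hUc, LinearMap.aeval_self_charpoly]
    rfl
  have h1 := LinearMap.finrank_range_add_finrank_ker (aeval (A : Module.End K V) (normalize g))
  have h2 := Submodule.finrank_mono (hfull _ hi)
  have h3 := Submodule.finrank_mono hker
  exact quad _ hi (by omega) (Or.inr (Submodule.eq_of_le_of_finrank_le (hfull _ hi) (by omega)))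

/-- Dimension four, an eigenplane and no splitting. -/
theorem prdScalar_four_plane (h4 : finrank K V = 4) {A : V ≃ₗ[K] V} (hdA : dt A = 1)
    (hs : ¬ (A : V →ₗ[K] V).charpoly.Splits) {c : Kˣ} {u₁ u₂ : V} (hu : LinearIndependent K ![u₁, u₂])
    (hu₁ : A u₁ = (c : K) • u₁) (hu₂ : A u₂ = (c : K) • u₂) : PrdScalar A := by
  classical
  obtain ⟨U, hU, h2, hno, -⟩ := exists_irreducible_sub hs
  set P := Submodule.span K (Set.range ![u₁, u₂])
  have hPd : finrank K P = 2 := by simpa using finrank_span_eq_card hu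
  have hP : ∀ x ∈ P, A x = (c : K) • x := fun x hx => by
    induction hx using Submodule.span_induction with
    | mem y hy => obtain ⟨i, rfl⟩ := hy; fin_cases i <;> simp [hu₁, hu₂]
    | zero => simp
    | add y z _ _ e1 e2 => simp [e1, e2]
    | smul t y _ e => simp [e, smul_comm t (c : K)]
  have hd : U ⊓ P = ⊥ := (Submodule.eq_bot_iff _).2 fun x hx => by_contra fun h0 => hno c x hx.1 h0 (hP x hx.2)
  have hsum := Submodule.finrank_sup_add_finrank_inf_eq U P
  rw [hd, finrank_bot, add_zero, hPd] at hsum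
  have hle := Submodule.finrank_le (U ⊔ P)
  have hU2 : finrank K U = 2 := by omega
  have hC : IsCompl U P := IsCompl.of_eq hd (Submodule.eq_top_of_finrank_eq (by omega))
  let ι : U ≃ₗ[K] P := LinearEquiv.ofFinrankEq _ _ (by omega)
  let Φ : (U × U) ≃ₗ[K] V :=
    ((LinearEquiv.refl K U).prodCongr ι).trans (Submodule.prodEquivOfIsCompl U P hC)
  have hΦ : ∀ p, Φ p = (p.1 : V) + (ι p.2 : V) := fun p => by simp [Φ]
  let a₀ : U →ₗ[K] U := A.toLinearMap.restrict hU
  let a : U ≃ₗ[K] U := LinearEquiv.ofInjectiveEndo a₀ fun x y h => Subtype.ext (A.injective (congrArg Subtype.val h))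
  let c' : U ≃ₗ[K] U := LinearEquiv.smulOfUnit c
  let A' := triE a 0 c'
  have hA : conjHom Φ A' = A := LinearEquiv.ext fun x => by
    obtain ⟨p, rfl⟩ := Φ.surjective x
    rw [conjHom_apply', hΦ, hΦ, map_add, hP _ (ι p.2).2]
    simp [A', triE_apply, c', smulOfUnit_apply', a, a₀]; rfl
  set γ := dt a with hγdef
  have hγc : γ * ((c : K) * c) = 1 := by
    rw [← hdA, ← hA, dt, det_conjHom, det_triE, Units.val_mul, hγdef, dt]
    congr 1
    exact ((dt_smulOfUnit (V := U) c).trans (by rw [hU2, pow_two])).symm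
  -- the quadratic relation of the restriction
  obtain ⟨β, hβ⟩ : ∃ β : K, ∀ x, a.toLinearMap (a.toLinearMap x) = -(β • a.toLinearMap x) - γ • x := by
    have hcp := LinearMap.aeval_self_charpoly a.toLinearMap
    have hd2 : a.toLinearMap.charpoly.natDegree = 2 := by rw [LinearMap.charpoly_natDegree, hU2]
    have hm2 : a.toLinearMap.charpoly.coeff 2 = 1 := by
      rw [← hd2]; exact (LinearMap.charpoly_monic _).coeff_natDegree
    have h0 : a.toLinearMap.charpoly.coeff 0 = γ := by
      rw [hγdef, dt, LinearEquiv.coe_det, LinearMap.det_eq_sign_charpoly_coeff, hU2]; ring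
    rw [aeval_eq_sum_range, hd2, Finset.sum_range_succ, Finset.sum_range_succ, Finset.sum_range_succ,
      Finset.sum_range_zero, zero_add, hm2, h0] at hcp
    refine ⟨a.toLinearMap.charpoly.coeff 1, fun x => ?_⟩
    have := LinearMap.congr_fun hcp x
    simp [pow_two] at this
    simp only [LinearEquiv.coe_coe]
    linear_combination (norm := module) this
  have hQ : Quad a.toLinearMap β γ := ⟨fun t e => by
    haveI : Nontrivial U := Module.nontrivial_of_finrank_pos (R := K) (by omega)
    obtain ⟨x, hx⟩ := exists_ne (0 : U)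
    have e1 := hβ x
    by_cases h : a.toLinearMap x + (t + β) • x = 0
    · exact hno (-(t + β)) x x.2 (fun e => hx (Subtype.ext e))
        (congrArg Subtype.val (show a x = (-(t + β)) • x by linear_combination (norm := module) h))
    · refine hno t (a.toLinearMap x + (t + β) • x : U) (Submodule.coe_mem _) (fun e' => h (Subtype.ext e'))
        (congrArg Subtype.val (show a (a.toLinearMap x + (t + β) • x) = t • (a.toLinearMap x + (t + β) • x) from ?_))
      rw [map_add, map_smul]
      linear_combination (norm := skip) e1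
      simp only [LinearEquiv.coe_coe]
      rw [show γ = -(t * t + β * t) by linear_combination e]
      module, hβ⟩
  obtain ⟨r, hr, -⟩ := hQ.exists_conj
  have haa : ∀ x, a ((r * a * r⁻¹) x) = γ • x := fun x => by
    obtain ⟨y, rfl⟩ := r.surjective x
    rw [mul_apply', mul_apply', inv_apply']
    show a (r (a.toLinearMap y)) = _
    rw [hr, map_sub, map_neg, map_smul]
    have := hβ (r y)
    simp only [LinearEquiv.coe_coe] at this ⊢
    rw [this]; module
  have haa' : ∀ x, (r * a * r⁻¹) (a x) = γ • x := fun x => a.injective (by rw [haa, map_smul])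
  have hfull : Full A := fun δ => by
    haveI : Nontrivial U := Module.nontrivial_of_finrank_pos (R := K) (by omega)
    obtain ⟨u, hu'⟩ := exists_ne (0 : U)
    obtain ⟨φ, hφ⟩ := Module.Projective.exists_dual_ne_zero K hu'
    let φ' := ((φ u)⁻¹ * ((δ : K) - 1)) • φ
    have hφ' : 1 + φ' u = δ := by simp [φ', mul_right_comm _ _ (φ u), hφ]
    let C := pRefl u φ' (by rw [hφ']; exact δ.ne_zero)
    refine ⟨conjHom Φ (triE 1 0 C), ?_, ?_⟩
    · rw [← hA, ← map_mul, ← map_mul]
      exact congrArg _ (LinearEquiv.ext fun p => by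
        simp [A', mul_apply', triE_apply, one_apply', c', smulOfUnit_apply'])
    · rw [det_conjHom, det_triE, map_one, one_mul]
      exact Units.ext (by rw [det_pRefl, hφ'])
  let sw : (U × U) ≃ₗ[K] U × U := LinearEquiv.prodComm K U U
  let R := triE r 0 (1 : U ≃ₗ[K] U)
  let X := fun N : (U × U) ≃ₗ[K] U × U => conjHom Φ N * A * (conjHom Φ N)⁻¹
  refine ⟨1, [X 1, X sw, X (sw * R), X R], by rw [h4]; rfl, fun Y hY => ?_, ?_⟩
  · simp only [List.mem_cons, List.not_mem_nil, or_false] at hY
    rcases hY with h | h | h | h <;> rw [h] <;> exact mem_Cl_of_full hfull _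
  simp only [List.prod_cons, List.prod_nil, mul_one, X]
  rw [← hA]
  simp only [← map_inv, ← map_mul]
  have hone : (LinearEquiv.smulOfUnit (1 : Kˣ) : V ≃ₗ[K] V) = conjHom Φ 1 := LinearEquiv.ext fun x => by
    simp [smulOfUnit_apply', one_apply']
  rw [hone]
  refine congrArg _ (LinearEquiv.ext fun p => ?_)
  have hs : ∀ p, sw⁻¹ p = (p.2, p.1) := fun p => inv_apply_eq _ rfl
  have hR : ∀ p, R⁻¹ p = (r⁻¹ p.1, p.2) := fun p => inv_apply_eq _ (by simp [R, triE_apply, one_apply', apply_inv])
  simp only [mul_apply', one_apply', inv_one, mul_inv_rev, hs, hR, A', R, triE_apply, LinearMap.zero_apply, add_zero,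
    sw, LinearEquiv.prodComm_apply, Prod.swap_prod_mk, c', smulOfUnit_apply', map_smul]
  have k1 := fun x => haa x
  have k2 := fun x => haa' x
  simp only [mul_apply'] at k1 k2
  simp only [k1, k2, map_smul, smul_smul]
  have hone' : (c : K) * c * γ = 1 := by rw [mul_comm]; exact hγc
  refine Prod.ext ?_ ?_ <;> simp only [smul_zero, add_zero, map_smul, k1, smul_smul, ← mul_assoc] <;> rw [hone', one_smul]

end Cfsg.Agent.Classical.CovPSL
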