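import Cfsg.Agent.Lib.Classical.CovPSL.Block
import Cfsg.Agent.Lib.Classical.InvariantCharpoly

set_option autoImplicit false

/-! Gluing pairs along an invariant subspace without eigenvectors. -/

namespace Cfsg.Agent.Classical.CovPSL

open Module Polynomial

universe u v

variable {K : Type u} [Field K]

attribute [local instance] Classical.propDecidable

theorem neg_eq_self_of_card_four [Fintype K] (h4 : Fintype.card K = 4) (x : K) : -x = x := by
  have h1 : ((-1 : K)) ^ Fintype.card K = -1 := FiniteField.pow_card _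
  rw [h4] at h1
  have h2 : (1 : K) = -1 := by rw [← h1]; norm_num
  calc -x = -1 * x := (neg_one_mul x).symm
    _ = x := by rw [← h2, one_mul]

theorem exists_avoid_two [Fintype K] (hF : 4 ≤ Fintype.card K) (δ : K) :
    ∃ a : K, a ≠ 0 ∧ a ≠ δ * δ ∧ a * a ≠ δ * δ := by
  classical
  have hcard : ({0, δ * δ, δ, -δ} : Finset K).card < Fintype.card K := by
    rcases eq_or_lt_of_le hF with h | h
    · rw [neg_eq_self_of_card_four h.symm, Finset.pair_eq_singleton, ← h]
      exact lt_of_le_of_lt Finset.card_le_three (by norm_num)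
    · exact lt_of_le_of_lt Finset.card_le_four h
  obtain ⟨a, -, ha⟩ := Finset.exists_mem_notMem_of_card_lt_card (s := ({0, δ * δ, δ, -δ} : Finset K))
    (t := Finset.univ) (by rwa [Finset.card_univ])
  simp only [Finset.mem_insert, Finset.mem_singleton, not_or] at ha
  exact ⟨a, ha.1, ha.2.1, fun h => (mul_self_eq_mul_self_iff.1 h).elim ha.2.2.1 ha.2.2.2⟩

variable {U Q : Type v} [AddCommGroup U] [Module K U] [AddCommGroup Q] [Module K Q]

/-- Two by two triangular automorphisms. -/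
def triE (B : U ≃ₗ[K] U) (Z : Q →ₗ[K] U) (D : Q ≃ₗ[K] Q) : (U × Q) ≃ₗ[K] U × Q :=
  LinearEquiv.ofLinearMap (tri B.toLinearMap Z D.toLinearMap)
    (tri B.symm.toLinearMap (-(B.symm.toLinearMap.comp (Z.comp D.symm.toLinearMap))) D.symm.toLinearMap)
    (LinearMap.ext fun p => Prod.ext (by simp [tri_apply, map_add, map_neg]) (by simp [tri_apply]))
    (LinearMap.ext fun p => Prod.ext (by simp [tri_apply, map_add, map_neg]) (by simp [tri_apply]))

theorem triE_apply (B : U ≃ₗ[K] U) (Z : Q →ₗ[K] U) (D : Q ≃ₗ[K] Q) (p : U × Q) :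
    triE B Z D p = (B p.1 + Z p.2, D p.2) := rfl

theorem triE_mul (B B' : U ≃ₗ[K] U) (Z Z' : Q →ₗ[K] U) (D D' : Q ≃ₗ[K] Q) :
    triE B Z D * triE B' Z' D' = triE (B * B') (B.toLinearMap.comp Z' + Z.comp D'.toLinearMap) (D * D') :=
  LinearEquiv.ext fun p => Prod.ext (by simp [mul_apply', triE_apply, map_add, add_assoc]) rfl

theorem triE_one : triE (1 : U ≃ₗ[K] U) 0 (1 : Q ≃ₗ[K] Q) = 1 :=
  LinearEquiv.ext fun p => Prod.ext (by simp [triE_apply, one_apply']) rfl

theorem det_triE [FiniteDimensional K U] [FiniteDimensional K Q] (B : U ≃ₗ[K] U) (Z : Q →ₗ[K] U) (D : Q ≃ₗ[K] Q) :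
    LinearEquiv.det (triE B Z D) = LinearEquiv.det B * LinearEquiv.det D := by
  classical
  refine Units.ext ?_
  rw [Units.val_mul, LinearEquiv.coe_det, LinearEquiv.coe_det, LinearEquiv.coe_det]
  let bU := finBasis K U
  let bQ := finBasis K Q
  rw [← LinearMap.det_toMatrix (bU.prod bQ), ← LinearMap.det_toMatrix bU, ← LinearMap.det_toMatrix bQ]
  have e : LinearMap.toMatrix (bU.prod bQ) (bU.prod bQ) (triE B Z D).toLinearMap =
      Matrix.fromBlocks (LinearMap.toMatrix bU bU B.toLinearMap) (LinearMap.toMatrix bQ bU Z) 0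
        (LinearMap.toMatrix bQ bQ D.toLinearMap) := by
    ext i j
    rcases i with i | i <;> rcases j with j | j <;>
      simp [LinearMap.toMatrix_apply, triE_apply]
  rw [e, Matrix.det_fromBlocks_zero₂₁]

theorem root_mem {V : Type v} [AddCommGroup V] [Module K V] {f : Module.End K V} : ∀ {l : List K}, Ann f l →
    ∀ {c : K} {x : V}, x ≠ 0 → f x = c • x → c ∈ l := by
  intro l hl c x hx hfx
  have key : ∀ l : List K, aeval f (pol l) x = (l.map fun a => c - a).prod • x := by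
    intro l
    induction l with
    | nil => simp [pol]
    | cons a l ih =>
      rw [pol_cons, map_mul, Module.End.mul_apply, ih, map_smul, map_sub, aeval_X, aeval_C, LinearMap.sub_apply,
        Module.algebraMap_end_apply, hfx, ← sub_smul, smul_smul, List.map_cons, List.prod_cons, mul_comm]
  have h := key l
  rw [hl, LinearMap.zero_apply, eq_comm, smul_eq_zero, List.prod_eq_zero_iff] at h
  obtain ⟨a, ha, he⟩ := List.mem_map.1 (h.resolve_right hx)
  rwa [sub_eq_zero.1 he]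

theorem surjective_sub {V : Type v} [AddCommGroup V] [Module K V] [FiniteDimensional K V] {B : V ≃ₗ[K] V}
    (hB : ∀ c : K, ¬ Eig B c) (c : K) : Function.Surjective (B.toLinearMap - c • (LinearMap.id : V →ₗ[K] V)) := by
  refine LinearMap.surjective_of_injective ((injective_iff_map_eq_zero _).2 fun x hx => ?_)
  by_contra h0
  exact hB c ⟨x, h0, by simpa [sub_eq_zero] using hx⟩

theorem no_eig_conj {V : Type v} [AddCommGroup V] [Module K V] {B : V ≃ₗ[K] V} (hB : ∀ c : K, ¬ Eig B c)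
    (M : V ≃ₗ[K] V) (c : K) : ¬ Eig (M * B * M⁻¹) c := fun ⟨x, hx, h⟩ => hB c ⟨M⁻¹ x,
      fun e => hx (by rw [← apply_inv M x, e, map_zero]), M.injective (by
        rw [map_smul, apply_inv]; exact h)⟩

/-- Gluing two pairs. -/
theorem exists_glue [Fintype K] (hF : 4 ≤ Fintype.card K) [FiniteDimensional K U] [FiniteDimensional K Q]
    {B : U ≃ₗ[K] U} {D : Q ≃ₗ[K] Q} (Z : Q →ₗ[K] U) (hB : ∀ c : K, ¬ Eig B c) {M₁ M₂ : U ≃ₗ[K] U}
    {N₁ N₂ : Q ≃ₗ[K] Q} {lU lQ : List K}
    (hU : Spl (((M₁ * B * M₁⁻¹) * (M₂ * B * M₂⁻¹) : U ≃ₗ[K] U) : U →ₗ[K] U) lU)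
    (hQ : Spl (((N₁ * D * N₁⁻¹) * (N₂ * D * N₂⁻¹) : Q ≃ₗ[K] Q) : Q →ₗ[K] Q) lQ)
    (hlU : lU.toFinset.card ≤ 4) (hlU0 : ∀ a ∈ lU, a ≠ 0) :
    ∃ R₁ R₂ : (U × Q) ≃ₗ[K] U × Q, LinearEquiv.det R₁ = LinearEquiv.det M₁ * LinearEquiv.det N₁ ∧
      LinearEquiv.det R₂ = LinearEquiv.det M₂ * LinearEquiv.det N₂ ∧
      Spl (((R₁ * triE B Z D * R₁⁻¹) * (R₂ * triE B Z D * R₂⁻¹) : (U × Q) ≃ₗ[K] U × Q) :
        (U × Q) →ₗ[K] U × Q) (lU ++ lQ) := by
  classical
  have hK : RegUnipProduct.Big K := by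
    obtain ⟨f⟩ := Function.Embedding.nonempty_of_card_le (α := Fin 4) (β := K) (by simpa using hF)
    exact ⟨f, f.injective⟩
  set XU := M₁ * B * M₁⁻¹
  set YU := M₂ * B * M₂⁻¹
  set XQ := N₁ * D * N₁⁻¹
  set YQ := N₂ * D * N₂⁻¹
  let Z₁ : Q →ₗ[K] U := M₁.toLinearMap.comp (Z.comp (N₁⁻¹).toLinearMap)
  let Z₂ : Q →ₗ[K] U := M₂.toLinearMap.comp (Z.comp (N₂⁻¹).toLinearMap)
  have hdiag : ∀ (M : U ≃ₗ[K] U) (N : Q ≃ₗ[K] Q), triE M 0 N * triE B Z D * (triE M 0 N)⁻¹ =
      triE (M * B * M⁻¹) (M.toLinearMap.comp (Z.comp (N⁻¹).toLinearMap)) (N * D * N⁻¹) := fun M N => by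
    rw [mul_inv_eq_iff_eq_mul, triE_mul, triE_mul, inv_mul_cancel_right, inv_mul_cancel_right]
    congr 1
    ext x
    simp [inv_apply']
  -- data attached to a shared eigenvalue
  let TU := XU * YU
  let TQ := XQ * YQ
  let Z₀ : Q →ₗ[K] U := XU.toLinearMap.comp Z₂ + Z₁.comp YQ.toLinearMap
  let L : Finset K := lU.toFinset.filter fun c => Eig TU c ∧ Eig TQ c
  have hdata : ∀ c : L, ∃ (f : U →ₗ[K] K) (x : Q), f ≠ 0 ∧ x ≠ 0 ∧ (∀ p, f (TU p) = (c : K) * f p) ∧
      TQ x = (c : K) • x := fun c => by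
    obtain ⟨-, ⟨p, hp, hp'⟩, ⟨x, hx, hx'⟩⟩ := Finset.mem_filter.1 c.2
    have hne : LinearMap.range ((TU : U →ₗ[K] U) - (c : K) • LinearMap.id) ≠ ⊤ := fun e => hp (by
      have := (LinearMap.injective_iff_surjective.2 (LinearMap.range_eq_top.1 e))
      apply this
      simp [hp'])
    obtain ⟨f, hf0, hf⟩ := Submodule.exists_le_ker_of_lt_top _ (lt_top_iff_ne_top.2 hne)
    refine ⟨f, x, hf0, hx, fun q => ?_, hx'⟩
    have := hf (LinearMap.mem_range_self ((TU : U →ₗ[K] U) - (c : K) • LinearMap.id) q)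
    rw [LinearMap.mem_ker, LinearMap.sub_apply, map_sub, sub_eq_zero] at this
    simpa using this
  choose f x hf0 hx hf hxe using hdata
  let Lf : L → ((Q →ₗ[K] U) →ₗ[K] K) := fun c =>
    (c : K) • (f c).comp (LinearMap.applyₗ (x c)) -
      ((f c).comp XU.toLinearMap).comp (LinearMap.applyₗ (YQ (x c)))
  have hLf : ∀ c R, Lf c R = (c : K) * f c (R (x c)) - f c (XU (R (YQ (x c)))) := fun c R => rfl
  have hLf0 : ∀ c, Lf c ≠ 0 := fun c h0 => by
    by_cases hy : YQ (x c) ∈ K ∙ x c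
    · obtain ⟨κ, hκ⟩ := Submodule.mem_span_singleton.1 hy
      obtain ⟨χ, hχ⟩ := Module.Projective.exists_dual_ne_zero K (hx c)
      have hκ0 : κ ≠ 0 := fun e => hx c (by
        rw [e, zero_smul, eq_comm] at hκ; exact (LinearEquiv.map_eq_zero_iff YQ).1 hκ)
      have key : ∀ r, (f c) (XU r - ((c : K) / κ) • r) = 0 := fun r => by
        have h1 := LinearMap.congr_fun h0 (χ.smulRight r)
        rw [hLf, LinearMap.zero_apply, LinearMap.smulRight_apply, LinearMap.smulRight_apply, ← hκ, map_smul χ,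
          smul_eq_mul, map_smul, map_smul, map_smul, smul_eq_mul, smul_eq_mul] at h1
        have h2 : (c : K) * f c r = κ * f c (XU r) := mul_right_cancel₀ hχ (by linear_combination h1)
        rw [map_sub, map_smul, smul_eq_mul]
        field_simp
        linear_combination -h2
      refine hf0 c (LinearMap.ext fun r => ?_)
      obtain ⟨s, rfl⟩ := surjective_sub (no_eig_conj hB M₁) ((c : K) / κ) r
      show (f c) (XU s - ((c : K) / κ) • s) = 0
      exact key s
    · obtain ⟨χ, hχy, hχ⟩ := Submodule.exists_dual_map_eq_bot_of_notMem hy inferInstance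
      have hχx : χ (x c) = 0 := by
        have : χ (x c) ∈ (K ∙ x c).map χ := Submodule.mem_map_of_mem (Submodule.mem_span_singleton_self _)
        rwa [hχ, Submodule.mem_bot] at this
      refine hf0 c (LinearMap.ext fun r => ?_)
      obtain ⟨s, rfl⟩ := XU.surjective r
      have h1 := LinearMap.congr_fun h0 (χ.smulRight s)
      rw [hLf, LinearMap.zero_apply, LinearMap.smulRight_apply, LinearMap.smulRight_apply, hχx, zero_smul, map_zero,
        mul_zero, map_smul, map_smul, smul_eq_mul, zero_sub, neg_eq_zero, mul_eq_zero] at h1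
      exact h1.resolve_left hχy
  -- a direction transverse to all of them, then a multiple of it
  obtain ⟨R₀, hR₀⟩ := RegUnipProduct.exists_avoid hK (Finset.univ.toList.map fun c : L => LinearMap.ker (Lf c))
    (by
      simp only [List.length_map, Finset.length_toList, Finset.card_univ, Fintype.card_coe]
      exact (Finset.card_filter_le _ _).trans hlU)
    (fun p hp => by
      obtain ⟨c, -, rfl⟩ := List.mem_map.1 hp
      exact fun e => hLf0 c (LinearMap.ker_eq_top.1 e))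
  have hR₀' : ∀ c, Lf c R₀ ≠ 0 := fun c => by
    simpa using hR₀ _ (List.mem_map.2 ⟨c, Finset.mem_toList.2 (Finset.mem_univ c), rfl⟩)
  obtain ⟨s, hs⟩ : ∃ s : K, ∀ c, f c (Z₀ (x c)) + s * Lf c R₀ ≠ 0 := by
    obtain ⟨s, -, hs⟩ := Finset.exists_mem_notMem_of_card_lt_card
      (s := Finset.univ.image fun c : L => -f c (Z₀ (x c)) / Lf c R₀) (t := (Finset.univ : Finset K)) (by
        refine lt_of_le_of_lt (Finset.card_image_le.trans ?_) (Finset.card_lt_card
          (Finset.ssubset_univ_iff.2 (show lU.toFinset ≠ Finset.univ from fun e => hlU0 0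
            (List.mem_toFinset.1 (e ▸ Finset.mem_univ _)) rfl)))
        rw [Finset.card_univ, Fintype.card_coe]
        exact Finset.card_filter_le _ _)
    refine ⟨s, fun c h => hs (Finset.mem_image.2 ⟨c, Finset.mem_univ _, ?_⟩)⟩
    rw [div_eq_iff (hR₀' c)]
    linear_combination -h
  let R := s • R₀
  let τ : (U × Q) ≃ₗ[K] U × Q := triE 1 R 1
  have hτ : ∀ (B' : U ≃ₗ[K] U) Z' (D' : Q ≃ₗ[K] Q), τ * triE B' Z' D' * τ⁻¹ =
      triE B' (Z' + R.comp D'.toLinearMap - B'.toLinearMap.comp R) D' := fun B' Z' D' => by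
    rw [mul_inv_eq_iff_eq_mul, triE_mul, triE_mul, one_mul, one_mul, mul_one, mul_one]
    congr 1
    ext y
    simp [one_apply']
  refine ⟨τ * triE M₁ 0 N₁, triE M₂ 0 N₂, ?_, det_triE _ _ _, ?_⟩
  · rw [map_mul, det_triE, det_triE, map_one, map_one, one_mul, one_mul]
  have e : (τ * triE M₁ 0 N₁) * triE B Z D * (τ * triE M₁ 0 N₁)⁻¹ = τ * triE XU Z₁ XQ * τ⁻¹ := by
    rw [← hdiag M₁ N₁]; group
  rw [e, hτ, hdiag M₂ N₂, triE_mul]
  show Spl (CovPSL.tri TU.toLinearMap _ TQ.toLinearMap) (lU ++ lQ)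
  refine hU.tri hQ ?_
  intro c p₀ y hp₀ hBp hy hDy p hp
  have hcL : c ∈ L := Finset.mem_filter.2 ⟨List.mem_toFinset.2 (root_mem hU.2.1 hp₀ hBp),
    ⟨p₀, hp₀, hBp⟩, ⟨y, hy, hDy⟩⟩
  let cc : L := ⟨c, hcL⟩
  obtain ⟨k, rfl⟩ := Submodule.mem_span_singleton.1 (hQ.2.2 c (x cc) y (hx cc) (hxe cc) hDy)
  have hk : k ≠ 0 := fun e => hy (by rw [e, zero_smul])
  have h1 := congrArg (f cc) hp
  rw [map_add, show f cc (TU.toLinearMap p) = c * f cc p from hf cc p, map_smul (f cc) c p, smul_eq_mul] at h1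
  have h2 : f cc ((XU.toLinearMap.comp Z₂ + (Z₁ + R.comp XQ.toLinearMap - XU.toLinearMap.comp R).comp
      YQ.toLinearMap) (k • x cc)) = 0 := by
    linear_combination h1
  refine hs cc ((mul_eq_zero.1 (?_ : k * _ = 0)).resolve_left hk)
  rw [← h2]
  have hxq : XQ (YQ (x cc)) = c • x cc := hxe cc
  simp only [hLf, Z₀, R, LinearMap.add_apply, LinearMap.sub_apply, LinearMap.comp_apply, LinearEquiv.coe_coe,
    LinearMap.smul_apply, map_add, map_sub, map_smul, smul_eq_mul, hxq]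
  rw [show ((cc : L) : K) = c from rfl]
  ring

end Cfsg.Agent.Classical.CovPSL
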