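import Cfsg.Agent.Lib.Classical.CovPSL.Main

set_option autoImplicit false

/-! Scalars as products of conjugates: rank one, eigenvalue shortcut, small dimensions. -/

namespace Cfsg.Agent.Classical.CovPSL

open Module Polynomial

universe u v

variable {K : Type u} [Field K] {V : Type v} [AddCommGroup V] [Module K V] [FiniteDimensional K V]

attribute [local instance] Classical.propDecidable

/-- Some scalar is a product of conjugates, as many as the dimension. -/
def PrdScalar (A : V ≃ₗ[K] V) : Prop :=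
  ∃ ζ : Kˣ, Prd A (finrank K V) (LinearEquiv.smulOfUnit ζ)

theorem dt_smulOfUnit (ζ : Kˣ) : dt (LinearEquiv.smulOfUnit ζ : V ≃ₗ[K] V) = (ζ : K) ^ finrank K V := by
  rw [dt, LinearEquiv.coe_det, show (LinearEquiv.smulOfUnit ζ : V ≃ₗ[K] V).toLinearMap = (ζ : K) • LinearMap.id from
    LinearMap.ext fun x => rfl, LinearMap.det_smul, LinearMap.det_id, mul_one]

theorem exists_weighted [Fintype K] (hF : 4 ≤ Fintype.card K) {W : Type v} [AddCommGroup W] [Module K W]
    (S : Submodule K W) {e : W} (he : e ∈ S) (he0 : e ≠ 0) {w : K} (hw : w ≠ 0) : ∀ k : ℕ, ∀ η ∈ S,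
    ∃ f : Fin (k + 2) → W, (∀ i, f i ∈ S ∧ f i ≠ 0) ∧ ∑ i : Fin (k + 2), w ^ (i : ℕ) • f i = η := by
  intro k
  induction k with
  | zero =>
    intro η hη
    obtain ⟨t, ht0, ht1, -⟩ := exists_not_pm hF
    obtain ⟨f₀, hf, hf0, hne⟩ : ∃ f₀, f₀ ∈ S ∧ f₀ ≠ 0 ∧ η - f₀ ≠ 0 := by
      by_cases h : η = e
      · refine ⟨t • e, S.smul_mem t he, smul_ne_zero ht0 he0, fun h' => ?_⟩
        rw [h, sub_eq_zero] at h'
        exact ht1 (smul_left_injective K he0 (by simpa using h'.symm))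
      · exact ⟨e, he, he0, sub_ne_zero.2 h⟩
    refine ⟨![f₀, w⁻¹ • (η - f₀)], fun i => ?_, ?_⟩
    · fin_cases i
      · exact ⟨hf, hf0⟩
      · exact ⟨S.smul_mem _ (sub_mem hη hf), smul_ne_zero (inv_ne_zero hw) hne⟩
    · simp [Fin.sum_univ_two, smul_smul, hw]
  | succ k ih =>
    intro η hη
    obtain ⟨f, hf, hsum⟩ := ih (w⁻¹ • (η - e)) (S.smul_mem _ (sub_mem hη he))
    refine ⟨Fin.cons e f, fun i => ?_, ?_⟩
    · cases i using Fin.cases with
      | zero => exact ⟨he, he0⟩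
      | succ j => simpa using hf j
    · rw [Fin.sum_univ_succ]
      simp only [Fin.cons_zero, Fin.cons_succ, Fin.val_zero, pow_zero, one_smul, Fin.val_succ, pow_succ', mul_smul,
        ← Finset.smul_sum, hsum]
      rw [smul_inv_smul₀ hw, add_sub_cancel]

theorem prod_rank_one (c : V) {θ : K} : ∀ (k : ℕ) (X : Fin k → V ≃ₗ[K] V) (μ : K) (ε : Fin k → V →ₗ[K] K),
    (∀ i x, X i x = μ • (x + ε i x • c)) → (∀ i, ε i c = θ) → ∀ x,
    (List.ofFn X).prod x = μ ^ k • (x + (∑ i : Fin k, (1 + θ) ^ (i : ℕ) * ε i x) • c) := by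
  intro k
  induction k with
  | zero => intro X μ ε _ _ x; simp [one_apply']
  | succ k ih =>
    intro X μ ε hX hε x
    have h := ih (fun i => X i.succ) μ (fun i => ε i.succ) (fun i => hX _) (fun i => hε _) x
    rw [List.ofFn_succ, List.prod_cons, mul_apply', h, map_smul, hX, map_add, map_smul, hε, smul_smul]
    have e : ∑ i : Fin (k + 1), (1 + θ) ^ (i : ℕ) * ε i x =
        ε 0 x + (1 + θ) * ∑ i : Fin k, (1 + θ) ^ (i : ℕ) * ε i.succ x := by
      rw [Fin.sum_univ_succ, Finset.mul_sum]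
      simp [pow_succ', mul_assoc]
    rw [e, pow_succ, smul_eq_mul]
    module

/-- Rank one data. -/
theorem prd_rank_one [Fintype K] (hF : 4 ≤ Fintype.card K) {n : ℕ} (hn : finrank K V = n) (h3 : 3 ≤ n)
    {A g : V ≃ₗ[K] V} {μ : K} {a c : V} {φ ψ : V →ₗ[K] K} (hA : ∀ x, A x = μ • x + φ x • a) (ha : a ≠ 0)
    (hφ : φ ≠ 0) (hg : ∀ x, g x = μ ^ n • x + ψ x • c) (hc : c ≠ 0) (hd : dt g = dt A ^ n) : Prd A n g := by
  have hμ : μ ≠ 0 := fun e => by
    have h1 := Submodule.finrank_mono (show LinearMap.range A.toLinearMap ≤ K ∙ a from by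
      rintro _ ⟨x, rfl⟩
      refine Submodule.mem_span_singleton.2 ⟨φ x, ?_⟩
      rw [LinearEquiv.coe_coe, hA, e, zero_smul, zero_add])
    rw [show LinearMap.range A.toLinearMap = ⊤ from LinearMap.range_eq_top.2 A.surjective, finrank_top] at h1
    have h2 : finrank K (K ∙ a) ≤ 1 := (finrank_span_le_card _).trans (by simp)
    omega
  set θ := μ⁻¹ * φ a with hθ
  have hμn : μ ^ n ≠ 0 := pow_ne_zero _ hμ
  have hdA := R1.det_eq hμ hA
  have hdg := R1.det_eq hμn hg
  rw [hn] at hdA hdg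
  have hw : 1 + θ ≠ 0 := fun e => Units.ne_zero (LinearEquiv.det A) (hdA.trans (by rw [← hθ, e, mul_zero]))
  have hψc : (μ ^ n)⁻¹ * ψ c = (1 + θ) ^ n - 1 := by
    have h := hd
    rw [hdA, hdg, ← hθ, mul_pow] at h
    linear_combination mul_left_cancel₀ (pow_ne_zero n hμn) h
  obtain ⟨ρ, hρ⟩ : ∃ ρ : V →ₗ[K] K, ρ c = 1 := by
    obtain ⟨χ, hχ⟩ := Module.Projective.exists_dual_ne_zero K hc
    exact ⟨(χ c)⁻¹ • χ, by simp [hχ]⟩
  obtain ⟨z, hz⟩ : ∃ z, z ∉ K ∙ c := by
    by_contra hno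
    push Not at hno
    have := Submodule.finrank_mono (show (⊤ : Submodule K V) ≤ K ∙ c from fun x _ => hno x)
    rw [finrank_top, finrank_span_singleton hc] at this
    omega
  obtain ⟨e, he, hec⟩ := Submodule.exists_dual_map_eq_bot_of_notMem hz inferInstance
  let S : Submodule K (V →ₗ[K] K) := LinearMap.ker (LinearMap.applyₗ c)
  have heS : e ∈ S := by
    have : e c ∈ (K ∙ c).map e := Submodule.mem_map_of_mem (Submodule.mem_span_singleton_self _)
    rw [hec, Submodule.mem_bot] at this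
    exact this
  obtain ⟨k, rfl⟩ : ∃ k, n = k + 2 := ⟨n - 2, by omega⟩
  obtain ⟨η, hη, hsum⟩ := exists_weighted hF S heS (fun h => he (by rw [h]; rfl)) hw k
    ((μ ^ (k + 2))⁻¹ • ψ - ((μ ^ (k + 2))⁻¹ * ψ c) • ρ) (by simp [S, hρ])
  let ε : Fin (k + 2) → V →ₗ[K] K := fun i => θ • ρ + η i
  have hεc : ∀ i, ε i c = θ := fun i => by
    have : η i c = 0 := (hη i).1
    simp [ε, hρ, this]
  have hε0 : ∀ i, ε i ≠ 0 := fun i h => by
    have h0 := hεc i
    rw [h, LinearMap.zero_apply] at h0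
    apply (hη i).2
    simpa [ε, ← h0] using h
  have hmap : ∀ i, ∃ M : V ≃ₗ[K] V, LinearEquiv.det M = 1 ∧ ∀ x, (M * A * M⁻¹) x = μ • (x + ε i x • c) := fun i => by
    obtain ⟨M, hM, hMφ, hd⟩ := exists_pair_map (by omega) ha hc (φ₀ := μ⁻¹ • φ) (smul_ne_zero (inv_ne_zero hμ) hφ)
      (hε0 i) (by rw [hεc]; rfl) 1
    refine ⟨M, hd, fun x => ?_⟩
    obtain ⟨y, rfl⟩ := M.surjective x
    rw [mul_apply', mul_apply', inv_apply', hA, map_add, map_smul, map_smul, hM, hMφ, smul_add, smul_smul]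
    congr 2
    simp [← mul_assoc, hμ]
  choose M hMd hM using hmap
  refine ⟨List.ofFn fun i => M i * A * (M i)⁻¹, by simp, fun X hX => ?_, LinearEquiv.ext fun x => ?_⟩
  · obtain ⟨i, rfl⟩ := List.mem_ofFn.1 hX
    exact ⟨M i, fun _ => hMd i, rfl⟩
  · rw [prod_rank_one c (θ := θ) _ _ μ ε hM hεc, hg]
    have h1 : ∑ i : Fin (k + 2), (1 + θ) ^ (i : ℕ) * θ = (1 + θ) ^ (k + 2) - 1 := by
      rw [← Finset.sum_mul, Fin.sum_univ_eq_sum_range (fun i => (1 + θ) ^ i)]
      have := geom_sum_mul (1 + θ) (k + 2)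
      rwa [add_sub_cancel_left] at this
    have h2 : ∑ i : Fin (k + 2), (1 + θ) ^ (i : ℕ) * ε i x = (μ ^ (k + 2))⁻¹ * ψ x := by
      have e1 := LinearMap.congr_fun hsum x
      simp only [LinearMap.sum_apply, LinearMap.smul_apply, smul_eq_mul, LinearMap.sub_apply] at e1
      simp only [ε, LinearMap.add_apply, LinearMap.smul_apply, smul_eq_mul, mul_add, Finset.sum_add_distrib]
      rw [e1, hψc, ← h1, Finset.sum_mul]
      simp only [mul_assoc]
      ring
    rw [h2, smul_add, smul_smul, ← mul_assoc, mul_inv_cancel₀ hμn, one_mul]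

theorem prdScalar_transvection [Fintype K] (hF : 4 ≤ Fintype.card K) (h3 : 3 ≤ finrank K V) {A : V ≃ₗ[K] V}
    (hA : NS (K := K) A) {μ : K} {a : V} {φ : V →ₗ[K] K} (h : ∀ x, A x = μ • x + φ x • a) (h0 : φ a = 0) :
    PrdScalar A := by
  have ha : a ≠ 0 := fun e => by obtain ⟨x, hx⟩ := hA μ; exact hx (by simp [h, e])
  have hφ : φ ≠ 0 := fun e => by obtain ⟨x, hx⟩ := hA μ; exact hx (by simp [h, e])
  have hμ : μ ≠ 0 := fun e => by
    have : A a = A 0 := by rw [h, map_zero, h0, e]; simp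
    exact ha (A.injective this)
  refine ⟨Units.mk0 (μ ^ finrank K V) (pow_ne_zero _ hμ), prd_rank_one hF rfl h3 h ha hφ (ψ := 0) (c := a)
    (fun x => by simp [smulOfUnit_apply']) ha ?_⟩
  rw [dt_smulOfUnit, R1.det_eq hμ h, h0]
  simp

/-- No pseudo-reflection on the quotient by an eigenline. -/
def NoR1mod (A : V ≃ₗ[K] V) (u : V) : Prop :=
  ∀ μ : K, ¬ ∃ (p : V) (φ : V →ₗ[K] K), ∀ x, A x - μ • x - φ x • p ∈ K ∙ u

/-- The shortcut at an eigenvalue whose power is a scalar of determinant one. -/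
theorem prdScalar_shortcut [Fintype K] (hF : 4 ≤ Fintype.card K) (h4 : 4 ≤ finrank K V) {A : V ≃ₗ[K] V}
    (hdA : dt A = 1) {u : V} (hu0 : u ≠ 0) {c : Kˣ} (hu : A u = (c : K) • u)
    (hcn : c ^ (finrank K V * finrank K V) = 1) (hq : NoR1mod A u) : PrdScalar A := by
  obtain ⟨m, hm⟩ : ∃ m, finrank K V = m + 1 := ⟨finrank K V - 1, by omega⟩
  obtain ⟨W, Φ, hΦ, hW⟩ := exists_model hu0 hm
  obtain ⟨r, A₁, hA'⟩ := exists_up (f := conjHom Φ A) (c := c) (by rw [← hΦ, conjHom_apply', hu, map_smul, hΦ]; simp)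
  have hA₁ : ∀ τ : K, ¬ R1 A₁ τ := fun τ h => hq τ (r1mod_of_R1 hΦ hA' h)
  have hns : NS (K := K) A₁ := fun κ => by
    by_contra hno
    push Not at hno
    exact hA₁ κ ⟨0, 0, fun x => by simp [hno x]⟩
  let ζ : Kˣ := c ^ (m + 1)
  let Qt : W ≃ₗ[K] W := LinearEquiv.smulOfUnit ζ * A₁⁻¹
  have hdA₁ : (c : K) * dt A₁ = 1 := by
    have h := congrArg dt hA'
    rw [show dt (conjHom Φ A) = dt A by simp only [dt, det_conjHom], hdA] at h
    simpa [dt, det_up] using h.symm
  have hQns : NS (K := K) Qt := fun κ => by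
    by_contra hno
    push Not at hno
    obtain ⟨x, hx⟩ := hns ((ζ : K) / κ)
    have h := hno (A₁ x)
    rw [show Qt (A₁ x) = (ζ : K) • x from by simp [Qt, mul_apply', inv_apply', smulOfUnit_apply']] at h
    by_cases hκ : κ = 0
    · rw [hκ, zero_smul, smul_eq_zero] at h
      exact hx (by rw [h.resolve_left ζ.ne_zero]; simp)
    · exact hx (by rw [div_eq_inv_mul, mul_smul, h, inv_smul_smul₀ hκ])
  have hdQ : dt Qt = dt A₁ ^ m := by
    have e1 : dt Qt = (ζ : K) ^ m * (dt A₁)⁻¹ := by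
      simp only [Qt, dt, map_mul, map_inv, Units.val_mul, Units.val_inv_eq_inv_val]
      rw [show ((LinearEquiv.det (LinearEquiv.smulOfUnit ζ : W ≃ₗ[K] W) : Kˣ) : K) = _ from dt_smulOfUnit ζ, hW]
    have e2 : dt A₁ = (c : K)⁻¹ := by
      field_simp
      linear_combination hdA₁
    rw [e1, e2, inv_inv, inv_pow]
    refine eq_inv_of_mul_eq_one_left ?_
    have h := congrArg (fun z : Kˣ => (z : K)) hcn
    simp only [Units.val_pow_eq_pow_val, Units.val_one, hm] at h
    simp only [ζ, Units.val_pow_eq_pow_val, ← pow_mul]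
    rw [← h]
    ring
  obtain ⟨l, hl, hC, hp, hno⟩ := good_main hF m W hW (by omega) A₁ Qt hns hQns hdQ
    (fun h => by
      rcases h with ⟨-, τ, h1, -⟩ | ⟨h2, -⟩
      · exact hA₁ τ h1
      · omega) (c : K)
  -- the data for all the factors
  let dat : List (Datum K W) := (A₁ :: l).map fun X => if h : ∃ s, up c s X ∈ Cl (conjHom Φ A) then (c, h.choose, X)
    else (c, 0, X)
  have hmem : ∀ X ∈ A₁ :: l, ∃ s, up c s X ∈ Cl (conjHom Φ A) := fun X hX => by
    rcases List.mem_cons.1 hX with rfl | hX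
    · exact ⟨r, hA' ▸ self_mem_Cl _⟩
    · obtain ⟨N, hN, rfl⟩ := hC X hX
      refine ⟨((1 : Kˣ) : K) • r.comp (N⁻¹).toLinearMap, ?_⟩
      rw [← conj_diag c 1 r A₁ N, ← hA']
      exact ⟨up 1 0 N, fun _ => by rw [det_up, one_mul]; exact hN (by omega), rfl⟩
  have hdat : ∀ f ∈ dat, ∃ X ∈ A₁ :: l, f.1 = c ∧ f.2.2 = X ∧ f.val ∈ Cl (conjHom Φ A) := fun f hf => by
    obtain ⟨X, hX, rfl⟩ := List.mem_map.1 hf
    refine ⟨X, hX, ?_⟩
    rw [dif_pos (hmem X hX)]
    exact ⟨rfl, rfl, (hmem X hX).choose_spec⟩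
  have hfst : dat.map Prod.fst = List.replicate (m + 1) c := by
    refine List.eq_replicate_iff.2 ⟨by simp [dat, hl], fun x hx => ?_⟩
    obtain ⟨f, hf, rfl⟩ := List.mem_map.1 hx
    exact (hdat f hf).choose_spec.2.1
  have hthird : dat.map (·.2.2) = A₁ :: l := by
    simp only [dat, List.map_map]
    refine (List.map_congr_left fun X hX => ?_).trans (List.map_id _)
    simp [dif_pos (hmem X hX)]
  obtain ⟨l', hl', hC', -, -, hp'⟩ := exists_corner (C := Cl (conjHom Φ A))
    (fun t X hX => Cl_conj hX _ fun _ => by rw [det_up, map_one, one_mul]) dat (fun f hf => (hdat f hf).choose_spec.2.2.2)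
    (fun x hx hall => hno x hx fun X hX => by
      have hX' : X ∈ dat.map (·.2.2) := hthird ▸ List.mem_cons_of_mem _ hX
      obtain ⟨f, hf, hfX⟩ := List.mem_map.1 hX'
      rw [← hfX, hall f hf, (hdat f hf).choose_spec.2.1]) 0
  rw [hfst, hthird, List.prod_replicate, List.prod_cons, hp] at hp'
  refine ⟨ζ, l'.map (conjHom Φ.symm), ?_, fun X hX => ?_, ?_⟩
  · simp [hl', dat, hl, hm]
  · obtain ⟨Y, hY, rfl⟩ := List.mem_map.1 hX
    have := mem_Cl_conjHom Φ.symm (hC' Y hY)
    rwa [show conjHom Φ.symm (conjHom Φ A) = A from LinearEquiv.ext fun x => by simp [conjHom_apply]] at this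
  · rw [List.prod_hom, hp']
    refine LinearEquiv.ext fun x => Φ.injective ?_
    rw [conjHom_apply, LinearEquiv.apply_symm_apply]
    refine Prod.ext ?_ ?_
    · simp [up_apply, smulOfUnit_apply', ζ]
    · simp [up_apply, smulOfUnit_apply', Qt, mul_apply', ζ, apply_inv]

/-- A square zero perturbation with kernel equal to image, in dimension four. -/
theorem prdScalar_square_zero (h4 : finrank K V = 4) {A : V ≃ₗ[K] V} {c : Kˣ}
    (hle : LinearMap.ker (A.toLinearMap - (c : K) • LinearMap.id) ≤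
      LinearMap.range (A.toLinearMap - (c : K) • LinearMap.id))
    (h2 : finrank K (LinearMap.range (A.toLinearMap - (c : K) • LinearMap.id)) = 2) : PrdScalar A := by
  set N := A.toLinearMap - (c : K) • LinearMap.id
  have hk := LinearMap.finrank_range_add_finrank_ker N
  have heq : LinearMap.ker N = LinearMap.range N := Submodule.eq_of_le_of_finrank_le hle (by omega)
  have hNN : ∀ x, N (N x) = 0 := fun x => LinearMap.mem_ker.1 (heq ▸ LinearMap.mem_range_self N x)
  obtain ⟨W, hW⟩ := (LinearMap.range N).exists_isCompl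
  let e := Submodule.prodEquivOfIsCompl _ W hW
  let M : V ≃ₗ[K] V := e.symm.trans (((LinearEquiv.neg K).prodCongr (LinearEquiv.refl K W)).trans e)
  have hMd : LinearEquiv.det M = 1 := by
    refine Units.ext ?_
    rw [LinearEquiv.coe_det]
    show LinearMap.det ((e.toLinearMap ∘ₗ ((-LinearMap.id).prodMap LinearMap.id)) ∘ₗ e.symm.toLinearMap) = _
    rw [LinearMap.comp_assoc, LinearMap.det_conj, LinearMap.det_prodMap, ← neg_one_smul K LinearMap.id,
      LinearMap.det_smul, LinearMap.det_id, h2]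
    simp
  have hMN : ∀ y ∈ LinearMap.range N, M y = -y := fun y hy => by
    have he : e.symm y = (⟨y, hy⟩, 0) := by rw [LinearEquiv.symm_apply_eq]; simp [e]
    simp [M, he, e]
  have hNM : ∀ x, N (M x) = N x := fun x => by
    obtain ⟨⟨p, w⟩, rfl⟩ := e.surjective x
    have hp : N (p : V) = 0 := LinearMap.mem_ker.1 (by rw [heq]; exact p.2)
    simp [M, e, map_add, hp]
  have hA : ∀ x, A x = (c : K) • x + N x := fun x => by simp [N]
  have hB : ∀ x, (M * A * M⁻¹) x = (c : K) • x - N x := fun x => by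
    obtain ⟨y, rfl⟩ := M.surjective x
    rw [mul_apply', mul_apply', inv_apply', hA, map_add, map_smul, hMN _ (LinearMap.mem_range_self N y), hNM,
      sub_eq_add_neg]
  have hAB : ∀ x, A ((M * A * M⁻¹) x) = ((c : K) * c) • x := fun x => by
    rw [hB, hA, map_sub, map_smul, hNN]
    module
  refine ⟨c ^ 4, [A, M * A * M⁻¹, A, M * A * M⁻¹], by rw [h4]; rfl, fun X hX => ?_, LinearEquiv.ext fun x => ?_⟩
  · simp only [List.mem_cons, List.not_mem_nil, or_false] at hX
    rcases hX with h | h | h | h <;> rw [h]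
    exacts [self_mem_Cl A, ⟨M, fun _ => hMd, rfl⟩, self_mem_Cl A, ⟨M, fun _ => hMd, rfl⟩]
  · simp only [List.prod_cons, List.prod_nil, mul_one, mul_apply' A]
    rw [mul_apply' (M * A * M⁻¹), hAB, mul_apply' A, hAB, smul_smul, smulOfUnit_apply']
    congr 1
    simp; ring

/-- Dimension three with a cyclic vector: a cube root of the scalar. -/
theorem prdScalar_three [Fintype K] (hF : 4 ≤ Fintype.card K) (h3 : finrank K V = 3) {A : V ≃ₗ[K] V}
    (hdA : dt A = 1) (hA : ∀ μ : K, ¬ R1 A μ) : PrdScalar A := by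
  obtain ⟨w, hw1, hw2⟩ := exists_cyclic h3 (big_of_card hF) hA
  obtain ⟨n1, n2⟩ := notMem_span_of_noneigen (f := A.toLinearMap) hw1
  have hli : LinearIndependent K ![w, A w, A (A w)] := by
    have := linearIndependent_fin_snoc.2 ⟨li_pair n1 n2, show A (A w) ∉ Submodule.span K (Set.range ![w, A w]) by
      rw [range_pair]; exact hw2⟩
    convert this using 1
    funext i
    fin_cases i <;> rfl
  let eb := basisOfLinearIndependentOfCardEqFinrank hli (by simp [h3])
  have heb : ∀ i, eb i = ![w, A w, A (A w)] i := fun i => by simp [eb]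
  let p : Fin 3 → K := fun i => eb.repr (A (A (A w))) i
  have hA3 : A (A (A w)) = p 0 • w + p 1 • A w + p 2 • A (A w) := by
    conv_lhs => rw [← eb.sum_repr (A (A (A w))), Fin.sum_univ_three]
    simp [p, heb]
  have hp0 : p 0 = 1 := by
    have h := hdA
    rw [dt, LinearEquiv.coe_det, ← LinearMap.det_toMatrix eb, Matrix.det_fin_three] at h
    have r0 : ∀ i, eb.repr (A w) i = if i = 1 then 1 else 0 := fun i => by
      rw [show A w = eb 1 by simp [heb], eb.repr_self]; simp [Finsupp.single_apply, eq_comm]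
    have r1 : ∀ i, eb.repr (A (A w)) i = if i = 2 then 1 else 0 := fun i => by
      rw [show A (A w) = eb 2 by simp [heb], eb.repr_self]; simp [Finsupp.single_apply, eq_comm]
    simp [LinearMap.toMatrix_apply, heb, r0, r1] at h
    exact h
  let ρ₁ : K := 1 + (1 + 1) - p 2
  let e3 : V := A (A w) + ρ₁ • A w + w
  -- signs are absorbed by the cyclic shift
  have hli' : LinearIndependent K ![A w, w, e3] := by
    rw [Fintype.linearIndependent_iff]
    intro k hk
    simp only [Fin.sum_univ_three, Matrix.cons_val_zero, Matrix.cons_val_one, Matrix.cons_val, e3, smul_add,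
      smul_smul] at hk
    have h := Fintype.linearIndependent_iff.1 hli ![k 1 + k 2, k 0 + k 2 * ρ₁, k 2] (by
      rw [Fin.sum_univ_three, ← hk]
      simp only [Matrix.cons_val_zero, Matrix.cons_val_one, Matrix.cons_val]
      module)
    have k2 : k 2 = 0 := by simpa using h 2
    have k1 : k 1 = 0 := by simpa [k2] using h 0
    have k0 : k 0 = 0 := by simpa [k2] using h 1
    intro i; fin_cases i <;> assumption
  let f := basisOfLinearIndependentOfCardEqFinrank hli' (by simp [h3])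
  have hf : ∀ i, f i = ![A w, w, e3] i := fun i => by simp [f]
  let σ : Fin 3 ≃ Fin 3 := finRotate 3
  let P : V ≃ₗ[K] V := f.equiv f σ
  have hP : P (f 0) = f 1 ∧ P (f 1) = f 2 ∧ P (f 2) = f 0 := by
    refine ⟨?_, ?_, ?_⟩ <;> rw [Basis.equiv_apply] <;> congr 1
  have hP3 : P * P * P = 1 := by
    refine LinearEquiv.toLinearMap_injective (f.ext fun i => ?_)
    obtain ⟨h0, h1, h2⟩ := hP
    fin_cases i <;> simp [mul_apply', one_apply', h0, h1, h2]
  have hPd : LinearEquiv.det P = 1 := by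
    refine Units.ext ?_
    rw [LinearEquiv.coe_det, ← LinearMap.det_toMatrix f, Matrix.det_fin_three, Units.val_one]
    simp [LinearMap.toMatrix_apply, hP.1, hP.2.1, hP.2.2]
  let M := A * P
  have hM0 : M (f 0) = f 0 := by
    rw [mul_apply', hP.1, hf, hf]; rfl
  have hρ : p 2 + ρ₁ = 1 + 1 + 1 := by simp only [ρ₁]; ring
  have hM1' : M (f 1) = (1 + p 1 - (1 + 1 + 1) * ρ₁) • f 0 + (-(1 + 1) : K) • f 1 + (1 + 1 + 1 : K) • f 2 := by
    rw [mul_apply', hP.2.1, ← hρ]
    simp only [hf, Matrix.cons_val_zero, Matrix.cons_val_one, Matrix.cons_val, e3, map_add, map_smul, hA3, hp0, ρ₁]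
    module
  have hM2 : M (f 2) = (-ρ₁) • f 0 + (-1 : K) • f 1 + f 2 := by
    rw [mul_apply', hP.2.2]
    simp only [hf, Matrix.cons_val_zero, Matrix.cons_val_one, Matrix.cons_val, e3]
    module
  -- the quotient has trace minus one and determinant one
  have hcube : M * M * M = 1 := by
    refine LinearEquiv.toLinearMap_injective (f.ext fun i => ?_)
    fin_cases i
    · simp [mul_apply' (M * M), mul_apply' M M, hM0, one_apply']
    · simp only [Fin.mk_one, LinearEquiv.coe_coe, mul_apply' (M * M), mul_apply' M M, one_apply', hM0, hM1', hM2,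
        map_add, map_smul]
      module
    · simp only [show ((⟨2, by norm_num⟩ : Fin 3)) = (2 : Fin 3) from rfl, LinearEquiv.coe_coe, mul_apply' (M * M),
        mul_apply' M M, one_apply', hM0, hM1', hM2, map_add, map_smul]
      module
  refine ⟨1, [A, P * A * P⁻¹, (P * P) * A * (P * P)⁻¹], by rw [h3]; rfl, fun X hX => ?_, ?_⟩
  · simp only [List.mem_cons, List.not_mem_nil, or_false] at hX
    rcases hX with h | h | h <;> rw [h]
    exacts [self_mem_Cl A, ⟨P, fun _ => hPd, rfl⟩, ⟨P * P, fun _ => by rw [map_mul, hPd, one_mul], rfl⟩]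
  · have e : (LinearEquiv.smulOfUnit (1 : Kˣ) : V ≃ₗ[K] V) = 1 := LinearEquiv.ext fun x => by
      rw [smulOfUnit_apply']; simp [one_apply']
    rw [e, ← hcube]
    have hinv : (P * P)⁻¹ = P := inv_eq_of_mul_eq_one_right hP3
    simp only [List.prod_cons, List.prod_nil, mul_one, hinv, M]
    group

end Cfsg.Agent.Classical.CovPSL
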