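import Cfsg.Agent.Lib.Classical.CovPSL.IdBasic

set_option autoImplicit false

/-! Split operators with two eigenvalues: triangular conjugates with rotated diagonals. -/

namespace Cfsg.Agent.Classical.CovPSL

open Module Polynomial

universe u v

variable {K : Type u} [Field K]

attribute [local instance] Classical.propDecidable

theorem charpoly_up {W : Type v} [AddCommGroup W] [Module K W] [FiniteDimensional K W] (a : Kˣ) (r : W →ₗ[K] K)
    (B : W ≃ₗ[K] W) :
    (up a r B : (K × W) →ₗ[K] K × W).charpoly = (X - C (a : K)) * (B : W →ₗ[K] W).charpoly := by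
  classical
  let b1 := Basis.singleton (Fin 1) K
  let bW := finBasis K W
  rw [← LinearMap.charpoly_toMatrix _ (b1.prod bW), ← LinearMap.charpoly_toMatrix _ bW]
  have e : LinearMap.toMatrix (b1.prod bW) (b1.prod bW) (up a r B : (K × W) →ₗ[K] K × W) =
      Matrix.fromBlocks (Matrix.diagonal fun _ : Fin 1 => (a : K))
        (LinearMap.toMatrix bW b1 r) 0 (LinearMap.toMatrix bW bW (B : W →ₗ[K] W)) := by
    ext i j
    rcases i with i | i <;> rcases j with j | j
    · fin_cases i; fin_cases j
      simp [LinearMap.toMatrix_apply, up_apply, b1]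
    all_goals simp [LinearMap.toMatrix_apply, up_apply, b1]
  rw [e, Matrix.charpoly_fromBlocks_zero₂₁, Matrix.charpoly_diagonal]
  simp

/-- Conjugates with product one and eigenvalue sequences among the columns. -/
theorem exists_rotation : ∀ (m : ℕ) (V : Type v) [AddCommGroup V] [Module K V] [FiniteDimensional K V],
    finrank K V = m → ∀ (k : ℕ) (A : Fin k → V ≃ₗ[K] V) (cs : Fin k → Fin m → Kˣ),
    (∀ i, (A i : V →ₗ[K] V).charpoly = ∏ j, (X - C (cs i j : K))) → (∀ j, ∏ i, cs i j = 1) →
    (∀ j j', (∀ i, cs i j = cs i j') → j = j') →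
    ∃ R : Fin k → V ≃ₗ[K] V, (∀ i, LinearEquiv.det (R i) = 1) ∧
      (List.ofFn fun i => R i * A i * (R i)⁻¹).prod = 1 ∧
      ∀ x : V, x ≠ 0 → ∀ v : Fin k → K, (∀ i, (R i * A i * (R i)⁻¹) x = v i • x) → ∃ j, ∀ i, v i = cs i j := by
  intro m
  induction m with
  | zero =>
    intro V _ _ _ hV k A cs _ _ _
    haveI : Subsingleton V := Module.finrank_zero_iff.1 hV
    exact ⟨fun _ => 1, fun _ => map_one _, LinearEquiv.ext fun x => Subsingleton.elim _ _,
      fun x hx => absurd (Subsingleton.elim x 0) hx⟩
  | succ m ih =>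
    intro V _ _ _ hV k A cs hcp hprod hinj
    classical
    haveI : Nontrivial V := Module.nontrivial_of_finrank_pos (R := K) (by omega)
    obtain ⟨e, he⟩ := exists_ne (0 : V)
    obtain ⟨W, Φ, hΦ, hW⟩ := exists_model he hV
    have hev : ∀ i, ∃ u, u ≠ 0 ∧ A i u = (cs i 0 : K) • u := fun i => by
      have h1 : Module.End.HasEigenvalue (A i : V →ₗ[K] V) (cs i 0 : K) := by
        rw [Module.End.hasEigenvalue_iff_isRoot_charpoly, hcp, IsRoot, eval_prod]
        exact Finset.prod_eq_zero (Finset.mem_univ 0) (by simp)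
      obtain ⟨u, hu⟩ := h1.exists_hasEigenvector
      exact ⟨u, hu.2, Module.End.mem_eigenspace_iff.1 hu.1⟩
    choose u hu0 hu using hev
    have hN : ∀ i, ∃ N : V ≃ₗ[K] V, N (u i) = e := fun i => by
      obtain ⟨U₁, Ψ, hΨ, hU₁⟩ := exists_model (hu0 i) hV
      let E : U₁ ≃ₗ[K] W := LinearEquiv.ofFinrankEq _ _ (hU₁.trans hW.symm)
      exact ⟨Ψ.trans (((LinearEquiv.refl K K).prodCongr E).trans Φ.symm), by simp [hΨ, ← hΦ]⟩
    choose N hN using hN
    have hup : ∀ i, ∃ (r : W →ₗ[K] K) (B : W ≃ₗ[K] W), conjHom Φ (N i * A i * (N i)⁻¹) = up (cs i 0) r B := fun i =>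
      exists_up (by
        rw [← hΦ, conjHom_apply', mul_apply', mul_apply', inv_apply_eq (N i) (hN i), hu, map_smul, hN, map_smul, hΦ]
        simp)
    choose r B hB using hup
    have hcpB : ∀ i, (B i : W →ₗ[K] W).charpoly = ∏ j : Fin m, (X - C (cs i j.succ : K)) := fun i => by
      have h1 : (up (cs i 0) (r i) (B i) : (K × W) →ₗ[K] K × W).charpoly = (A i : V →ₗ[K] V).charpoly := by
        rw [← LinearEquiv.charpoly_conj ((N i).trans Φ) (A i : V →ₗ[K] V)]
        congr 1
        refine LinearMap.ext fun p => ?_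
        rw [← hB i]
        rfl
      rw [charpoly_up, hcp, Fin.prod_univ_succ] at h1
      exact mul_left_cancel₀ (X_sub_C_ne_zero _) h1
    obtain ⟨Q, hQd, hQp, hQv⟩ := ih W hW k B (fun i j => cs i j.succ) hcpB (fun j => hprod _) fun j j' h =>
      Fin.succ_injective _ (hinj _ _ h)
    let lam : Fin k → Kˣ := fun i => (LinearEquiv.det (N i))⁻¹
    let dat : Fin k → Datum K W := fun i =>
      (cs i 0, (lam i : K) • (r i).comp ((Q i)⁻¹).toLinearMap, Q i * B i * (Q i)⁻¹)
    let P : Fin k → V ≃ₗ[K] V := fun i => conjHom Φ.symm (up (lam i) 0 (Q i)) * N i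
    have hPd : ∀ i, LinearEquiv.det (P i) = 1 := fun i => by
      rw [map_mul, det_conjHom, det_up, hQd, mul_one, inv_mul_cancel]
    have hPc : ∀ i, conjHom Φ (P i * A i * (P i)⁻¹) = (dat i).val := fun i => by
      rw [show P i * A i * (P i)⁻¹ = conjHom Φ.symm (up (lam i) 0 (Q i)) * (N i * A i * (N i)⁻¹) *
        (conjHom Φ.symm (up (lam i) 0 (Q i)))⁻¹ by simp only [P]; group, map_mul, map_mul, map_inv, hB,
        conjHom_symm, conj_diag]
      rfl
    let l := List.ofFn dat
    obtain ⟨R₀, hR₀⟩ := prod_val l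
    have hfst : (l.map Prod.fst).prod = 1 := by
      simp [l, dat, List.map_ofFn, List.prod_ofFn, Function.comp_def, hprod]
    have hthird : (l.map (·.2.2)).prod = 1 := by
      simpa [l, dat, List.map_ofFn, Function.comp_def] using hQp
    obtain ⟨ts, hts, htp⟩ := exists_corner_add l R₀ (-R₀) hR₀ fun x hx => by
      by_cases hx0 : x = 0
      · simp [hx0]
      exfalso
      obtain ⟨j, hj⟩ := hQv x hx0 (fun i => (cs i 0 : K)) fun i => hx (dat i) (by simp [l])
      exact Fin.succ_ne_zero j (hinj j.succ 0 fun i => Units.ext (hj i).symm)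
    rw [add_neg_cancel, hfst, hthird, up_one] at htp
    have hlen : ts.length = k := by rw [hts]; simp [l]
    let t : Fin k → (W →ₗ[K] K) := fun i => ts[(i : ℕ)]'(by rw [hlen]; exact i.2)
    have hzip : (ts.zip l).map (fun p => up 1 p.1 1 * p.2.val * (up 1 p.1 1)⁻¹) =
        List.ofFn fun i => up 1 (t i) 1 * (dat i).val * (up 1 (t i) 1)⁻¹ :=
      List.ext_getElem (by simp [hts, l]) fun i h1 h2 => by simp [t, l]
    rw [hzip] at htp
    let R : Fin k → V ≃ₗ[K] V := fun i => conjHom Φ.symm (up 1 (t i) 1) * P i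
    have hRc : ∀ i, conjHom Φ (R i * A i * (R i)⁻¹) = up 1 (t i) 1 * (dat i).val * (up 1 (t i) 1)⁻¹ := fun i => by
      rw [show R i * A i * (R i)⁻¹ = conjHom Φ.symm (up 1 (t i) 1) * (P i * A i * (P i)⁻¹) *
        (conjHom Φ.symm (up 1 (t i) 1))⁻¹ by simp only [R]; group, map_mul, map_mul, map_inv, hPc, conjHom_symm]
    refine ⟨R, fun i => by rw [map_mul, det_conjHom, det_up, hPd, map_one, mul_one, mul_one], ?_, fun x hx v hv => ?_⟩
    · refine LinearEquiv.ext fun x => Φ.injective ?_
      have h1 := LinearEquiv.congr_fun htp (Φ x)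
      rw [show (List.ofFn fun i => up 1 (t i) 1 * (dat i).val * (up 1 (t i) 1)⁻¹) =
        (List.ofFn fun i => R i * A i * (R i)⁻¹).map (conjHom Φ) by
          simp [List.map_ofFn, Function.comp_def, hRc], List.prod_hom, conjHom_apply'] at h1
      rw [h1]; rfl
    · set s := (Φ x).1
      set w := (Φ x).2
      have hi : ∀ i, (up 1 (t i) 1 * (dat i).val * (up 1 (t i) 1)⁻¹) (Φ x) = v i • Φ x := fun i => by
        rw [← hRc, conjHom_apply', hv, map_smul]
      have hi2 : ∀ i, (Q i * B i * (Q i)⁻¹) w = v i • w := fun i => by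
        have := congrArg Prod.snd (hi i)
        rw [Datum.val, conj_trans] at this
        exact this
      by_cases hw : w = 0
      · refine ⟨0, fun i => ?_⟩
        have hs : s ≠ 0 := fun h => hx (Φ.injective (by rw [map_zero]; exact Prod.ext h hw))
        have h1 := congrArg Prod.fst (hi i)
        rw [Datum.val, conj_trans, up_apply] at h1
        simp only [show (Φ x).2 = 0 from hw, map_zero, add_zero, Prod.smul_fst, smul_eq_mul] at h1
        exact (mul_right_cancel₀ hs h1).symm
      · obtain ⟨j, hj⟩ := hQv w hw v hi2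
        exact ⟨j.succ, hj⟩

variable {V : Type v} [AddCommGroup V] [Module K V] [FiniteDimensional K V]

theorem prdScalar_split (h3 : 3 ≤ finrank K V) {A : V ≃ₗ[K] V} (hdA : dt A = 1)
    (hs : (A : V →ₗ[K] V).charpoly.Splits) {a b : K} (ha : Eig A a) (hb : Eig A b) (hab : a ≠ b) : PrdScalar A := by
  classical
  set n := finrank K V with hn
  let rts := (A : V →ₗ[K] V).charpoly.roots
  have hcp : (A : V →ₗ[K] V).charpoly = (rts.map fun z => X - C z).prod :=
    hs.eq_prod_roots_of_monic (LinearMap.charpoly_monic _)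
  have hmem : ∀ {c : K}, Eig A c → c ∈ rts := fun {c} ⟨x, hx, hAx⟩ => by
    refine (mem_roots (LinearMap.charpoly_monic _).ne_zero).2 ?_
    rw [← Module.End.hasEigenvalue_iff_isRoot_charpoly]
    exact Module.End.hasEigenvalue_of_hasEigenvector ⟨Module.End.mem_eigenspace_iff.2 hAx, hx⟩
  let front := List.replicate (rts.count a) a
  let back := (rts.filter fun z => z ≠ a).toList
  let cl := front ++ back
  have hcm : (cl : Multiset K) = rts := by
    simp only [cl, ← Multiset.coe_add, front, back, Multiset.coe_toList, Multiset.coe_replicate,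
      ← Multiset.filter_eq']
    exact Multiset.filter_add_not (fun z => z = a) rts
  have hclen : cl.length = n := by
    have := congrArg Multiset.card hcm
    rw [Multiset.coe_card] at this
    rw [this, ← hs.natDegree_eq_card_roots, LinearMap.charpoly_natDegree]
  have hM : rts.count a < n := by
    have h1 : 0 < back.length := by
      rw [Multiset.length_toList, Multiset.card_pos_iff_exists_mem]
      exact ⟨b, Multiset.mem_filter.2 ⟨hmem hb, Ne.symm hab⟩⟩
    rw [← hclen]; simp [cl, front]; omega
  have hM0 : 0 < rts.count a := Multiset.count_pos.2 (hmem ha)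
  have hprodc : cl.prod = 1 := by
    rw [← Multiset.prod_coe, hcm, ← hdA, dt, LinearEquiv.coe_det, Module.End.det_eq_prod_roots_charpoly_of_splits hs]
  have hne : ∀ z ∈ cl, z ≠ 0 := fun z hz e => by
    rw [List.prod_eq_zero (e ▸ hz)] at hprodc; exact zero_ne_one hprodc
  haveI : NeZero n := ⟨by omega⟩
  let cu : Fin n → Kˣ := fun i => Units.mk0 (cl[(i : ℕ)]'(by rw [hclen]; exact i.2)) (hne _ (List.getElem_mem _))
  have hca : ∀ i : Fin n, (cu i : K) = a ↔ (i : ℕ) < rts.count a := fun i => by
    have hi : (i : ℕ) < cl.length := by rw [hclen]; exact i.2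
    show cl[(i : ℕ)] = a ↔ _
    by_cases h : (i : ℕ) < rts.count a
    · rw [List.getElem_append_left (by simpa [front] using h)]
      simp [front, h]
    · rw [List.getElem_append_right (by simpa [front] using Nat.le_of_not_lt h)]
      refine iff_of_false ?_ h
      have := List.getElem_mem (l := back) (n := (i : ℕ) - front.length) (by
        simp only [cl, List.length_append] at hi
        simp only [front, List.length_replicate] at hi ⊢
        omega)
      rw [Multiset.mem_toList, Multiset.mem_filter] at this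
      exact this.2
  have hofn : List.ofFn (fun i => (cu i : K)) = cl := List.ext_getElem (by simp [hclen]) fun i h1 h2 => by simp [cu]
  obtain ⟨R, hRd, hRp, -⟩ := exists_rotation n V rfl n (fun _ => A) (fun i j => cu (i + j)) (fun i => by
      rw [Fintype.prod_equiv (Equiv.addLeft i) (fun j => X - C (cu (i + j) : K)) (fun j => X - C (cu j : K))
        fun j => rfl, hcp, ← hcm, Multiset.map_coe, Multiset.prod_coe, ← hofn, List.map_ofFn, List.prod_ofFn]
      rfl)
    (fun j => by
      rw [Fintype.prod_equiv (Equiv.addRight j) (fun i => cu (i + j)) cu fun i => rfl]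
      refine Units.ext ?_
      rw [Units.coe_prod, ← List.prod_ofFn, hofn, hprodc, Units.val_one])
    fun j j' h => by
      -- the first block is not periodic
      have h' : ∀ i : Fin n, cu i = cu (i + (j' - j)) := fun i => by
        have := h (i - j)
        rwa [sub_add_cancel, show i - j + j' = i + (j' - j) by abel] at this
      by_contra hne'
      set d := j' - j with hd
      have hd0 : (d : ℕ) ≠ 0 := fun e => hne' (by
        have : d = 0 := Fin.ext e
        rw [hd, sub_eq_zero] at this
        exact this.symm)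
      have hdM : (d : ℕ) < rts.count a := by
        have := (hca 0).2 (by simpa using hM0)
        rw [h' 0, zero_add] at this
        exact (hca d).1 this
      let i : Fin n := ⟨rts.count a - d, by omega⟩
      have h1 := (hca i).2 (by simp only [i]; omega)
      rw [h' i] at h1
      have h2 := (hca _).1 h1
      rw [Fin.val_add, show ((i : ℕ) + (d : ℕ)) = rts.count a by simp only [i]; omega, Nat.mod_eq_of_lt hM] at h2
      omega
  refine ⟨1, List.ofFn fun i => R i * A * (R i)⁻¹, by simp [hn], fun X hX => ?_, ?_⟩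
  · obtain ⟨i, rfl⟩ := List.mem_ofFn.1 hX
    exact ⟨R i, fun _ => hRd i, rfl⟩
  · rw [hRp]
    exact LinearEquiv.ext fun x => by simp [smulOfUnit_apply', one_apply']

end Cfsg.Agent.Classical.CovPSL
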