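import Cfsg.Agent.Lib.Classical.CovPSL.Four
import Cfsg.Agent.Lib.Classical.CovPSL.Rotate

set_option autoImplicit false

/-! Some scalar is a product of conjugates, in every case. -/

namespace Cfsg.Agent.Classical.CovPSL

open Module Polynomial

universe u v

variable {K : Type u} [Field K] {V : Type v} [AddCommGroup V] [Module K V] [FiniteDimensional K V]

attribute [local instance] Classical.propDecidable

/-- A single eigenvalue. -/
theorem prdScalar_single [Fintype K] (hF : 4 ≤ Fintype.card K) (h3 : 3 ≤ finrank K V) {A : V ≃ₗ[K] V}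
    (hA : NS (K := K) A) (hdA : dt A = 1) {c : Kˣ} (hc : (c : K) ^ finrank K V = 1) {u₀ : V} (hu₀ : u₀ ≠ 0)
    (hu : A u₀ = (c : K) • u₀) (honly : ∀ μ : K, Eig A μ → μ = c) : PrdScalar A := by
  by_cases hR : ∃ μ : K, R1 A μ
  · obtain ⟨μ, a, φ, h⟩ := hR
    have ha : a ≠ 0 := fun e => by obtain ⟨x, hx⟩ := hA μ; exact hx (by simp [h, e])
    obtain ⟨y, hy, hy0⟩ := Submodule.exists_mem_ne_zero_of_ne_bot (show LinearMap.ker φ ≠ ⊥ from fun e => by
      have h1 := LinearMap.finrank_range_add_finrank_ker φ
      have h2 := Submodule.finrank_le (LinearMap.range φ)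
      rw [finrank_self] at h2
      rw [e, finrank_bot] at h1
      omega)
    have e1 := honly μ ⟨y, hy0, by rw [h, LinearMap.mem_ker.1 hy, zero_smul, add_zero]⟩
    have e2 := honly (μ + φ a) ⟨a, ha, by rw [h, add_smul]⟩
    exact prdScalar_transvection hF h3 hA h (by linear_combination e2 - e1)
  push Not at hR
  by_cases h3' : finrank K V = 3
  · exact prdScalar_three hF h3' hdA hR
  have h4 : 4 ≤ finrank K V := by omega
  set N := A.toLinearMap - (c : K) • LinearMap.id with hN
  have hN2 : 2 ≤ finrank K (LinearMap.range N) := by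
    by_contra h
    obtain ⟨⟨a, ha⟩, haeq⟩ := finrank_le_one_iff.1 (show finrank K (LinearMap.range N) ≤ 1 by omega)
    refine hR c (R1.of_line (f := A.toLinearMap) a fun x => ?_)
    obtain ⟨t, ht⟩ := haeq ⟨N x, LinearMap.mem_range_self N x⟩
    exact Submodule.mem_span_singleton.2 ⟨t, by simpa [hN] using congrArg Subtype.val ht⟩
  have hsc : c ^ (finrank K V * finrank K V) = 1 := Units.ext (by
    rw [Units.val_pow_eq_pow_val, pow_mul, hc, one_pow, Units.val_one])
  have hNo : ∀ u, (finrank K (LinearMap.range N) = 2 → u ∉ LinearMap.range N) → u ≠ 0 → NoR1mod A u := by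
    rintro u hu' hu0 μ ⟨p, φ, h⟩
    have hle : LinearMap.range (A.toLinearMap - μ • LinearMap.id) ≤ Submodule.span K (Set.range ![u, p]) := by
      rintro _ ⟨x, rfl⟩
      obtain ⟨t, ht⟩ := Submodule.mem_span_singleton.1 (h x)
      refine (Submodule.mem_span_range_iff_exists_fun K).2 ⟨![t, φ x], ?_⟩
      simp only [Fin.sum_univ_two, Matrix.cons_val_zero, Matrix.cons_val_one]
      simp only [LinearMap.sub_apply, LinearMap.smul_apply, LinearMap.id_apply, LinearEquiv.coe_coe]
      linear_combination (norm := module) ht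
    have hsp : finrank K (Submodule.span K (Set.range ![u, p])) ≤ 2 := by
      simpa [Set.finrank] using finrank_range_le_card (R := K) ![u, p]
    have h5 := Submodule.finrank_mono hle
    by_cases hμ : μ = c
    · subst hμ
      rw [← hN] at hle h5
      have he := Submodule.eq_of_le_of_finrank_le hle (by omega)
      exact hu' (by omega) (he ▸ Submodule.subset_span ⟨0, rfl⟩)
    · have hinj : LinearMap.ker (A.toLinearMap - μ • LinearMap.id) = ⊥ := (Submodule.eq_bot_iff _).2 fun x hx =>
        by_contra fun hx0 => hμ (honly μ ⟨x, hx0, by simpa [sub_eq_zero] using hx⟩)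
      have h6 := LinearMap.finrank_range_add_finrank_ker (A.toLinearMap - μ • LinearMap.id)
      rw [hinj, finrank_bot] at h6
      omega
  by_cases hle : LinearMap.ker N ≤ LinearMap.range N
  · by_cases h2 : finrank K (LinearMap.range N) = 2
    · have h6 := LinearMap.finrank_range_add_finrank_ker N
      have h7 := Submodule.finrank_mono hle
      exact prdScalar_square_zero (by omega) hle h2
    · exact prdScalar_shortcut hF h4 hdA hu₀ hu hsc (hNo u₀ (fun h => absurd h h2) hu₀)
  · obtain ⟨u, hu1, hu2⟩ := SetLike.not_le_iff_exists.1 hle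
    have hu0 : u ≠ 0 := fun e => hu2 (e ▸ Submodule.zero_mem _)
    exact prdScalar_shortcut hF h4 hdA hu0 (by simpa [hN, sub_eq_zero] using hu1) hsc (hNo u (fun _ => hu2) hu0)

/-- Some scalar is always a product of conjugates, as many as the dimension. -/
theorem prdScalar_all [Fintype K] (hF : 4 ≤ Fintype.card K) (h3 : 3 ≤ finrank K V) {A : V ≃ₗ[K] V}
    (hA : NS (K := K) A) (hdA : dt A = 1) : PrdScalar A := by
  classical
  by_cases hs : (A : V →ₗ[K] V).charpoly.Splits
  · obtain ⟨c, hc⟩ := hs.exists_eval_eq_zero (by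
      rw [degree_eq_natDegree (LinearMap.charpoly_monic _).ne_zero, LinearMap.charpoly_natDegree]
      exact_mod_cast (show finrank K V ≠ 0 by omega))
    obtain ⟨u₀, hu₀⟩ := ((Module.End.hasEigenvalue_iff_isRoot_charpoly (A : V →ₗ[K] V) c).2 hc).exists_hasEigenvector
    have hu : A u₀ = c • u₀ := hu₀.apply_eq_smul
    by_cases h : ∃ b, Eig A b ∧ c ≠ b
    · obtain ⟨b, hb, hne⟩ := h
      exact prdScalar_split h3 hdA hs ⟨u₀, hu₀.2, hu⟩ hb hne
    push Not at h
    have honly : ∀ μ, Eig A μ → μ = c := fun μ hμ => (h μ hμ).symm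
    have hall : ∀ z ∈ (A : V →ₗ[K] V).charpoly.roots, z = c := fun z hz => by
      obtain ⟨x, hx⟩ := ((Module.End.hasEigenvalue_iff_isRoot_charpoly (A : V →ₗ[K] V) z).2
        ((mem_roots (LinearMap.charpoly_monic _).ne_zero).1 hz)).exists_hasEigenvector
      exact honly z ⟨x, hx.2, hx.apply_eq_smul⟩
    have hd : c ^ finrank K V = 1 := by
      rw [← hdA, dt, LinearEquiv.coe_det, Module.End.det_eq_prod_roots_charpoly_of_splits hs,
        Multiset.eq_replicate_card.2 hall, Multiset.prod_replicate, ← hs.natDegree_eq_card_roots,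
        LinearMap.charpoly_natDegree]
    have hc0 : c ≠ 0 := fun e => by rw [e, zero_pow (by omega)] at hd; exact zero_ne_one hd
    exact prdScalar_single hF h3 hA hdA (c := Units.mk0 c hc0) hd hu₀.2 hu honly
  by_cases h3' : finrank K V = 3
  · exact prdScalar_three hF h3' hdA (not_R1_of_not_splits hs)
  by_cases hG : G1 A.toLinearMap
  · by_cases h4 : finrank K V = 4
    · exact prdScalar_four_G1 hF h4 hdA hG hs
    have fin : ∀ k, k < finrank K V → CovK A k → PrdScalar A := fun k hk hcov => by
      refine ⟨1, ?_⟩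
      have e := ((hcov.mono h3 hA (finrank K V - 1) (by omega)).succ h3 hA
        (g := LinearEquiv.smulOfUnit (1 : Kˣ)) (by rw [dt_smulOfUnit, hdA]; simp))
      rwa [show finrank K V - 1 + 1 = finrank K V by omega] at e
    rcases covK_cases hF (by omega) hG with h | ⟨h8, h, q, hq, hq2, hle, hk⟩
    · exact fin 4 (by omega) h
    by_cases h8' : finrank K V = 8
    · have h1 := LinearMap.finrank_range_add_finrank_ker (aeval (A : Module.End K V) q)
      have h2 := Submodule.finrank_mono hle
      obtain ⟨ζ, hζ⟩ := prd_four_of_quad (k := 2) h8' hq (by omega)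
        (Or.inr (Submodule.eq_of_le_of_finrank_le hle (by omega)))
      refine ⟨ζ * ζ, ?_⟩
      rw [h8', show (LinearEquiv.smulOfUnit (ζ * ζ) : V ≃ₗ[K] V) =
        LinearEquiv.smulOfUnit ζ * LinearEquiv.smulOfUnit ζ from LinearEquiv.ext fun x => by
          simp [smulOfUnit_apply', mul_apply', smul_smul]]
      exact hζ.mul hζ
    exact fin 8 (by omega) h
  simp only [G1, not_forall] at hG
  obtain ⟨c, x, y, hx, hAx, hAy, hy⟩ := hG
  have hc0 : c ≠ 0 := fun e => hx (A.map_eq_zero_iff.1 (by rw [← LinearEquiv.coe_coe, hAx, e, zero_smul]))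
  have hu : LinearIndependent K ![x, y] := li_pair hx hy
  by_cases h4 : finrank K V = 4
  · exact prdScalar_four_plane h4 hdA hs (c := Units.mk0 c hc0) hu hAx hAy
  · exact prdScalar_plane hF (by omega) hdA hs (c := Units.mk0 c hc0) hu hAx hAy

end Cfsg.Agent.Classical.CovPSL
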