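import Cfsg.Agent.Lib.Classical.CovPSL.Choice

set_option autoImplicit false

/-! The choice of the moving factor in dimension three. -/

namespace Cfsg.Agent.Classical.CovPSL

open Module RegUnipProduct

universe u v

variable {K : Type u} [Field K] {V : Type v} [AddCommGroup V] [Module K V] [FiniteDimensional K V]

theorem finrank_span_pair_le (a b : V) : finrank K (Submodule.span K {z | z ∈ [a, b]}) ≤ 2 := by
  classical
  have e' : {z | z ∈ [a, b]} = (({a, b} : Finset V) : Set V) := by ext z; simp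
  rw [e']
  exact (finrank_span_finset_le_card _).trans Finset.card_le_two

theorem mem_span_pair_iff {a b x : V} :
    x ∈ Submodule.span K {z | z ∈ [a, b]} ↔ ∃ p q : K, p • a + q • b = x := by
  rw [show {z | z ∈ [a, b]} = ({a, b} : Set V) by ext z; simp, Submodule.mem_span_pair]

theorem range_pair (a b : V) : Set.range ![a, b] = {z | z ∈ [a, b]} := by
  ext z
  constructor
  · rintro ⟨i, rfl⟩; fin_cases i <;> simp
  · intro h
    simp only [List.mem_cons, List.not_mem_nil, or_false, Set.mem_setOf_eq] at h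
    rcases h with rfl | rfl
    · exact ⟨0, rfl⟩
    · exact ⟨1, rfl⟩

theorem range_triple (a b d : V) : Set.range ![a, b, d] = {z | z ∈ [a, b, d]} := by
  ext z
  constructor
  · rintro ⟨i, rfl⟩; fin_cases i <;> simp
  · intro h
    simp only [List.mem_cons, List.not_mem_nil, or_false, Set.mem_setOf_eq] at h
    rcases h with rfl | rfl | rfl
    · exact ⟨0, rfl⟩
    · exact ⟨1, rfl⟩
    · exact ⟨2, rfl⟩

/-- In dimension three, an operator is cyclic unless it is a scalar plus rank one. -/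
theorem exists_cyclic (h3 : finrank K V = 3) (hK : Big K) {A : V ≃ₗ[K] V} (hA : ∀ μ : K, ¬ R1 A μ) :
    ∃ w, (∀ κ : K, A w ≠ κ • w) ∧ A (A w) ∉ Submodule.span K {z | z ∈ [w, A w]} := by
  have hNS : NS (K := K) A := fun κ => by
    by_contra hno
    push Not at hno
    exact hA κ ⟨0, 0, fun x => by simp [hno x]⟩
  obtain ⟨w, hw⟩ := NS.exists_noneigen (f := (A : V →ₗ[K] V)) hNS
  simp only [LinearEquiv.coe_coe] at hw
  by_contra hcyc
  push Not at hcyc
  have hinv : ∀ y, (∀ κ : K, A y ≠ κ • y) → ∀ x ∈ Submodule.span K {z | z ∈ [y, A y]},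
      A x ∈ Submodule.span K {z | z ∈ [y, A y]} := fun y hy x hx =>
    mem_pair (S := (Submodule.span K {z | z ∈ [y, A y]}).comap (A : V →ₗ[K] V))
      (mem_of_mem_list (by simp)) (hcyc y hy) hx
  set W₀ := Submodule.span K {z | z ∈ [w, A w]} with hW₀
  obtain ⟨y, hy, hyW⟩ : ∃ y, (∀ κ : K, A y ≠ κ • y) ∧ y ∉ W₀ := by
    by_contra hno
    push Not at hno
    obtain ⟨z, hz⟩ := exists_notMem_span (K := K) [w, A w] (by simp; omega)
    obtain ⟨μ, hμ⟩ : ∃ μ : K, A z = μ • z := by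
      by_contra h; push Not at h; exact hz (hno z h)
    refine hw μ ?_
    have hzw : z + w ∉ W₀ := fun h => hz (by
      have := sub_mem h (mem_of_mem_list (K := K) (l := [w, A w]) (x := w) (by simp))
      rwa [add_sub_cancel_right] at this)
    obtain ⟨μ', hμ'⟩ : ∃ μ' : K, A (z + w) = μ' • (z + w) := by
      by_contra h; push Not at h; exact hzw (hno _ h)
    rw [map_add, hμ] at hμ'
    have e : (μ' - μ) • z = A w - μ' • w := by
      linear_combination (norm := module) -(1 : K) • hμ'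
    by_cases h0 : μ' = μ
    · subst h0
      rw [sub_self, zero_smul, eq_comm, sub_eq_zero] at e
      exact e
    · exact absurd ((Submodule.smul_mem_iff _ (sub_ne_zero.2 h0)).1 (by
        rw [e]; exact sub_mem (mem_of_mem_list (by simp)) (Submodule.smul_mem _ _ (mem_of_mem_list (by simp))))) hz
  set P := Submodule.span K {z | z ∈ [y, A y]} with hP
  have li2 : ∀ s, (∀ κ : K, A s ≠ κ • s) → finrank K (Submodule.span K {z | z ∈ [s, A s]}) = 2 := fun s hs => by
    have h := finrank_span_eq_card (R := K) (li_pair (notMem_span_of_noneigen (f := (A : V →ₗ[K] V)) hs).1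
      (notMem_span_of_noneigen (f := (A : V →ₗ[K] V)) hs).2)
    rw [range_pair] at h
    simpa using h
  have hWP : W₀ ⊓ P ≠ ⊥ := fun h => by
    have := Submodule.finrank_sup_add_finrank_inf_eq W₀ P
    rw [h, finrank_bot, li2 w hw, li2 y hy] at this
    have := (Submodule.finrank_le (W₀ ⊔ P))
    omega
  obtain ⟨u, hu, hu0⟩ := Submodule.exists_mem_ne_zero_of_ne_bot hWP
  obtain ⟨c, hc⟩ : ∃ c : K, A u = c • u := by
    by_contra hno
    push Not at hno
    have h2 := li2 u hno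
    have hle : ∀ S : Submodule K V, u ∈ S → A u ∈ S → Submodule.span K {z | z ∈ [u, A u]} ≤ S := fun S a b =>
      fun x hx => mem_pair a b hx
    have e1 := Submodule.eq_of_le_of_finrank_le (hle W₀ hu.1 (hinv w hw u hu.1)) (by rw [h2, li2 w hw])
    have e2 := Submodule.eq_of_le_of_finrank_le (hle P hu.2 (hinv y hy u hu.2)) (by rw [h2, li2 y hy])
    exact hyW (e1 ▸ e2.symm ▸ mem_of_mem_list (by simp))
  -- coordinates in the two planes
  have coord : ∀ s, (∀ κ : K, A s ≠ κ • s) → u ∈ Submodule.span K {z | z ∈ [s, A s]} →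
      ∃ a b : K, A s = a • s + b • u := fun s hs hus => by
    obtain ⟨p, q, hpq⟩ := mem_span_pair_iff.1 hus
    have hq : q ≠ 0 := fun h => by
      rw [h, zero_smul, add_zero] at hpq
      have hp : p ≠ 0 := fun h' => hu0 (by rw [← hpq, h', zero_smul])
      refine hs c ?_
      rw [← hpq, map_smul, smul_comm] at hc
      exact smul_right_injective V hp hc
    refine ⟨-(q⁻¹ * p), q⁻¹, ?_⟩
    rw [← hpq, smul_add, smul_smul, smul_smul, inv_mul_cancel₀ hq, one_smul, neg_smul, ← add_assoc,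
      neg_add_cancel, zero_add]
  obtain ⟨c2, α, hAw⟩ := coord w hw hu.1
  obtain ⟨μ, β, hAy⟩ := coord y hy hu.2
  have huw : ∀ a b d : K, a • u + b • w + d • y = 0 → a = 0 ∧ b = 0 ∧ d = 0 := by
    intro a b d h
    have hd : d = 0 := by
      by_contra hd
      refine hyW ((Submodule.smul_mem_iff _ hd).1 ?_)
      rw [show d • y = -(a • u + b • w) by rw [← add_eq_zero_iff_neg_eq.1 h]]
      exact neg_mem (add_mem (Submodule.smul_mem _ _ hu.1) (Submodule.smul_mem _ _ (mem_of_mem_list (by simp))))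
    rw [hd, zero_smul, add_zero] at h
    have hb : b = 0 := by
      by_contra hb
      refine hw c ?_
      have e : w = (-(b⁻¹ * a)) • u := by
        have := congrArg (b⁻¹ • ·) h
        simp only [smul_add, smul_smul, inv_mul_cancel₀ hb, one_smul, smul_zero] at this
        rw [neg_smul, eq_neg_iff_add_eq_zero, add_comm]; exact this
      rw [e, map_smul, hc, smul_comm]
    rw [hb, zero_smul, add_zero, smul_eq_zero] at h
    exact ⟨h.resolve_right hu0, hb, hd⟩
  by_cases hμ : μ = c2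
  · subst hμ
    refine hA μ (R1.of_line (f := (A : V →ₗ[K] V)) u fun x => ?_)
    have hspan : (⊤ : Submodule K V) ≤ Submodule.span K {z | z ∈ [u, w, y]} := by
      have hli : LinearIndependent K ![u, w, y] := Fintype.linearIndependent_iff.2 fun g hg => by
        rw [Fin.sum_univ_three] at hg
        obtain ⟨h1, h2, h3⟩ := huw _ _ _ (by simpa using hg)
        intro i; fin_cases i <;> assumption
      have e := range_triple u w y
      have := (hli.span_eq_top_of_card_eq_finrank (by simp [h3]))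
      rw [← e, this]
    have hx : x ∈ (K ∙ u).comap ((A : V →ₗ[K] V) - μ • LinearMap.id) := by
      refine Submodule.span_le.2 ?_ (hspan (Submodule.mem_top : x ∈ ⊤))
      intro z hz
      simp only [List.mem_cons, List.not_mem_nil, or_false, Set.mem_setOf_eq] at hz
      rw [SetLike.mem_coe, Submodule.mem_comap, LinearMap.sub_apply, LinearMap.smul_apply, LinearMap.id_apply,
        LinearEquiv.coe_coe]
      rcases hz with rfl | rfl | rfl
      · rw [hc, ← sub_smul]; exact Submodule.smul_mem _ _ (Submodule.mem_span_singleton_self _)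
      · rw [hAw, add_sub_cancel_left]; exact Submodule.smul_mem _ _ (Submodule.mem_span_singleton_self _)
      · rw [hAy, add_sub_cancel_left]; exact Submodule.smul_mem _ _ (Submodule.mem_span_singleton_self _)
    exact hx
  have key : ∀ t : K, t ≠ 0 → α * (μ - c) + t * β * (c2 - c) = 0 := by
    intro t ht
    have hAs : A (w + t • y) = (α + t * β) • u + c2 • w + (t * μ) • y := by
      rw [map_add, map_smul, hAw, hAy]; module
    have hs : ∀ κ : K, A (w + t • y) ≠ κ • (w + t • y) := fun κ h => by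
      rw [hAs] at h
      obtain ⟨-, h2, h3⟩ := huw (α + t * β) (c2 - κ) (t * μ - κ * t) (by
        linear_combination (norm := module) (1 : K) • h)
      exact hμ (mul_left_cancel₀ ht (by linear_combination h3 - t * h2))
    obtain ⟨p, q, hpq⟩ := mem_span_pair_iff.1 (hcyc _ hs)
    rw [hAs] at hpq
    simp only [map_add, map_smul, hc, hAw, hAy] at hpq
    obtain ⟨h1, h2, h3⟩ := huw (q * (α + t * β) - ((α + t * β) * c + c2 * α + t * μ * β))
      (p + q * c2 - c2 * c2) (p * t + q * (t * μ) - t * μ * μ) (by linear_combination (norm := module) (1 : K) • hpq)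
    have hq : q = μ + c2 := by
      have h4 : t * (μ - c2) * (q - (μ + c2)) = 0 := by linear_combination h3 - t * h2
      rcases mul_eq_zero.1 h4 with h5 | h5
      · rcases mul_eq_zero.1 h5 with h6 | h6
        · exact absurd h6 ht
        · exact absurd (sub_eq_zero.1 h6) hμ
      · exact sub_eq_zero.1 h5
    rw [hq] at h1
    linear_combination h1
  obtain ⟨f, hf0, hf1⟩ : ∃ f : K, f ≠ 0 ∧ f ≠ 1 := by
    classical
    obtain ⟨F, hF⟩ := hK
    by_contra hno
    push Not at hno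
    have := Finset.card_le_card_of_injOn (s := (Finset.univ : Finset (Fin 4))) (t := ({0, 1} : Finset K)) F
      (fun i _ => by
        by_cases h : F i = 0
        · simp [h]
        · simp [hno _ h]) hF.injOn
    rw [Finset.card_univ, Fintype.card_fin] at this
    have := Finset.card_le_two (a := (0 : K)) (b := 1)
    omega
  have k1 := key 1 one_ne_zero
  have k2 := key f hf0
  have hβ : (f - 1) * β * (c2 - c) = 0 := by linear_combination k2 - k1
  rcases mul_eq_zero.1 hβ with h | h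
  · rcases mul_eq_zero.1 h with h | h
    · exact hf1 (sub_eq_zero.1 h)
    · exact hy μ (by rw [hAy, h, zero_smul, add_zero])
  · have hc2 : c2 = c := sub_eq_zero.1 h
    rw [h, mul_zero, add_zero] at k1
    rcases mul_eq_zero.1 k1 with h' | h'
    · exact hw c2 (by rw [hAw, h', zero_smul, add_zero])
    · exact hμ (by rw [sub_eq_zero.1 h', hc2])

/-- A determinant-one automorphism carrying a basis to a basis, up to the scale of the last vector. -/
theorem exists_map_three (h3 : finrank K V = 3) {a b d v e z : V} (ha : LinearIndependent K ![a, b, d])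
    (hv : LinearIndependent K ![v, e, z]) :
    ∃ (M : V ≃ₗ[K] V) (k : K), k ≠ 0 ∧ LinearEquiv.det M = 1 ∧ M a = v ∧ M b = e ∧ M d = k • z := by
  let B₁ := basisOfLinearIndependentOfCardEqFinrank ha (by simp [h3])
  let B₂ := basisOfLinearIndependentOfCardEqFinrank hv (by simp [h3])
  let M₀ := B₁.equiv B₂ (Equiv.refl _)
  have hM : ∀ i, M₀ (![a, b, d] i) = ![v, e, z] i := fun i => by
    have := Basis.equiv_apply B₁ i B₂ (Equiv.refl _)
    simpa [B₁, B₂, M₀, coe_basisOfLinearIndependentOfCardEqFinrank] using this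
  have hzU : z ∉ Submodule.span K {x | x ∈ [v, e]} := fun h => by
    obtain ⟨p, q, hpq⟩ := mem_span_pair_iff.1 h
    have := Fintype.linearIndependent_iff.1 hv ![p, q, -1] (by simp [Fin.sum_univ_three, hpq]) 2
    simp at this
  obtain ⟨φ, hφz, hφ⟩ := Submodule.exists_dual_map_eq_bot_of_notMem hzU inferInstance
  set k : K := (((LinearEquiv.det M₀)⁻¹ : Kˣ) : K) with hk
  have hval : (((k - 1) * (φ z)⁻¹) • φ) z = k - 1 := by
    rw [LinearMap.smul_apply, smul_eq_mul, mul_assoc, inv_mul_cancel₀ hφz, mul_one]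
  have hne : 1 + (((k - 1) * (φ z)⁻¹) • φ) z ≠ 0 := by
    rw [hval, add_sub_cancel]; exact Units.ne_zero _
  have h0 : ∀ x ∈ [v, e], φ x = 0 := fun x hx => by
    have : φ x ∈ (Submodule.span K {x | x ∈ [v, e]}).map φ := Submodule.mem_map_of_mem (mem_of_mem_list hx)
    rwa [hφ, Submodule.mem_bot] at this
  refine ⟨pRefl z (((k - 1) * (φ z)⁻¹) • φ) hne * M₀, k, Units.ne_zero _, ?_, ?_, ?_, ?_⟩
  · rw [map_mul]
    have : LinearEquiv.det (pRefl z (((k - 1) * (φ z)⁻¹) • φ) hne) = (LinearEquiv.det M₀)⁻¹ :=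
      Units.ext (by rw [det_pRefl, hval, add_sub_cancel])
    rw [this, inv_mul_cancel]
  · have := hM 0
    simp at this
    rw [mul_apply', this, pRefl_apply, LinearMap.smul_apply, h0 v (by simp), smul_zero, zero_smul, add_zero]
  · have := hM 1
    simp at this
    rw [mul_apply', this, pRefl_apply, LinearMap.smul_apply, h0 e (by simp), smul_zero, zero_smul, add_zero]
  · have := hM 2
    simp at this
    rw [mul_apply', this, pRefl_apply, hval, sub_smul, one_smul, add_sub_cancel]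

/-- The trace of the translate can be prescribed. -/
theorem exists_trace {A g X : V ≃ₗ[K] V} (hX : X ∈ Cl A) {e v : V} {ν : K} (hgv : g v = ν • e)
    (hXv : X v = e) (hout : X⁻¹ (g e) ∉ Submodule.span K {z | z ∈ [v, e]}) (b : K) :
    ∃ X' ∈ Cl A, X' v = e ∧ LinearMap.trace K V (g * X'⁻¹ : V ≃ₗ[K] V).toLinearMap = b := by
  obtain ⟨ψ, hψz, hψ⟩ := Submodule.exists_dual_map_eq_bot_of_notMem hout inferInstance
  have h0 : ∀ x ∈ [v, e], ψ x = 0 := fun x hx => by
    have : ψ x ∈ (Submodule.span K {x | x ∈ [v, e]}).map ψ := Submodule.mem_map_of_mem (mem_of_mem_list hx)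
    rwa [hψ, Submodule.mem_bot] at this
  set χ : V →ₗ[K] K := ((b - LinearMap.trace K V (g * X⁻¹ : V ≃ₗ[K] V).toLinearMap) * (ψ (X⁻¹ (g e)))⁻¹) • ψ
  have hχ : ∀ x ∈ [v, e], χ x = 0 := fun x hx => by simp [χ, h0 x hx]
  have hXe : X⁻¹ e = v := inv_apply_eq _ hXv
  obtain ⟨X', h1, h2, h3⟩ := exists_variant hX hXv e χ (hχ e (by simp)) (hχ e (by simp)) (hχ v (by simp))
  refine ⟨X', h1, h2, ?_⟩
  have e1 : (g * X'⁻¹ : V ≃ₗ[K] V).toLinearMap = (g * X⁻¹ : V ≃ₗ[K] V).toLinearMap +
      ((χ.comp (X⁻¹ : V ≃ₗ[K] V).toLinearMap).smulRight (g e) - χ.smulRight (ν • e)) := LinearMap.ext fun x => by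
    simp [mul_apply', h3, hXe, hχ v (by simp), hgv]
    module
  rw [e1, map_add, map_sub, LinearMap.trace_smulRight, LinearMap.trace_smulRight]
  simp only [LinearMap.comp_apply, LinearEquiv.coe_coe, map_smul, hχ e (by simp), smul_zero, sub_zero]
  simp only [χ, LinearMap.smul_apply, smul_eq_mul]
  rw [mul_assoc, inv_mul_cancel₀ hψz, mul_one, add_sub_cancel]

/-- Not scalar modulo the line of `e`. -/
theorem exists_nsMod (h3 : 3 ≤ finrank K V) {A g X : V ≃ₗ[K] V} (hX : X ∈ Cl A) {e v : V} {ν : K}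
    (hge : g e ∉ K ∙ e) (hgv : g v = ν • e) (hXv : X v = e) :
    ∃ X' ∈ Cl A, X' v = e ∧ ∀ κ : K, ∃ x, g (X'⁻¹ x) - κ • x ∉ K ∙ e := by
  by_cases hsc : ∃ κ : K, ∀ x, g (X⁻¹ x) - κ • x ∈ K ∙ e
  swap
  · push Not at hsc
    exact ⟨X, hX, hXv, hsc⟩
  obtain ⟨κ, hκ⟩ := hsc
  obtain ⟨ψ, he, hv, hψ⟩ := exists_ann_ne (K := K) e v h3
  obtain ⟨x₀, hx₀⟩ : ∃ x, ψ (X⁻¹ x) ≠ 0 := by
    by_contra hno
    push Not at hno
    exact hψ (LinearMap.ext fun x => by simpa [inv_apply'] using hno (X x))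
  obtain ⟨X', h1, h2, h3'⟩ := exists_variant hX hXv e ψ he he hv
  have hXe : X⁻¹ e = v := inv_apply_eq _ hXv
  have hd : ∀ x, g (X'⁻¹ x) - κ • x - ψ (X⁻¹ x) • g e ∈ K ∙ e := fun x => by
    rw [h3', hXe, hv, mul_zero, sub_zero, map_add, map_sub, map_smul, map_smul, hgv, smul_smul,
      show g (X⁻¹ x) - (ψ x * ν) • e + ψ (X⁻¹ x) • g e - κ • x - ψ (X⁻¹ x) • g e =
        (g (X⁻¹ x) - κ • x) - (ψ x * ν) • e by abel]
    exact sub_mem (hκ x) (Submodule.smul_mem _ _ (Submodule.mem_span_singleton_self e))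
  refine ⟨X', h1, h2, fun κ' => ?_⟩
  by_contra hno
  push Not at hno
  by_cases hk : κ' = κ
  · refine hge ((Submodule.smul_mem_iff _ hx₀).1 ?_)
    have := sub_mem (hno x₀) (hd x₀)
    rw [hk] at this
    simpa using this
  · obtain ⟨x, hx⟩ := exists_notMem_span (K := K) [e, g e] (by simp; omega)
    refine hx ((Submodule.smul_mem_iff _ (sub_ne_zero.2 hk)).1 ?_)
    rw [show (κ' - κ) • x = (g (X'⁻¹ x) - κ • x - ψ (X⁻¹ x) • g e) - (g (X'⁻¹ x) - κ' • x) +
      ψ (X⁻¹ x) • g e by module]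
    exact add_mem (span_line_le (by simp) (sub_mem (hd x) (hno x)))
      (Submodule.smul_mem _ _ (mem_of_mem_list (by simp)))

/-- The choice in dimension three. -/
theorem exists_choice_three (hK : Big K) (h3 : finrank K V = 3) {A g : V ≃ₗ[K] V} (hg : NS (K := K) g) {c : K}
    (hc0 : c ≠ 0) (hA : NS (K := K) A) (hμ : ∀ μ, R1 A μ → c = μ)
    (hex : R1 A c → ((LinearEquiv.det A : Kˣ) : K) = c ^ 3 → ¬ R1 g (c ^ 3)) (b₁ b₂ : K) :
    ∃ e v : V, g e ∉ K ∙ e ∧ g v = c ^ 2 • e ∧ ∃ X ∈ Cl A, X v = e ∧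
      ((LinearMap.trace K V (g * X⁻¹ : V ≃ₗ[K] V).toLinearMap ≠ b₁ ∧
          LinearMap.trace K V (g * X⁻¹ : V ≃ₗ[K] V).toLinearMap ≠ b₂) ∨
        ((∀ κ : K, ∃ x, g (X⁻¹ x) - κ • x ∉ K ∙ e) ∧ R1 A c ∧ (((LinearEquiv.det A : Kˣ) : K) ≠ c ^ 3 ∨
          ∃ (ρ : K) (w : V), ρ ≠ c ^ 2 ∧ w ∉ K ∙ e ∧ g (X⁻¹ w) = ρ • w))) := by
  obtain ⟨b, hb1, hb2⟩ : ∃ b : K, b ≠ b₁ ∧ b ≠ b₂ := by
    classical
    obtain ⟨F, hF⟩ := hK
    by_contra hno
    push Not at hno
    have := Finset.card_le_card_of_injOn (s := (Finset.univ : Finset (Fin 4))) (t := ({b₁, b₂} : Finset K)) F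
      (fun i _ => by
        by_cases h : F i = b₁
        · simp [h]
        · simp [hno _ h]) hF.injOn
    rw [Finset.card_univ, Fintype.card_fin] at this
    have := Finset.card_le_two (a := b₁) (b := b₂)
    omega
  have slope : ∀ {e v : V} {X : V ≃ₗ[K] V}, g e ∉ K ∙ e → g v = c ^ 2 • e → X ∈ Cl A → X v = e →
      X⁻¹ (g e) ∉ Submodule.span K {z | z ∈ [v, e]} →
      ∃ e v : V, g e ∉ K ∙ e ∧ g v = c ^ 2 • e ∧ ∃ X ∈ Cl A, X v = e ∧
      ((LinearMap.trace K V (g * X⁻¹ : V ≃ₗ[K] V).toLinearMap ≠ b₁ ∧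
          LinearMap.trace K V (g * X⁻¹ : V ≃ₗ[K] V).toLinearMap ≠ b₂) ∨
        ((∀ κ : K, ∃ x, g (X⁻¹ x) - κ • x ∉ K ∙ e) ∧ R1 A c ∧ (((LinearEquiv.det A : Kˣ) : K) ≠ c ^ 3 ∨
          ∃ (ρ : K) (w : V), ρ ≠ c ^ 2 ∧ w ∉ K ∙ e ∧ g (X⁻¹ w) = ρ • w))) := by
    intro e v X hge hgv hX hXv hout
    obtain ⟨X', h1, h2, h⟩ := exists_trace hX hgv hXv hout b
    exact ⟨e, v, hge, hgv, X', h1, h2, Or.inl (by rw [h]; exact ⟨hb1, hb2⟩)⟩
  have base : ∀ e : V, (∀ κ : K, g e ≠ κ • e) → g e ∉ K ∙ e ∧ g (c ^ 2 • g⁻¹ e) = c ^ 2 • e ∧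
      c ^ 2 • g⁻¹ e ≠ 0 ∧ e ∉ K ∙ (c ^ 2 • g⁻¹ e) := fun e he => by
    obtain ⟨he0, hge⟩ := notMem_span_of_noneigen (f := (g : V →ₗ[K] V)) he
    have hgv : g (c ^ 2 • g⁻¹ e) = c ^ 2 • e := by rw [map_smul, apply_inv]
    refine ⟨hge, hgv, fun h => he0 ?_, fun h => ?_⟩
    · rw [h, map_zero, eq_comm, smul_eq_zero] at hgv
      exact hgv.resolve_left (pow_ne_zero _ hc0)
    · obtain ⟨t, ht⟩ := Submodule.mem_span_singleton.1 h
      exact he (t * c ^ 2) (by conv_lhs => rw [← ht]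
                               rw [map_smul, hgv, smul_smul])
  by_cases hAc : R1 A c
  swap
  · -- cyclic case
    have hA' : ∀ μ : K, ¬ R1 A μ := fun μ h => hAc (hμ μ h ▸ h)
    obtain ⟨e, he⟩ := NS.exists_noneigen (f := (g : V →ₗ[K] V)) hg
    obtain ⟨hge, hgv, hv0, hev⟩ := base e he
    set v := c ^ 2 • g⁻¹ e
    obtain ⟨w, hw, hw2⟩ := exists_cyclic h3 hK hA'
    have li3 : ∀ p q r : V, p ≠ 0 → q ∉ K ∙ p → r ∉ Submodule.span K {z | z ∈ [p, q]} →
        LinearIndependent K ![p, q, r] := fun p q r hp hq hr => Fintype.linearIndependent_iff.2 fun f hf => by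
      rw [Fin.sum_univ_three] at hf
      simp at hf
      have h2 : f 2 = 0 := by
        by_contra h2
        refine hr ((Submodule.smul_mem_iff _ h2).1 ?_)
        rw [show f 2 • r = -(f 0 • p + f 1 • q) by rw [← add_eq_zero_iff_neg_eq.1 hf]]
        exact neg_mem (add_mem (Submodule.smul_mem _ _ (mem_of_mem_list (by simp)))
          (Submodule.smul_mem _ _ (mem_of_mem_list (by simp))))
      rw [h2, zero_smul, add_zero] at hf
      have := Fintype.linearIndependent_iff.1 (li_pair hp hq) ![f 0, f 1] (by simpa [Fin.sum_univ_two] using hf)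
      intro i
      fin_cases i
      · simpa using this 0
      · simpa using this 1
      · exact h2
    obtain ⟨hw0, hw1⟩ := notMem_span_of_noneigen (f := (A : V →ₗ[K] V)) hw
    obtain ⟨z, hzU, hzg⟩ : ∃ z, z ∉ Submodule.span K {x | x ∈ [v, e]} ∧
        g e ∉ Submodule.span K {x | x ∈ [e, z]} := by
      by_cases hgU : g e ∈ Submodule.span K {x | x ∈ [v, e]}
      · obtain ⟨z, hz⟩ := exists_notMem_span (K := K) [v, e] (by simp; omega)
        refine ⟨z, hz, fun h => ?_⟩
        obtain ⟨p, q, hpq⟩ := mem_span_pair_iff.1 h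
        by_cases hq : q = 0
        · exact hge (Submodule.mem_span_singleton.2 ⟨p, by simpa [hq] using hpq⟩)
        · refine hz ((Submodule.smul_mem_iff _ hq).1 ?_)
          rw [show q • z = g e - p • e by rw [← hpq]; abel]
          exact sub_mem hgU (Submodule.smul_mem _ _ (mem_of_mem_list (by simp)))
      · refine ⟨g e + v, fun h => hgU ?_, fun h => ?_⟩
        · simpa using sub_mem h (mem_of_mem_list (K := K) (l := [v, e]) (x := v) (by simp))
        · obtain ⟨p, q, hpq⟩ := mem_span_pair_iff.1 h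
          by_cases hq : q = 1
          · subst hq
            refine hev ?_
            have hp : p ≠ 0 := fun hp => hv0 (by simpa [hp] using hpq)
            refine Submodule.mem_span_singleton.2 ⟨-p⁻¹, ?_⟩
            have e1 : v = -(p • e) := by linear_combination (norm := module) (1 : K) • hpq
            rw [e1, smul_neg, neg_smul, neg_neg, smul_smul, inv_mul_cancel₀ hp, one_smul]
          · refine hgU ((Submodule.smul_mem_iff _ (sub_ne_zero.2 (Ne.symm hq))).1 ?_)
            rw [show (1 - q) • g e = p • e + q • v by linear_combination (norm := module) -(1 : K) • hpq]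
            exact add_mem (Submodule.smul_mem _ _ (mem_of_mem_list (by simp)))
              (Submodule.smul_mem _ _ (mem_of_mem_list (by simp)))
    obtain ⟨M, k, hk, hM, h0, h1, h2⟩ :=
      exists_map_three h3 (li3 w (A w) (A (A w)) hw0 hw1 hw2) (li3 v e z hv0 hev hzU)
    set X := M * A * M⁻¹ with hX
    have hXv : X v = e := by rw [hX, mul_apply', mul_apply', inv_apply_eq M h0, h1]
    have hXe : X e = k • z := by rw [hX, mul_apply', mul_apply', inv_apply_eq M h1, h2]
    refine slope hge hgv ⟨M, fun _ => hM, hX⟩ hXv fun h => hzg ?_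
    have h' : X (X⁻¹ (g e)) ∈ Submodule.span K {x | x ∈ [e, z]} :=
      mem_pair (S := (Submodule.span K {x | x ∈ [e, z]}).comap (X : V →ₗ[K] V))
        (by simpa [hXv] using mem_of_mem_list (K := K) (l := [e, z]) (x := e) (by simp))
        (by simpa [hXe] using Submodule.smul_mem _ k (mem_of_mem_list (K := K) (l := [e, z]) (x := z) (by simp))) h
    rwa [apply_inv] at h'
  obtain ⟨a, φ, ha⟩ := id hAc
  obtain ⟨w, hw⟩ := NS.exists_noneigen (f := (A : V →ₗ[K] V)) hA
  -- the shape of the inverse of a conjugate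
  have shape : ∀ M : V ≃ₗ[K] V, ∀ x, c • (M * A * M⁻¹)⁻¹ x = x - φ (M⁻¹ ((M * A * M⁻¹)⁻¹ x)) • M a := fun M x => by
    have : (M * A * M⁻¹) ((M * A * M⁻¹)⁻¹ x) = x := apply_inv _ _
    rw [eq_sub_iff_add_eq]
    conv_rhs => rw [← this]
    rw [mul_apply', mul_apply', ha, map_add, map_smul, map_smul, apply_inv]
  by_cases hdet : ((LinearEquiv.det A : Kˣ) : K) = c ^ 3
  swap
  · obtain ⟨e, he⟩ := NS.exists_noneigen (f := (g : V →ₗ[K] V)) hg
    obtain ⟨hge, hgv, hv0, hev⟩ := base e he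
    obtain ⟨M, hM, -, -, hXv⟩ := exists_mapping (by omega) hw hv0 hev
    obtain ⟨X', h1, h2, h4⟩ := exists_nsMod (by omega) ⟨M, fun _ => hM, rfl⟩ hge hgv hXv
    exact ⟨e, _, hge, hgv, X', h1, h2, Or.inr ⟨h4, hAc, Or.inl hdet⟩⟩
  by_cases hgc : ∀ r : K, ¬ R1 g r
  · obtain ⟨w₂, hw₂, hcyc⟩ := exists_cyclic h3 hK hgc
    have he : ∀ κ : K, g (g w₂) ≠ κ • g w₂ := fun κ h =>
      hw₂ κ (g.injective (by rw [map_smul]; exact h))
    obtain ⟨hge, hgv, hv0, hev⟩ := base (g w₂) he
    obtain ⟨M, hM, hMw, hMAw, hXv⟩ := exists_mapping (by omega) hw hv0 hev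
    refine slope hge hgv ⟨M, fun _ => hM, rfl⟩ hXv fun h => hcyc ?_
    set v := c ^ 2 • g⁻¹ (g w₂) with hv
    have hMa : M a ∈ Submodule.span K {z | z ∈ [v, g w₂]} := by
      have h1 : g w₂ = c • v + φ w • M a := by
        rw [← hMAw, ha, map_add, map_smul, map_smul, hMw]
      have : φ w ≠ 0 := fun h => hev (Submodule.mem_span_singleton.2 ⟨c, by rw [h1, h, zero_smul, add_zero]⟩)
      refine (Submodule.smul_mem_iff _ this).1 ?_
      rw [show φ w • M a = g w₂ - c • v by rw [h1]; abel]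
      exact sub_mem (mem_of_mem_list (by simp)) (Submodule.smul_mem _ _ (mem_of_mem_list (by simp)))
    have h1 : g (g w₂) ∈ Submodule.span K {z | z ∈ [v, g w₂]} := by
      rw [show g (g w₂) = c • (M * A * M⁻¹)⁻¹ (g (g w₂)) +
        φ (M⁻¹ ((M * A * M⁻¹)⁻¹ (g (g w₂)))) • M a by rw [shape M, sub_add_cancel]]
      exact add_mem (Submodule.smul_mem _ _ h) (Submodule.smul_mem _ _ hMa)
    refine mem_pair ?_ (mem_of_mem_list (by simp)) h1
    rw [hv, inv_apply']
    exact Submodule.smul_mem _ _ (mem_of_mem_list (by simp))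
  push Not at hgc
  obtain ⟨r, b', χ, hr⟩ := hgc
  obtain ⟨e, he⟩ := NS.exists_noneigen (f := (g : V →ₗ[K] V)) hg
  obtain ⟨hge, hgv, hv0, hev⟩ := base e he
  obtain ⟨M₀, hM₀, -, -, hXv₀⟩ := exists_mapping (by omega) hw hv0 hev
  obtain ⟨X', ⟨M, hM, hXM⟩, h2, h4⟩ := exists_nsMod (by omega) ⟨M₀, fun _ => hM₀, rfl⟩ hge hgv hXv₀
  refine ⟨e, _, hge, hgv, X', ⟨M, hM, hXM⟩, h2, Or.inr ⟨h4, hAc, Or.inr ?_⟩⟩
  have hx : ∀ x, c • g (X'⁻¹ x) = r • x + χ x • b' - φ (M⁻¹ (X'⁻¹ x)) • g (M a) := fun x => by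
    rw [hXM, ← map_smul, shape M, map_sub, map_smul, hr]
  let Φ : V →ₗ[K] K × K := χ.prod (φ.comp ((M⁻¹ * X'⁻¹ : V ≃ₗ[K] V) : V →ₗ[K] V))
  obtain ⟨w', hw', hw'0⟩ := Submodule.exists_mem_ne_zero_of_ne_bot (p := LinearMap.ker Φ) (fun h => by
    have := LinearMap.finrank_range_add_finrank_ker Φ
    rw [h, finrank_bot] at this
    have := Submodule.finrank_le (LinearMap.range Φ)
    simp only [finrank_prod, finrank_self] at this
    omega)
  simp only [Φ, LinearMap.mem_ker, LinearMap.prod_apply, Function.prod_apply, Prod.mk_eq_zero, LinearMap.comp_apply,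
    LinearEquiv.coe_coe, mul_apply'] at hw'
  have h5 : g (X'⁻¹ w') = (r / c) • w' := by
    have := hx w'
    rw [hw'.1, hw'.2, zero_smul, zero_smul, add_zero, sub_zero] at this
    rw [div_eq_inv_mul, mul_smul, ← this, smul_smul, inv_mul_cancel₀ hc0, one_smul]
  have hrc : r / c ≠ c ^ 2 := fun h => hex hAc hdet ⟨b', χ, fun x => by
    rw [hr, show r = c ^ 3 by rw [pow_succ, ← h, div_mul_cancel₀ _ hc0]]⟩
  refine ⟨r / c, w', hrc, fun h => ?_, h5⟩
  obtain ⟨t, ht⟩ := Submodule.mem_span_singleton.1 h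
  have ht0 : t ≠ 0 := fun h0 => hw'0 (by rw [← ht, h0, zero_smul])
  have h6 : g (X'⁻¹ w') = c ^ 2 • w' := by
    rw [← ht, map_smul, inv_apply_eq X' h2, map_smul, hgv, smul_comm]
  rw [h5] at h6
  exact hrc (smul_left_injective K hw'0 h6)

end Cfsg.Agent.Classical.CovPSL
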