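import Cfsg.Agent.Lib.Classical.CovPSL.Upper
import Cfsg.Agent.Lib.Classical.CovPSL.Three
import Cfsg.Agent.Lib.Classical.CovPSL.Two

set_option autoImplicit false

/-! The inductive step at an eigenvector. -/

namespace Cfsg.Agent.Classical.CovPSL

open Module RegUnipProduct

universe u v

variable {K : Type u} [Field K] {V : Type v} [AddCommGroup V] [Module K V] [FiniteDimensional K V]

/-- The exceptional pairs. -/
def Exc (A g : V ≃ₗ[K] V) : Prop :=
  (3 ≤ finrank K V ∧ ∃ μ : K, R1 A μ ∧ R1 g (μ ^ finrank K V)) ∨ (finrank K V = 2 ∧ Bad2 A g)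

theorem Cl_of_conj {A X M : V ≃ₗ[K] V} (hM : 3 ≤ finrank K V → LinearEquiv.det M = 1)
    (hX : X ∈ Cl (M * A * M⁻¹)) : X ∈ Cl A := by
  obtain ⟨N, hN, rfl⟩ := hX
  exact ⟨N * M, fun h => by rw [map_mul, hN h, hM h, mul_one], by group⟩

section Bridge

variable {W : Type v} [AddCommGroup W] [Module K W] {Φ : V ≃ₗ[K] K × W} {e : V} (hΦ : Φ e = (1, 0))

include hΦ in
theorem mem_line_iff (z : V) : z ∈ K ∙ e ↔ (Φ z).2 = 0 := by
  constructor
  · intro h
    obtain ⟨t, rfl⟩ := Submodule.mem_span_singleton.1 h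
    rw [map_smul, hΦ]; simp
  · intro h
    refine Submodule.mem_span_singleton.2 ⟨(Φ z).1, Φ.injective ?_⟩
    rw [map_smul, hΦ]
    exact Prod.ext (by simp) (by simp [h])

theorem snd_conj {f : V ≃ₗ[K] V} {a : Kˣ} {r : W →ₗ[K] K} {B : W ≃ₗ[K] W} (hf : conjHom Φ f = up a r B) (x : V) :
    (Φ (f x)).2 = B (Φ x).2 := by
  rw [← conjHom_apply' Φ f x, hf]; rfl

include hΦ in
theorem ns_of_mod {f : V ≃ₗ[K] V} {a : Kˣ} {r : W →ₗ[K] K} {B : W ≃ₗ[K] W} (hf : conjHom Φ f = up a r B)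
    (h : ∀ κ : K, ∃ x, f x - κ • x ∉ K ∙ e) : NS (K := K) B := fun κ => by
  obtain ⟨x, hx⟩ := h κ
  refine ⟨(Φ x).2, fun hB => hx ((mem_line_iff hΦ _).2 ?_)⟩
  rw [map_sub, map_smul, Prod.snd_sub, snd_conj hf, Prod.smul_snd, hB, sub_self]

include hΦ in
theorem r1mod_of_R1 {f : V ≃ₗ[K] V} {a : Kˣ} {r : W →ₗ[K] K} {B : W ≃ₗ[K] W} (hf : conjHom Φ f = up a r B)
    {τ : K} (h : R1 B τ) : ∃ (p : V) (φ : V →ₗ[K] K), ∀ x, f x - τ • x - φ x • p ∈ K ∙ e := by
  obtain ⟨b, χ, hb⟩ := h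
  refine ⟨Φ.symm (0, b), χ.comp ((LinearMap.snd K K W).comp Φ.toLinearMap), fun x => (mem_line_iff hΦ _).2 ?_⟩
  simp only [LinearMap.comp_apply, LinearEquiv.coe_coe, LinearMap.snd_apply, map_sub, map_smul,
    LinearEquiv.apply_symm_apply, Prod.snd_sub, Prod.smul_snd, snd_conj hf, hb]
  abel

include hΦ in
theorem R1_of_r1mod {f : V ≃ₗ[K] V} {a : Kˣ} {r : W →ₗ[K] K} {B : W ≃ₗ[K] W} (hf : conjHom Φ f = up a r B)
    {τ : K} (h : ∃ (p : V) (φ : V →ₗ[K] K), ∀ x, f x - τ • x - φ x • p ∈ K ∙ e) : R1 B τ := by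
  obtain ⟨p, φ, hp⟩ := h
  refine ⟨(Φ p).2, φ.comp (Φ.symm.toLinearMap.comp (LinearMap.inr K K W)), fun w => ?_⟩
  have h1 := (mem_line_iff hΦ _).1 (hp (Φ.symm (0, w)))
  rw [map_sub, map_sub, Prod.snd_sub, Prod.snd_sub, snd_conj hf] at h1
  simp only [map_smul, Prod.smul_snd, LinearEquiv.apply_symm_apply, sub_sub, sub_eq_zero] at h1
  simpa using h1

include hΦ in
theorem exists_conj_up {f : V ≃ₗ[K] V} [FiniteDimensional K W] {a : Kˣ} (hf : f e = (a : K) • e) :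
    ∃ (r : W →ₗ[K] K) (B : W ≃ₗ[K] W), conjHom Φ f = up a r B :=
  exists_up (by
    rw [← hΦ, conjHom_apply', hf, map_smul, hΦ]
    exact Prod.ext (by simp) (by simp))

end Bridge

theorem tr_conj {W : Type v} [AddCommGroup W] [Module K W] [FiniteDimensional K W] (Φ : V ≃ₗ[K] K × W)
    (f : V ≃ₗ[K] V) {a : Kˣ} {r : W →ₗ[K] K} {B : W ≃ₗ[K] W} (hf : conjHom Φ f = up a r B) :
    tr f = (a : K) + tr B ∧ dt f = (a : K) * dt B := by
  constructor
  · rw [tr, ← LinearMap.trace_conj' (f : V →ₗ[K] V) Φ, ← trace_up a r B, ← hf]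
    rfl
  · rw [dt, dt, ← det_conjHom Φ f, hf, det_up, Units.val_mul]

theorem exc_free_three {W : Type v} [AddCommGroup W] [Module K W] [FiniteDimensional K W] (h2 : finrank K W = 2)
    {A₁ Q : W ≃ₗ[K] W} (hA₁ : NS (K := K) A₁) (hQ : NS (K := K) Q) (hd : dt Q = dt A₁ * dt A₁) {c : K}
    (hc : Eig A₁ c) (h : dt A₁ ≠ c * c ∨ ∃ ρ : K, ρ ≠ dt A₁ ∧ Eig Q ρ) : ¬ Exc A₁ Q := by
  rintro (⟨h3, -⟩ | ⟨-, hns, ht⟩)
  · omega
  rcases ht with ht | ⟨hno, -⟩
  swap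
  · exact hno c hc
  have hr := (eig_iff h2 A₁ hA₁ c).1 hc
  rcases h with h | ⟨ρ, hρ, hρQ⟩
  · have hc0 : c ≠ 0 := fun h0 => by
      obtain ⟨x, hx, hAx⟩ := hc
      exact hx (A₁.injective (by rw [hAx, h0, zero_smul, map_zero]))
    refine hns ⟨c, dt A₁ / c, fun e => h ?_, hc, (eig_iff h2 A₁ hA₁ _).2 ?_⟩
    · exact ((eq_div_iff hc0).1 e).symm
    · field_simp
      linear_combination (dt A₁) * hr
  · have := (eig_iff h2 Q hQ ρ).1 hρQ
    rw [ht, hd] at this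
    exact hρ (sub_eq_zero.1 (mul_self_eq_zero.1 (by linear_combination this : (ρ - dt A₁) * (ρ - dt A₁) = 0)))

/-- The step. -/
theorem step (hK : Big K) {m : ℕ} (hn : finrank K V = m + 1) (hm : 2 ≤ m) {A g : V ≃ₗ[K] V} (hA : NS (K := K) A)
    (hg : NS (K := K) g) (hd : dt g = dt A ^ (m + 1)) {c : K} (hc : Eig A c) (hμ : ∀ μ, R1 A μ → c = μ)
    (hex : ¬ Exc A g)
    (IH : ∀ (W : Type v) [AddCommGroup W] [Module K W] [FiniteDimensional K W], finrank K W = m →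
      ∀ A₁ Q : W ≃ₗ[K] W, NS (K := K) A₁ → NS (K := K) Q → dt Q = dt A₁ ^ m → ¬ Exc A₁ Q →
        Good (Cl A₁) m Q c) :
    Good (Cl A) (m + 1) g c := by
  classical
  have h3 : 3 ≤ finrank K V := by omega
  obtain ⟨u, hu0, hu, hquot⟩ := exists_u h3 hc hA hμ
  have hc0 : c ≠ 0 := fun h => hu0 (A.injective (by rw [hu, h, zero_smul, map_zero]))
  let cU : Kˣ := Units.mk0 c hc0
  let P : K → Prop := fun ν => ∃ (p : V) (φ : V →ₗ[K] K), ∀ x, A x - ν • x - φ x • p ∈ K ∙ u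
  obtain ⟨ν₀, hν₀, hν₀c⟩ : ∃ ν₀ : K, ((∃ ν, P ν) → P ν₀) ∧ (R1 A c → ν₀ = c) := by
    by_cases hR : R1 A c
    · obtain ⟨a, φ, ha⟩ := id hR
      exact ⟨c, fun _ => ⟨a, φ, fun x => by simp [ha]⟩, fun _ => rfl⟩
    · by_cases hP : ∃ ν, P ν
      · obtain ⟨ν, hν⟩ := hP; exact ⟨ν, fun _ => hν, fun h => absurd h hR⟩
      · exact ⟨0, fun h => absurd h hP, fun h => absurd h hR⟩
  -- the moving factor
  have hchoice : ∃ e v : V, g e ∉ K ∙ e ∧ g v = c ^ m • e ∧ ∃ X ∈ Cl A, X v = e ∧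
      ((4 ≤ finrank K V ∧ GoodMod e (ν₀ ^ m) (fun x => g (X⁻¹ x))) ∨ (m = 2 ∧
        ((tr (g * X⁻¹) ≠ c ^ 2 + 2 * (dt A / c) ∧ tr (g * X⁻¹) ≠ c ^ 2 - 2 * (dt A / c)) ∨
          ((∀ κ : K, ∃ x, g (X⁻¹ x) - κ • x ∉ K ∙ e) ∧ R1 A c ∧ (dt A ≠ c ^ 3 ∨
            ∃ (ρ : K) (w : V), ρ ≠ c ^ 2 ∧ w ∉ K ∙ e ∧ g (X⁻¹ w) = ρ • w))))) := by
    rcases Nat.lt_or_ge (finrank K V) 4 with h4 | h4
    · have hm2 : m = 2 := by omega
      subst hm2
      obtain ⟨e, v, h1, h2, X, hX, hXv, hor⟩ := exists_choice_three hK (by omega) hg hc0 hA hμ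
        (fun hR _ hRg => hex (Or.inl ⟨h3, c, hR, by rw [hn]; exact hRg⟩)) (c ^ 2 + 2 * (dt A / c))
        (c ^ 2 - 2 * (dt A / c))
      exact ⟨e, v, h1, h2, X, hX, hXv, Or.inr ⟨rfl, hor⟩⟩
    · by_cases hR : R1 A c
      · rw [hν₀c hR]
        obtain ⟨e, v, h1, h2, X, hX, hXv, hG⟩ := exists_choice_R1 hK h4 hc0 hR hA hg
          (m := m) (fun hRg => hex (Or.inl ⟨h3, c, hR, by rw [hn]; exact hRg⟩))
        exact ⟨e, v, h1, h2, X, hX, hXv, Or.inl ⟨h4, hG⟩⟩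
      · obtain ⟨e, he⟩ := NS.exists_noneigen (f := (g : V →ₗ[K] V)) hg
        obtain ⟨v, h2, X, hX, hXv, hG⟩ := exists_choice hK h4 (fun μ h => hR (hμ μ h ▸ h))
          (τ := ν₀ ^ m) (pow_ne_zero m hc0) he
        exact ⟨e, v, (notMem_span_of_noneigen (f := (g : V →ₗ[K] V)) he).2, h2, X, hX, hXv, Or.inl ⟨h4, hG⟩⟩
  obtain ⟨e, v, hge, hgv, X, hX, hXv, hprop⟩ := hchoice
  have he0 : e ≠ 0 := fun h => hge (by rw [h, map_zero]; exact zero_mem _)
  obtain ⟨W, Φ, hΦ, hW⟩ := exists_model he0 hn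
  obtain ⟨M, hM, hMd⟩ := exists_map (K := K) ![u] ![e] (li_single hu0) (li_single he0) (by simp; omega) 1
  have hMu : M u = e := hM 0
  have hA0e : (M * A * M⁻¹) e = (cU : K) • e := by
    rw [mul_apply', mul_apply', inv_apply_eq M hMu, hu, map_smul, hMu]; rfl
  obtain ⟨r₀, A₁, hA₁⟩ := exists_conj_up hΦ hA0e
  have hh : (g * X⁻¹) e = ((cU ^ m : Kˣ) : K) • e := by
    rw [mul_apply', inv_apply_eq X hXv, hgv, Units.val_pow_eq_pow_val]; rfl
  obtain ⟨R, Q, hQ⟩ := exists_conj_up hΦ hh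
  have hdA : dt (M * A * M⁻¹) = dt A := by simp only [dt, map_mul, map_inv, mul_inv_cancel_comm]
  have hdA₁ : dt A = c * dt A₁ := by rw [← hdA, (tr_conj Φ _ hA₁).2]; rfl
  have hdQ : dt Q = dt A₁ ^ m := by
    have h1 : dt (g * X⁻¹) * dt A = dt g := by
      simp only [dt, ← det_of_mem_Cl hX, map_mul, map_inv, Units.val_mul, mul_assoc, ← Units.val_mul, inv_mul_cancel,
        mul_one]
    rw [(tr_conj Φ _ hQ).2, hd, pow_succ] at h1
    have h2 := mul_right_cancel₀ (Units.ne_zero (LinearEquiv.det A)) h1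
    rw [hdA₁, mul_pow, Units.val_pow_eq_pow_val] at h2
    exact mul_left_cancel₀ (pow_ne_zero m hc0) h2
  have hA₁NS : NS (K := K) A₁ := ns_of_mod hΦ hA₁ fun κ => by
    obtain ⟨x, hx⟩ := hquot κ
    refine ⟨M x, fun h => hx ?_⟩
    rw [mul_apply', mul_apply', inv_apply', ← map_smul, ← map_sub] at h
    obtain ⟨t, ht⟩ := Submodule.mem_span_singleton.1 h
    refine Submodule.mem_span_singleton.2 ⟨t, M.injective ?_⟩
    rw [map_smul, hMu]; exact ht
  have hR1c : R1 A c → Eig A₁ c := fun hR => by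
    obtain ⟨a, φ, ha⟩ := hR
    have hr : R1 A₁ c := R1_of_r1mod hΦ hA₁ ⟨M a, φ.comp (M⁻¹ : V ≃ₗ[K] V).toLinearMap, fun x => by
      simp [mul_apply', ha, apply_inv]⟩
    obtain ⟨b, χ, hb⟩ := hr
    obtain ⟨w, hw, hw0⟩ := Submodule.exists_mem_ne_zero_of_ne_bot (p := LinearMap.ker χ) (fun h => by
      have := LinearMap.finrank_range_add_finrank_ker χ
      rw [h, finrank_bot] at this
      have := Submodule.finrank_le (LinearMap.range χ)
      simp only [finrank_self] at this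
      omega)
    exact ⟨w, hw0, by rw [hb, LinearMap.mem_ker.1 hw, zero_smul, add_zero]⟩
  obtain ⟨hQNS, hQex⟩ : NS (K := K) Q ∧ ¬ Exc A₁ Q := by
    rcases hprop with ⟨h4, hG1, hG2⟩ | ⟨hm2, hor⟩
    · refine ⟨ns_of_mod hΦ hQ hG1, ?_⟩
      rintro (⟨-, μ, hμ1, hμQ⟩ | ⟨h2, -⟩)
      swap
      · omega
      have hPμ : P μ := by
        obtain ⟨p, φ, hp⟩ := r1mod_of_R1 hΦ hA₁ hμ1
        refine ⟨M⁻¹ p, φ.comp (M : V →ₗ[K] V), fun x => ?_⟩
        have := hp (M x)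
        rw [mul_apply', mul_apply', inv_apply'] at this
        obtain ⟨t, ht⟩ := Submodule.mem_span_singleton.1 this
        refine Submodule.mem_span_singleton.2 ⟨t, M.injective ?_⟩
        simp only [map_sub, map_smul, hMu, LinearMap.comp_apply, LinearEquiv.coe_coe, apply_inv]
        exact ht
      have hν : R1 A₁ ν₀ := by
        obtain ⟨p, φ, hp⟩ := hν₀ ⟨μ, hPμ⟩
        refine R1_of_r1mod hΦ hA₁ ⟨M p, φ.comp (M⁻¹ : V ≃ₗ[K] V).toLinearMap, fun x => ?_⟩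
        obtain ⟨t, ht⟩ := Submodule.mem_span_singleton.1 (hp (M⁻¹ x))
        refine Submodule.mem_span_singleton.2 ⟨t, ?_⟩
        have := congrArg M ht
        simpa [map_sub, map_smul, hMu, mul_apply', apply_inv] using this
      have hμν : μ = ν₀ := by
        by_contra hne
        have := R1.finrank_le hμ1 hν hne
        omega
      rw [hW, hμν] at hμQ
      exact hG2 (r1mod_of_R1 hΦ hQ hμQ)
    · subst hm2
      rw [pow_two] at hdQ
      have htQ : tr (g * X⁻¹) = c ^ 2 + tr Q := by rw [(tr_conj Φ _ hQ).1, Units.val_pow_eq_pow_val]; rfl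
      have hd1 : dt A / c = dt A₁ := by rw [hdA₁, mul_div_cancel_left₀ _ hc0]
      rcases hor with ⟨ht1, ht2⟩ | ⟨hns, hR, hrest⟩
      · rw [hd1, htQ] at ht1 ht2
        have hb1 : tr Q ≠ 2 * dt A₁ := fun h => ht1 (by rw [h])
        have hb2 : tr Q ≠ -(2 * dt A₁) := fun h => ht2 (by rw [h, ← sub_eq_add_neg])
        refine ⟨fun κ => ?_, ?_⟩
        · by_contra hno
          push Not at hno
          obtain ⟨w, hw⟩ := NS.exists_noneigen (f := (A₁ : W →ₗ[K] W)) hA₁NS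
          obtain ⟨b, -, -, -⟩ := exists_basis hW A₁ hw
          obtain ⟨hqt, hqd⟩ := tr_dt_basis Q b (p := κ) (q := 0) (r := 0) (s := κ) (by simp [hno (b 0)])
            (by simp [hno (b 1)])
          rw [hdQ, mul_zero, sub_zero] at hqd
          rcases mul_self_eq_mul_self_iff.1 hqd with hk | hk
          · exact hb1 (by rw [hqt, hk]; ring)
          · exact hb2 (by rw [hqt, hk]; ring)
        · rintro (⟨h, -⟩ | ⟨-, -, hh'⟩)
          · omega
          · rcases hh' with hh' | ⟨-, hh'⟩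
            · exact hb1 hh'
            · exact hb2 hh'
      · have hQ' := ns_of_mod hΦ hQ hns
        refine ⟨hQ', exc_free_three hW hA₁NS hQ' hdQ (hR1c hR) ?_⟩
        by_cases hne : dt A₁ = c * c
        · refine Or.inr ?_
          rcases hrest with h | ⟨ρ, w, hρ, hw, hρw⟩
          · exact absurd (by rw [hdA₁, hne]; ring) h
          · refine ⟨ρ, by rw [hne, ← pow_two]; exact hρ, (Φ w).2, fun h => hw ((mem_line_iff hΦ _).2 h), ?_⟩
            rw [← snd_conj hQ w, mul_apply', hρw, map_smul]; rfl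
        · exact Or.inl hne
  obtain ⟨l, hl, hlC, hlp, hlno⟩ := IH W hW A₁ Q hA₁NS hQNS hdQ hQex
  -- lifting the quotient factors
  have hA0Cl : ∀ Y ∈ Cl (conjHom Φ (M * A * M⁻¹)), Y ∈ Cl (conjHom Φ A) := fun Y hY => by
    rw [map_mul, map_mul, map_inv] at hY
    exact Cl_of_conj (fun _ => by rw [det_conjHom, hMd]) hY
  have hdim : finrank K (K × W) = m + 1 := by rw [← Φ.finrank_eq, hn]
  have hlift : ∀ B ∈ l, ∃ r : W →ₗ[K] K, up cU r B ∈ Cl (conjHom Φ A) := fun B hB => by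
    obtain ⟨N, -, rfl⟩ := hlC B hB
    set k : Kˣ := (LinearEquiv.det N)⁻¹
    refine ⟨(k : K) • r₀.comp (N⁻¹).toLinearMap,
      hA0Cl (up cU ((k : K) • r₀.comp (N⁻¹).toLinearMap) (N * A₁ * N⁻¹))
        ⟨up k 0 N, fun _ => by rw [det_up, inv_mul_cancel], ?_⟩⟩
    rw [hA₁, conj_diag]
  choose rB hrB using hlift
  let dl : List (Datum K W) := l.pmap (fun B hB => (cU, rB B hB, B)) fun B hB => hB
  have hdl : ∀ f ∈ dl, f.1 = cU ∧ f.2.2 ∈ l ∧ f.val ∈ Cl (conjHom Φ A) := fun f hf => by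
    obtain ⟨B, hB, rfl⟩ := List.mem_pmap.1 hf
    exact ⟨rfl, hB, hrB B hB⟩
  have hfst : dl.map Prod.fst = List.replicate m cU := by
    rw [List.eq_replicate_iff]
    refine ⟨by simp [dl, hl], fun b hb => ?_⟩
    obtain ⟨f, hf, rfl⟩ := List.mem_map.1 hb
    exact (hdl f hf).1
  have hthird : dl.map (·.2.2) = l := by simp [dl, List.map_pmap, List.pmap_eq_map]
  obtain ⟨l', hl', hl'C, hcov, -, hprod⟩ := exists_corner (C := Cl (conjHom Φ A))
    (fun t Y hY => Cl_conj hY _ fun _ => by rw [det_up, map_one, mul_one]) dl (fun f hf => (hdl f hf).2.2)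
    (fun w hw hall => hlno w hw fun B hB => by
      obtain ⟨f, hf, rfl⟩ := List.mem_map.1 (hthird ▸ hB)
      simpa [(hdl f hf).1, cU] using hall f hf) R
  rw [hfst, List.prod_replicate, hthird, hlp] at hprod
  have hgood : Good (Cl (conjHom Φ A)) (m + 1) (conjHom Φ g) c := by
    refine ⟨l' ++ [conjHom Φ X], by simp [hl', dl, hl], fun Y hY => ?_, ?_, fun x hx hall => ?_⟩
    · rcases List.mem_append.1 hY with hY | hY
      · exact hl'C Y hY
      · rw [List.mem_singleton] at hY; subst hY; exact mem_Cl_conjHom Φ hX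
    · rw [List.prod_append, hprod, List.prod_singleton, ← hQ, ← map_mul, inv_mul_cancel_right]
    · obtain ⟨a, w⟩ := x
      have hw : w = 0 := by
        by_contra hw
        refine hlno w hw fun B hB => ?_
        obtain ⟨f, hf, rfl⟩ := List.mem_map.1 (hthird ▸ hB)
        obtain ⟨Y, hY, r, rfl⟩ := hcov f hf
        simpa [up_apply] using congrArg Prod.snd (hall _ (List.mem_append_left _ hY))
      subst hw
      have ha : a ≠ 0 := fun h => hx (by simp [h])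
      have h1 := hall (conjHom Φ X) (by simp)
      have e1 : ((a, (0 : W)) : K × W) = a • Φ e := by rw [hΦ]; simp
      rw [e1, map_smul, conjHom_apply', smul_comm c a] at h1
      have h2 := smul_right_injective (K × W) ha h1
      rw [← map_smul] at h2
      have h3' : X e = c • e := Φ.injective h2
      have h4' : e = c • v := X.injective (by rw [h3', map_smul, hXv])
      refine hge (Submodule.mem_span_singleton.2 ⟨c * c ^ m, ?_⟩)
      conv_rhs => rw [h4']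
      rw [map_smul, hgv, smul_smul]
  have hsymm : ∀ f : V ≃ₗ[K] V, conjHom Φ.symm (conjHom Φ f) = f := fun f =>
    LinearEquiv.ext fun x => by simp [conjHom_apply]
  have := hgood.transport Φ.symm
  rwa [hsymm, hsymm] at this

end Cfsg.Agent.Classical.CovPSL
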