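import Cfsg.Agent.Lib.Classical.CovPSL.Cover
import Cfsg.Agent.Lib.Classical.CovPSL.Step

set_option autoImplicit false

/-! Products of as many conjugates as the dimension. -/

namespace Cfsg.Agent.Classical.CovPSL

open Module Polynomial RegUnipProduct

universe u v

variable {K : Type u} [Field K] {V : Type v} [AddCommGroup V] [Module K V] [FiniteDimensional K V]

attribute [local instance] Classical.propDecidable

theorem big_of_card [Fintype K] (hF : 4 ≤ Fintype.card K) : Big K := by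
  obtain ⟨f⟩ := Function.Embedding.nonempty_of_card_le (α := Fin 4) (β := K) (by simpa using hF)
  exact ⟨f, f.injective⟩

/-- Carrying one rank-one datum to another. -/
theorem exists_pair_map (h3 : 3 ≤ finrank K V) {a₀ a : V} {φ₀ φ : V →ₗ[K] K} (ha₀ : a₀ ≠ 0) (ha : a ≠ 0)
    (hφ₀ : φ₀ ≠ 0) (hφ : φ ≠ 0) (he : φ₀ a₀ = φ a) (δ : Kˣ) :
    ∃ M : V ≃ₗ[K] V, M a₀ = a ∧ (∀ x, φ (M x) = φ₀ x) ∧ LinearEquiv.det M = δ := by
  obtain ⟨M₁, hM₁, -⟩ := exists_map (K := K) ![a₀] ![a] (li_single ha₀) (li_single ha) (by simp; omega) 1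
  have hM₁a : M₁ a₀ = a := hM₁ 0
  let φ₁ : V →ₗ[K] K := φ₀.comp (M₁⁻¹).toLinearMap
  have hφ₁ : φ₁ ≠ 0 := fun e => hφ₀ (LinearMap.ext fun x => by
    have := LinearMap.congr_fun e (M₁ x)
    simpa [φ₁, inv_apply'] using this)
  have hφ₁a : φ₁ a = φ a := by
    show φ₀ (M₁⁻¹ a) = _
    rw [inv_apply_eq M₁ hM₁a, he]
  obtain ⟨z, hz, hz'⟩ : ∃ z, φ z = 1 ∧ φ₁ z ≠ 0 := by
    obtain ⟨x, hx⟩ := DFunLike.ne_iff.1 hφ
    obtain ⟨y, hy⟩ := DFunLike.ne_iff.1 hφ₁
    simp only [LinearMap.zero_apply] at hx hy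
    obtain ⟨w, hw, hw'⟩ : ∃ w, φ w ≠ 0 ∧ φ₁ w ≠ 0 := by
      by_cases h1 : φ₁ x = 0
      · by_cases h2 : φ y = 0
        · exact ⟨x + y, by simpa [h2] using hx, by simpa [h1] using hy⟩
        · exact ⟨y, h2, hy⟩
      · exact ⟨x, hx, h1⟩
    exact ⟨(φ w)⁻¹ • w, by simp [hw], by simp [hw, hw']⟩
  have hne : 1 + (φ₁ - φ) z ≠ 0 := by simp [hz, hz']
  let M₂ := pRefl z (φ₁ - φ) hne
  obtain ⟨w, hw, hwa⟩ : ∃ w, φ w = 0 ∧ w ∉ K ∙ a := by
    by_contra hno
    push Not at hno
    have h1 := Submodule.finrank_mono (show LinearMap.ker φ ≤ K ∙ a from fun x hx => hno x hx)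
    have h2 := Module.Dual.finrank_ker_add_one_of_ne_zero (f := φ) hφ
    rw [finrank_span_singleton ha] at h1
    omega
  obtain ⟨χ, hχw, hχ⟩ := Submodule.exists_dual_map_eq_bot_of_notMem hwa inferInstance
  have hχa : χ a = 0 := by
    have : χ a ∈ (K ∙ a).map χ := Submodule.mem_map_of_mem (Submodule.mem_span_singleton_self _)
    rwa [hχ, Submodule.mem_bot] at this
  let r : Kˣ := δ * (LinearEquiv.det (M₂ * M₁))⁻¹
  have hval : ((((r : K) - 1) * (χ w)⁻¹) • χ) w = (r : K) - 1 := by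
    rw [LinearMap.smul_apply, smul_eq_mul, mul_assoc, inv_mul_cancel₀ hχw, mul_one]
  have hne3 : 1 + ((((r : K) - 1) * (χ w)⁻¹) • χ) w ≠ 0 := by rw [hval, add_sub_cancel]; exact r.ne_zero
  refine ⟨pRefl w ((((r : K) - 1) * (χ w)⁻¹) • χ) hne3 * (M₂ * M₁), ?_, fun x => ?_, ?_⟩
  · rw [mul_apply', mul_apply', hM₁a, pRefl_apply, pRefl_apply]
    simp [hφ₁a, hχa]
  · rw [mul_apply', mul_apply', pRefl_apply, map_add, map_smul, hw, smul_zero, add_zero, pRefl_apply, map_add,
      map_smul, hz]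
    simp [φ₁, inv_apply']
  · rw [map_mul, show LinearEquiv.det (pRefl w ((((r : K) - 1) * (χ w)⁻¹) • χ) hne3) = r from
      Units.ext (by rw [det_pRefl, hval, add_sub_cancel]), inv_mul_cancel_right]

theorem R1.det_eq {f : V ≃ₗ[K] V} {ν : K} (hν : ν ≠ 0) {a : V} {φ : V →ₗ[K] K} (hf : ∀ x, f x = ν • x + φ x • a) :
    dt f = ν ^ finrank K V * (1 + ν⁻¹ * φ a) := by
  have e : f.toLinearMap = ν • LinearMap.transvection (ν⁻¹ • φ) a := LinearMap.ext fun x => by
    simp [LinearMap.transvection.apply, hf, smul_smul, hν]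
  rw [dt, LinearEquiv.coe_det, e, LinearMap.det_smul, LinearMap.transvection.det]
  simp

theorem G1_of_cyclic {f : Module.End K V} {u₀ : V}
    (h : LinearIndependent K (fun i : Fin (finrank K V) => (f ^ (i : ℕ)) u₀)) : G1 f := by
  intro c x y hx hfx hfy
  let D := f - c • LinearMap.id
  have htop : K ∙ u₀ ⊔ LinearMap.range D = ⊤ := by
    rw [eq_top_iff, ← h.span_eq_top_of_card_eq_finrank' (by simp), Submodule.span_le]
    rintro _ ⟨i, rfl⟩
    suffices ∀ k : ℕ, (f ^ k) u₀ ∈ K ∙ u₀ ⊔ LinearMap.range D from this i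
    intro k
    induction k with
    | zero => exact Submodule.mem_sup_left (Submodule.mem_span_singleton_self _)
    | succ k ih =>
      have : (f ^ (k + 1)) u₀ = D ((f ^ k) u₀) + c • (f ^ k) u₀ := by
        rw [pow_succ', Module.End.mul_apply]; simp [D]
      rw [this]
      exact add_mem (Submodule.mem_sup_right ⟨_, rfl⟩) (Submodule.smul_mem _ _ ih)
  have h1 := Submodule.finrank_sup_add_finrank_inf_eq (K ∙ u₀) (LinearMap.range D)
  rw [htop, finrank_top] at h1
  have h2 := LinearMap.finrank_range_add_finrank_ker D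
  have h3 : finrank K (K ∙ u₀) ≤ 1 := (finrank_span_le_card _).trans (by simp)
  have hker : finrank K (LinearMap.ker D) ≤ 1 := by omega
  have e : K ∙ x = LinearMap.ker D := Submodule.eq_of_le_of_finrank_le
    ((Submodule.span_singleton_le_iff_mem ..).2 (by simp [D, hfx])) (by rw [finrank_span_singleton hx]; omega)
  rw [e]
  simp [D, hfy]

theorem irreducible_charpoly_three (h3 : finrank K V = 3) {A : V ≃ₗ[K] V} (hA : ∀ c : K, ¬ Eig A c) :
    Irreducible (A : V →ₗ[K] V).charpoly := by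
  refine irreducible_of_degree_le_three_of_not_isRoot ?_ fun c hc => ?_
  · rw [LinearMap.charpoly_natDegree, h3]; decide
  have h1 : Module.End.HasEigenvalue (A : V →ₗ[K] V) c := (Module.End.hasEigenvalue_iff_isRoot_charpoly _ c).2 hc
  obtain ⟨x, hx⟩ := h1.exists_hasEigenvector
  exact hA c ⟨x, hx.2, Module.End.mem_eigenspace_iff.1 hx.1⟩

theorem full_three [Fintype K] (h3 : finrank K V = 3) {A : V ≃ₗ[K] V} (hA : ∀ c : K, ¬ Eig A c) : Full A := by
  refine full_of_not_le (irreducible_charpoly_three h3 hA) ?_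
  rw [show aeval (A : Module.End K V) (A : V →ₗ[K] V).charpoly = 0 from LinearMap.aeval_self_charpoly _,
    LinearMap.ker_zero, LinearMap.range_zero]
  intro h
  have := Submodule.finrank_mono h
  rw [finrank_top, finrank_bot] at this
  omega

theorem cycVec_three (h3 : finrank K V = 3) {A : V ≃ₗ[K] V} (hA : ∀ c : K, ¬ Eig A c) {w : V} (hw : w ≠ 0) :
    CycVec A w := by
  have := li_irreducible (irreducible_charpoly_three h3 hA)
    (f := (A : Module.End K V)) (w := w) (by rw [LinearMap.aeval_self_charpoly]; rfl) hw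
  rwa [LinearMap.charpoly_natDegree] at this

/-- Dimension three without eigenvectors. -/
theorem prd_three [Fintype K] (hF : 4 ≤ Fintype.card K) (h3 : finrank K V = 3) {A g : V ≃ₗ[K] V}
    (hA : ∀ c : K, ¬ Eig A c) (hg : NS (K := K) g) (hd : dt g = dt A ^ 3) : Prd A 3 g := by
  haveI : Nontrivial V := Module.nontrivial_of_finrank_pos (R := K) (by omega)
  obtain ⟨v₀, hv₀⟩ := exists_ne (0 : V)
  have hfull := full_three h3 hA
  set δ := dt A with hδ
  have hδ0 : δ ≠ 0 := Units.ne_zero _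
  obtain ⟨a, ha0, ha1, ha2⟩ := exists_avoid_two hF δ
  let t : Fin 2 → Kˣ := Pi.mulSingle 0 (Units.mk0 a ha0)
  let b : K := δ * δ / a
  have hp : b * ∏ j, (t j : K) = δ * δ := by
    rw [← Units.coe_prod, show ∏ l, t l = Units.mk0 a ha0 by simp [t, Finset.prod_pi_mulSingle'], Units.val_mk0,
      div_mul_cancel₀ _ ha0]
  have ht : ∀ j, b ≠ (t j : K) := fun j e => by
    by_cases h : j = 0
    · simp only [t, h, Pi.mulSingle_eq_same, Units.val_mk0, b, div_eq_iff ha0] at e
      exact ha2 e.symm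
    · simp only [t, Pi.mulSingle_eq_of_ne h, Units.val_one, b, div_eq_iff ha0, one_mul] at e
      exact ha1 e.symm
  set l := b :: List.ofFn fun j => (t j : K)
  obtain ⟨ρ, hρ⟩ := exists_block_pair h3 (cycVec_three h3 hA hv₀) (cycVec_three h3 hA hv₀)
  obtain ⟨N₁, N₂, -, -, hT⟩ := hρ t b hp ht
  suffices ∃ (M R : V ≃ₗ[K] V), g = (R * ((N₁ * A * N₁⁻¹) * (N₂ * A * N₂⁻¹)) * R⁻¹) * (M * A * M⁻¹) by
    obtain ⟨M, R, e⟩ := this
    refine ⟨[(R * N₁) * A * (R * N₁)⁻¹, (R * N₂) * A * (R * N₂)⁻¹, M * A * M⁻¹], rfl, ?_, ?_⟩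
    · simp only [List.mem_cons, List.not_mem_nil, or_false]
      rintro X (rfl | rfl | rfl) <;> exact mem_Cl_of_full hfull _
    · rw [e]; simp only [List.prod_cons, List.prod_nil]; group
  by_cases hR1 : ∀ μ : K, ¬ R1 g μ
  · obtain ⟨w, hw1, hw2⟩ := exists_cyclic h3 (big_of_card hF) hR1
    have hcyc : CycVec g w := by
      obtain ⟨n1, n2⟩ := notMem_span_of_noneigen (f := g.toLinearMap) hw1
      have h' : LinearIndependent K ![w, g w, g (g w)] := by
        have := linearIndependent_fin_snoc.2 ⟨li_pair n1 n2, show g (g w) ∉ Submodule.span K (Set.range ![w, g w]) by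
          rw [range_pair]; exact hw2⟩
        convert this using 1
        funext i
        fin_cases i <;> rfl
      rw [CycVec]
      have e := h'.comp (finCongr h3) (finCongr h3).injective
      convert e using 1
      funext i
      obtain ⟨i, hi⟩ := i
      rcases (show i = 0 ∨ i = 1 ∨ i = 2 by omega) with rfl | rfl | rfl <;> simp [pow_succ]
    have hA' : ∀ c : K, ¬ Eig (⇑(A⁻¹ : V ≃ₗ[K] V)) c := fun c ⟨x, hx, h⟩ => by
      have e : x = c • A x := by rw [← map_smul, ← h, apply_inv]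
      refine hA c⁻¹ ⟨x, hx, ?_⟩
      have hc : c ≠ 0 := fun h0 => hx (by rw [e, h0, zero_smul])
      conv_rhs => rw [e, smul_smul, inv_mul_cancel₀ hc, one_smul]
    obtain ⟨ρ', hρ'⟩ := exists_block_pair h3 hcyc (cycVec_three h3 hA' hv₀)
    obtain ⟨M₁, M₂, -, -, hT'⟩ := hρ' t b (by
      rw [hp, hd]
      have e : dt (A⁻¹ : V ≃ₗ[K] V) = δ⁻¹ := by simp [dt, map_inv, δ, Units.val_inv_eq_inv_val]
      rw [e, pow_succ, mul_inv_cancel_right₀ hδ0, pow_two]) ht
    obtain ⟨R, hR⟩ := hT.similar hT'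
    refine ⟨M₁⁻¹ * M₂, M₁⁻¹ * R, ?_⟩
    have e := conj_of_intertwine hR
    calc g = M₁⁻¹ * ((M₁ * g * M₁⁻¹) * (M₂ * A⁻¹ * M₂⁻¹) * (M₂ * A * M₂⁻¹)) * M₁ := by group
      _ = _ := by rw [e]; group
  push Not at hR1
  obtain ⟨ν, a₀, φ₀, hg1⟩ := hR1
  have hν : ν ≠ 0 := fun e => by
    have h1 := Submodule.finrank_mono (show LinearMap.range g.toLinearMap ≤ K ∙ a₀ from by
      rintro _ ⟨x, rfl⟩
      refine Submodule.mem_span_singleton.2 ⟨φ₀ x, ?_⟩
      rw [LinearEquiv.coe_coe, hg1, e, zero_smul, zero_add])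
    rw [show LinearMap.range g.toLinearMap = ⊤ from LinearMap.range_eq_top.2 g.surjective, finrank_top] at h1
    have h2 : finrank K (K ∙ a₀) ≤ 1 := (finrank_span_le_card _).trans (by simp)
    omega
  have ha₀ : a₀ ≠ 0 := fun e => by obtain ⟨x, hx⟩ := hg ν; exact hx (by simp [hg1, e])
  have hφ₀ : φ₀ ≠ 0 := fun e => by obtain ⟨x, hx⟩ := hg ν; exact hx (by simp [hg1, e])
  let B := (A⁻¹ : V ≃ₗ[K] V)
  have hB : CycVec B v₀ := cycVec_three h3 (fun c ⟨x, hx, h⟩ => by
      have e : x = c • A x := by rw [← map_smul, ← h]; exact (apply_inv A x).symm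
      refine hA c⁻¹ ⟨x, hx, ?_⟩
      have hc : c ≠ 0 := fun h0 => hx (by rw [e, h0, zero_smul])
      conv_rhs => rw [e, smul_smul, inv_mul_cancel₀ hc, one_smul]) hv₀
  obtain ⟨eB, heB⟩ := hB.basis h3
  let c (i : ℕ) := (pol l).coeff i
  let β (i : Fin 3) := eB.repr (B (eB 2)) i
  let p : K := -c 2 - ν * β 2
  let q : K := -c 1 - c 2 * p - ν ^ 2 * β 1
  let r : K := -c 0 - c 1 * p - c 2 * q - ν ^ 3 * β 0
  let u1 : V := ν • eB 1 + p • eB 0
  let u2 : V := ν ^ 2 • eB 2 + (ν * p) • eB 1 + q • eB 0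
  have b0 : eB 0 = v₀ := by rw [heB]; rfl
  have b1 : eB 1 = B v₀ := by rw [heB]; simp
  have b2 : eB 2 = B (B v₀) := by rw [heB]; simp [pow_succ]
  have li : LinearIndependent K ![v₀, u1, u2] := by
    rw [Fintype.linearIndependent_iff]
    intro k hk
    simp only [Fin.sum_univ_three, Matrix.cons_val_zero, Matrix.cons_val_one, Matrix.cons_val, u1, u2, smul_add,
      smul_smul, ← b0] at hk
    have h := Fintype.linearIndependent_iff.1 eB.linearIndependent
      ![k 0 + k 1 * p + k 2 * q, k 1 * ν + k 2 * (ν * p), k 2 * ν ^ 2] (by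
        rw [Fin.sum_univ_three, ← hk]
        simp only [Matrix.cons_val_zero, Matrix.cons_val_one, Matrix.cons_val]
        module)
    have k2 : k 2 = 0 := by simpa [hν] using h 2
    have k1 : k 1 = 0 := by simpa [hν, k2] using h 1
    have k0 : k 0 = 0 := by simpa [k1, k2] using h 0
    intro i; fin_cases i <;> assumption
  let eu := basisOfLinearIndependentOfCardEqFinrank li (by simp [h3])
  have heu : ∀ i, eu i = ![v₀, u1, u2] i := fun i => by simp [eu]
  let ψ : V →ₗ[K] K := eu.constr K ![p, q, r]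
  have hψ : ∀ i, ψ (![v₀, u1, u2] i) = ![p, q, r] i := fun i => by rw [← heu]; simp [ψ]
  let S : Module.End K V := ν • B.toLinearMap + ψ.smulRight v₀
  have S0 : S v₀ = u1 := by
    show ν • B v₀ + ψ v₀ • v₀ = _
    rw [show ψ v₀ = p from hψ 0, ← b1, ← b0]
  have S1 : S u1 = u2 := by
    show ν • B u1 + ψ u1 • v₀ = _
    rw [show ψ u1 = q from hψ 1]
    simp only [u1, u2, map_add, map_smul, b0, b1, b2]
    module
  have S2 : S u2 = (-c 0) • v₀ + (-c 1) • u1 + (-c 2) • u2 := by
    show ν • B u2 + ψ u2 • v₀ = _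
    rw [show ψ u2 = r from hψ 2]
    have hB3 : B (eB 2) = β 0 • v₀ + β 1 • B v₀ + β 2 • B (B v₀) := by
      conv_lhs => rw [← eB.sum_repr (B (eB 2)), Fin.sum_univ_three]
      simp only [β, b0, b1, b2]
    simp only [u1, u2, map_add, map_smul, b0, b1, hB3]
    rw [← b2]
    simp only [b2, r, q, p]
    module
  have hiter : LinearIndependent K (fun i : Fin (finrank K V) => (S ^ (i : ℕ)) v₀) := by
    have e := li.comp (finCongr h3) (finCongr h3).injective
    convert e using 1
    funext i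
    obtain ⟨i, hi⟩ := i
    rcases (show i = 0 ∨ i = 1 ∨ i = 2 by omega) with rfl | rfl | rfl <;> simp [pow_succ, S0, S1]
  have hSl : Spl S l := by
    refine ⟨by simp [l, h3], ?_, G1_of_cyclic hiter⟩
    have hl3 : l.length = 3 := by simp [l]
    have e0 : aeval S (pol l) v₀ = 0 := by
      rw [aeval_eq_sum_range, pol_natDegree, hl3, LinearMap.sum_apply]
      simp only [Finset.sum_range_succ, Finset.sum_range_zero, zero_add, LinearMap.smul_apply, pow_succ, pow_zero,
        one_mul, Module.End.mul_apply, Module.End.one_apply, S0, S1, S2]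
      rw [show (pol l).coeff 3 = 1 by rw [← hl3, ← pol_natDegree l]; exact pol_monic l]
      simp only [c]
      module
    rw [Ann]
    refine LinearMap.ext_on (hiter.span_eq_top_of_card_eq_finrank' (by simp)) fun x hx => ?_
    obtain ⟨i, rfl⟩ := hx
    have := aeval_comm_apply S (pol l) (X ^ (i : ℕ)) v₀
    rw [map_pow, aeval_X, e0, map_zero] at this
    simpa using this
  obtain ⟨R, hR⟩ := hT.similar hSl
  set T := (N₁ * A * N₁⁻¹) * (N₂ * A * N₂⁻¹)
  let SE := R * T * R⁻¹
  have hSE : ∀ x, SE x = ν • B x + ψ x • v₀ := fun x => by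
    obtain ⟨y, rfl⟩ := R.surjective x
    show (R * T * R⁻¹) (R y) = _
    rw [mul_apply', mul_apply', inv_apply', ← show S (R y) = R (T y) from hR y]
    rfl
  let g' := SE * A
  have hg' : ∀ x, g' x = ν • x + (ψ.comp A.toLinearMap) x • v₀ := fun x => by
    show SE (A x) = _
    rw [hSE, inv_apply']; rfl
  have hφne : ψ.comp A.toLinearMap ≠ 0 := fun e => by
    have hS : ∀ x, SE x = ν • B x := fun x => by
      have := LinearMap.congr_fun e (B x)
      simp only [LinearMap.comp_apply, LinearEquiv.coe_coe, LinearMap.zero_apply] at this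
      rw [show A (B x) = x from apply_inv A x] at this
      rw [hSE, this, zero_smul, add_zero]
    have hno : ∀ (c : K) (x : V), SE x = c • x → x = 0 := fun c x hx => by
      by_contra h0
      rw [hS] at hx
      have hc : c ≠ 0 := fun h => h0 (by
        rw [h, zero_smul, smul_eq_zero] at hx
        exact (LinearEquiv.map_eq_zero_iff B).1 (hx.resolve_left hν))
      refine hA (ν / c) ⟨x, h0, ?_⟩
      have h1 : ν • x = c • A x := by
        have := congrArg A hx
        rwa [map_smul, map_smul, show A (B x) = x from apply_inv A x] at this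
      rw [div_eq_inv_mul, mul_smul, h1, inv_smul_smul₀ hc]
    have key : ∀ (l' : List K) (x : V), aeval SE.toLinearMap (pol l') x = 0 → x = 0 := by
      intro l'
      induction l' with
      | nil => intro x hx; simpa [pol] using hx
      | cons z l' ih =>
        intro x hx
        rw [pol_cons, map_mul, Module.End.mul_apply] at hx
        refine ih x (hno z _ ?_)
        simpa [sub_eq_zero] using hx
    refine hv₀ (key l v₀ ?_)
    have hSS : S = SE.toLinearMap := LinearMap.ext fun x => (hSE x).symm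
    rw [← hSS, hSl.2.1]; rfl
  have hθ : φ₀ a₀ = (ψ.comp A.toLinearMap) v₀ := by
    have h1 := R1.det_eq hν hg1
    have h2 := R1.det_eq hν hg'
    have h4 : dt g' = dt g := by
      simp only [g', SE, T, dt, map_mul, map_inv, mul_inv_cancel_comm, Units.val_mul]
      rw [show ((LinearEquiv.det g : Kˣ) : K) = dt A ^ 3 from hd]; simp only [dt]; ring
    rw [h4, h1] at h2
    have := mul_left_cancel₀ (pow_ne_zero _ hν) h2
    exact mul_left_cancel₀ (inv_ne_zero hν) (add_left_cancel this)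
  obtain ⟨M, hM, hMφ, -⟩ := exists_pair_map (by omega) ha₀ hv₀ hφ₀ hφne hθ 1
  have hconj : g' = M * g * M⁻¹ := conj_of_intertwine fun x => by
    rw [hg', hMφ, hg1, map_add, map_smul, map_smul, hM]
  refine ⟨M⁻¹, M⁻¹ * R, ?_⟩
  calc g = M⁻¹ * g' * M := by rw [hconj]; group
    _ = _ := by simp only [g', SE, T]; group

theorem not_common_of_R1 {A g : V ≃ₗ[K] V} {μ c : K} (hA : R1 A μ) (hc : c ≠ μ) {x : V} (hx : x ≠ 0)
    (l : List (V ≃ₗ[K] V)) (hl : ∀ X ∈ l, X ∈ Cl A) (hall : ∀ X ∈ l, X x = c • x) (hp : l.prod = g) :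
    R1 g (μ ^ l.length) := by
  subst hp
  obtain ⟨a, φ, hA⟩ := hA
  have hmod : ∀ X ∈ l, ∀ y, X y - μ • y ∈ K ∙ x := by
    intro X hX
    obtain ⟨M, -, rfl⟩ := hl X hX
    have hform : ∀ y, (M * A * M⁻¹) y = μ • y + φ (M⁻¹ y) • M a := fun y => by
      rw [mul_apply', mul_apply', hA, map_add, map_smul, map_smul, apply_inv]
    have h := hall _ hX
    rw [hform] at h
    have e : φ (M⁻¹ x) • M a = (c - μ) • x := by rw [sub_smul, ← h, add_sub_cancel_left]
    intro y
    rw [hform, add_sub_cancel_left]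
    have h0 : φ (M⁻¹ x) ≠ 0 := fun h0 => by
      rw [h0, zero_smul, eq_comm, smul_eq_zero] at e
      exact e.elim (sub_ne_zero.2 hc) hx
    refine Submodule.smul_mem _ _ (Submodule.mem_span_singleton.2 ⟨(φ (M⁻¹ x))⁻¹ * (c - μ), ?_⟩)
    rw [mul_smul, ← e, inv_smul_smul₀ h0]
  refine R1.of_line (f := l.prod.toLinearMap) x fun y => ?_
  clear hl hall hc hx hA
  induction l with
  | nil => simp [one_apply']
  | cons X l ih =>
    have ih' := ih fun Y hY => hmod Y (List.mem_cons_of_mem _ hY)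
    rw [List.prod_cons, List.length_cons, pow_succ', mul_smul]
    show X (l.prod y) - μ • (μ ^ l.length • y) ∈ K ∙ x
    have := hmod X (List.mem_cons_self ..) (l.prod y)
    have e : X (l.prod y) - μ • (μ ^ l.length • y) =
        (X (l.prod y) - μ • l.prod y) + μ • (l.prod y - μ ^ l.length • y) := by rw [smul_sub]; abel
    rw [e]
    exact add_mem this (Submodule.smul_mem _ _ ih')

/-- The main theorem on linear classes. -/
theorem good_main [Fintype K] (hF : 4 ≤ Fintype.card K) : ∀ (n : ℕ) (W : Type v) [AddCommGroup W] [Module K W]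
    [FiniteDimensional K W], finrank K W = n → 2 ≤ n → ∀ A g : W ≃ₗ[K] W, NS (K := K) A → NS (K := K) g →
    dt g = dt A ^ n → ¬ Exc A g → ∀ c : K, Good (Cl A) n g c := by
  have hK := big_of_card hF
  intro n
  induction n with
  | zero => intro W _ _ _ _ h; omega
  | succ m ih =>
    intro W _ _ _ hn h2 A g hA hg hd hex c
    rcases (show m = 1 ∨ 2 ≤ m by omega) with rfl | hm
    · exact good_two hn hA hg (by rw [hd, pow_two]) (fun h => hex (Or.inr ⟨hn, h⟩)) c
    by_cases he : ∃ ν : K, Eig A ν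
    · have hstep : ∀ c', Eig A c' → (∀ μ, R1 A μ → c' = μ) → Good (Cl A) (m + 1) g c' := fun c' h1 h1' =>
        step hK hn hm hA hg hd h1 h1' hex fun U _ _ _ hU A₁ Q hA₁ hQ hdQ hexQ =>
          ih U hU hm A₁ Q hA₁ hQ hdQ hexQ c'
      by_cases hR : ∃ μ : K, R1 A μ
      · obtain ⟨μ, hμ⟩ := hR
        have heμ : Eig A μ := by
          obtain ⟨a, φ, ha⟩ := hμ
          obtain ⟨x, hx, hx0⟩ := Submodule.exists_mem_ne_zero_of_ne_bot (show LinearMap.ker φ ≠ ⊥ from fun e => by
            have := LinearMap.finrank_range_add_finrank_ker φ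
            have h1 := Submodule.finrank_le (LinearMap.range φ)
            rw [finrank_self] at h1
            rw [e, finrank_bot] at this
            omega)
          exact ⟨x, hx0, by rw [ha, LinearMap.mem_ker.1 hx, zero_smul, add_zero]⟩
        have hgood := hstep μ heμ fun μ' hμ' => by
          by_contra hne
          have := R1.finrank_le hμ hμ' hne
          omega
        by_cases hcμ : c = μ
        · exact hcμ ▸ hgood
        obtain ⟨l, hl, hC, hp, -⟩ := hgood
        refine ⟨l, hl, hC, hp, fun x hx hall => hex (Or.inl ⟨by omega, μ, hμ, ?_⟩)⟩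
        have := not_common_of_R1 hμ hcμ hx l hC hall hp
        rwa [hl, ← hn] at this
      · push Not at hR
        by_cases hcA : Eig A c
        · exact hstep c hcA fun μ hμ => absurd hμ (hR μ)
        obtain ⟨ν, hν⟩ := he
        obtain ⟨l, hl, hC, hp, -⟩ := hstep ν hν fun μ hμ => absurd hμ (hR μ)
        refine ⟨l, hl, hC, hp, fun x hx hall => ?_⟩
        obtain ⟨X, hX⟩ : ∃ X, X ∈ l := List.exists_mem_of_length_pos (by omega)
        obtain ⟨M, -, rfl⟩ := hC X hX
        exact hcA ⟨M⁻¹ x, fun e => hx (by rw [← apply_inv M x, e, map_zero]), M.injective (by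
          rw [map_smul, apply_inv]; exact hall _ hX)⟩
    push Not at he
    have hprd : Prd A (m + 1) g := by
      rcases (show m = 2 ∨ 3 ≤ m by omega) with rfl | hm3
      · exact prd_three hF hn he hg hd
      rcases covK_cases hF (by omega) (A := A) (fun c x _ hx hfx => absurd ⟨x, hx, hfx⟩ (he c)) with h | ⟨h8, h, -⟩
      · exact h.mono (by omega) hA (m + 1) (by omega) g hg hd
      · exact h.mono (by omega) hA (m + 1) (by omega) g hg hd
    obtain ⟨l, hl, hC, hp⟩ := hprd
    refine ⟨l, hl, hC, hp, fun x hx hall => ?_⟩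
    obtain ⟨X, hX⟩ : ∃ X, X ∈ l := List.exists_mem_of_length_pos (by omega)
    obtain ⟨M, -, rfl⟩ := hC X hX
    exact he c ⟨M⁻¹ x, fun e => hx (by rw [← apply_inv M x, e, map_zero]), M.injective (by
      rw [map_smul, apply_inv]; exact hall _ hX)⟩

end Cfsg.Agent.Classical.CovPSL
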