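import Cfsg.Agent.Lib.Classical.CovPSL.IdBasic

set_option autoImplicit false

/-! An eigenplane without splitting: two free factors and the others fixing a plane. -/

namespace Cfsg.Agent.Classical.CovPSL

open Module Polynomial

universe u v

variable {K : Type u} [Field K] {V : Type v} [AddCommGroup V] [Module K V] [FiniteDimensional K V]

attribute [local instance] Classical.propDecidable

/-- Without splitting there is no pseudo-reflection modulo eigenvectors. -/
theorem no_R1mod_of_not_splits {A : V ≃ₗ[K] V} (hs : ¬ (A : V →ₗ[K] V).charpoly.Splits) {U₀ : Submodule K V} {c : K}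
    (hU₀ : ∀ x ∈ U₀, A x = c • x) (μ : K) :
    ¬ ∃ (p : V) (φ : V →ₗ[K] K), ∀ x, A x - μ • x - φ x • p ∈ U₀ := by
  rintro ⟨p, φ, h⟩
  obtain ⟨U, hU, h2, hno, -⟩ := exists_irreducible_sub hs
  obtain ⟨y, hy, hy0⟩ := Submodule.exists_mem_ne_zero_of_ne_bot (show U ⊓ LinearMap.ker φ ≠ ⊥ from fun e => by
    have h1 := Submodule.finrank_sup_add_finrank_inf_eq U (LinearMap.ker φ)
    rw [e, finrank_bot] at h1
    have h3 := Submodule.finrank_le (U ⊔ LinearMap.ker φ)
    have h4 := LinearMap.finrank_range_add_finrank_ker φ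
    have h5 := Submodule.finrank_le (LinearMap.range φ)
    rw [finrank_self] at h5
    omega)
  have hz := h y
  rw [LinearMap.mem_ker.1 hy.2, zero_smul, sub_zero] at hz
  have hzU : A y - μ • y ∈ U := sub_mem (hU y hy.1) (U.smul_mem μ hy.1)
  by_cases he : A y - μ • y = 0
  · exact hno μ y hy.1 hy0 (sub_eq_zero.1 he)
  · exact hno c _ hzU he (hU₀ _ hz)

theorem not_R1_of_not_splits {A : V ≃ₗ[K] V} (hs : ¬ (A : V →ₗ[K] V).charpoly.Splits) (μ : K) : ¬ R1 A μ :=
  fun ⟨a, φ, h⟩ => no_R1mod_of_not_splits hs (U₀ := (⊥ : Submodule K V)) (c := 0)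
    (fun x hx => by rw [(Submodule.mem_bot K).1 hx, map_zero, smul_zero]) μ ⟨a, φ, fun x => by simp [h]⟩

/-- A plane meeting its image trivially. -/
theorem exists_plane [Fintype K] (hF : 4 ≤ Fintype.card K) (h5 : 5 ≤ finrank K V) {A : V ≃ₗ[K] V}
    (hA : ∀ μ : K, ¬ R1 A μ) :
    ∃ v₁ v₂ : V, LinearIndependent K ![v₁, v₂, A v₁, A v₂] := by
  have hNS : NS (K := K) A.toLinearMap := fun κ => by
    by_contra hno
    push Not at hno
    exact hA κ ⟨0, 0, fun x => by simpa using hno x⟩
  obtain ⟨w, hw⟩ := NS.exists_noneigen hNS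
  -- a non-eigenvector outside the image of any corank two perturbation
  suffices ∃ v₁ : V, (∀ κ : K, A v₁ ≠ κ • v₁) ∧ ∃ v₂ : V, ∀ a b : K,
      a • v₂ + b • A v₂ ∈ Submodule.span K {z | z ∈ [v₁, A v₁]} → a = 0 ∧ b = 0 by
    obtain ⟨v₁, h1, v₂, h2⟩ := this
    refine ⟨v₁, v₂, Fintype.linearIndependent_iff.2 fun g hg => ?_⟩
    simp only [Fin.sum_univ_four, Matrix.cons_val_zero, Matrix.cons_val_one, Matrix.cons_val] at hg
    obtain ⟨g1, g3⟩ := h2 (g 1) (g 3) (by
      rw [show g 1 • v₂ + g 3 • A v₂ = (-g 0) • v₁ + (-g 2) • A v₁ by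
        linear_combination (norm := module) hg]
      exact add_mem (Submodule.smul_mem _ _ (Submodule.subset_span (by simp)))
        (Submodule.smul_mem _ _ (Submodule.subset_span (by simp))))
    obtain ⟨n1, n2⟩ := notMem_span_of_noneigen (f := A.toLinearMap) h1
    have hz : g 2 • A v₁ = (-g 0) • v₁ := by
      rw [g1, g3] at hg; linear_combination (norm := module) hg
    have g2 : g 2 = 0 := by
      by_contra h
      refine h1 ((g 2)⁻¹ * -g 0) ?_
      rw [mul_smul, ← hz, inv_smul_smul₀ h]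
    have g0 : g 0 = 0 := by
      rw [g2, zero_smul, eq_comm, smul_eq_zero] at hz
      exact neg_eq_zero.1 (hz.resolve_right n1)
    intro i; fin_cases i <;> assumption
  by_contra hno
  push Not at hno
  -- then every deficient perturbation has its image in the plane of any non-eigenvector
  have key : ∀ v₁, (∀ κ : K, A v₁ ≠ κ • v₁) →
      ∃ lam : K, ∀ x, A x - lam • x ∈ Submodule.span K {z | z ∈ [v₁, A v₁]} := by
    intro v₁ h1
    set S := Submodule.span K {z | z ∈ [v₁, A v₁]}
    have hSd : finrank K S ≤ 2 := finrank_span_pair_le v₁ (A v₁)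
    have hrel : ∀ x, x ∉ S → ∃ t : K, A x - t • x ∈ S := fun x hx => by
      obtain ⟨a, b, hab, hne⟩ := hno v₁ h1 x
      by_cases hb : b = 0
      · rw [hb, zero_smul, add_zero] at hab
        exact absurd ((Submodule.smul_mem_iff _ (fun ha => hne ha hb)).1 hab) hx
      · refine ⟨-a / b, ?_⟩
        have := S.smul_mem b⁻¹ hab
        rw [smul_add, smul_smul, inv_smul_smul₀ hb] at this
        rw [neg_div, neg_smul, sub_neg_eq_add, add_comm, div_eq_inv_mul]
        exact this
    obtain ⟨x₀, hx₀⟩ : ∃ x, x ∉ S := by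
      by_contra h
      push Not at h
      have := Submodule.finrank_mono (show ⊤ ≤ S from fun x _ => h x)
      rw [finrank_top] at this
      omega
    obtain ⟨lam, hlam⟩ := hrel x₀ hx₀
    have hout : ∀ x, x ∉ S ⊔ K ∙ x₀ → A x - lam • x ∈ S := fun x hx => by
      obtain ⟨t, ht⟩ := hrel x fun h => hx (Submodule.mem_sup_left h)
      obtain ⟨r, hr⟩ := hrel (x + x₀) fun h => hx (by
        rw [show x = (x + x₀) - x₀ by abel]
        exact sub_mem (Submodule.mem_sup_left h) (Submodule.mem_sup_right (Submodule.mem_span_singleton_self _)))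
      have e : (t - r) • x + (lam - r) • x₀ ∈ S := by
        have := sub_mem (sub_mem hr ht) hlam
        rw [show A (x + x₀) - r • (x + x₀) - (A x - t • x) - (A x₀ - lam • x₀) = (t - r) • x + (lam - r) • x₀ by
          rw [map_add]; module] at this
        exact this
      by_cases htr : t = r
      · subst htr
        rw [sub_self, zero_smul, zero_add] at e
        by_cases hl : lam = t
        · rw [hl]; exact ht
        · exact absurd ((Submodule.smul_mem_iff _ (sub_ne_zero.2 hl)).1 e) hx₀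
      · refine absurd ?_ hx
        rw [show x = (t - r)⁻¹ • ((t - r) • x + (lam - r) • x₀) - ((t - r)⁻¹ * (lam - r)) • x₀ by
          rw [smul_add, smul_smul, smul_smul, inv_mul_cancel₀ (sub_ne_zero.2 htr), one_smul, add_sub_cancel_right]]
        exact sub_mem (Submodule.mem_sup_left (S.smul_mem _ e))
          (Submodule.mem_sup_right (Submodule.smul_mem _ _ (Submodule.mem_span_singleton_self _)))
    refine ⟨lam, fun x => ?_⟩
    by_cases hx : x ∈ S ⊔ K ∙ x₀
    · obtain ⟨z, hz⟩ : ∃ z, z ∉ S ⊔ K ∙ x₀ := by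
        by_contra h
        push Not at h
        have := Submodule.finrank_mono (show ⊤ ≤ S ⊔ K ∙ x₀ from fun x _ => h x)
        have h1 := Submodule.finrank_add_le_finrank_add_finrank S (K ∙ x₀)
        have h2 : finrank K (K ∙ x₀) ≤ 1 := (finrank_span_le_card _).trans (by simp)
        rw [finrank_top] at this
        omega
      have := sub_mem (hout (x + z) fun h => hz (by simpa using sub_mem h hx)) (hout z hz)
      rwa [show A (x + z) - lam • (x + z) - (A z - lam • z) = A x - lam • x by rw [map_add]; module] at this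
    · exact hout x hx
  obtain ⟨lam, hlam⟩ := key w hw
  set N := A.toLinearMap - lam • LinearMap.id with hN
  set S := Submodule.span K {z | z ∈ [w, A w]}
  have hle : LinearMap.range N ≤ S := by rintro _ ⟨x, rfl⟩; exact hlam x
  have hr2 : 2 ≤ finrank K (LinearMap.range N) := by
    by_contra h
    obtain ⟨⟨a, ha⟩, hspan⟩ := (finrank_le_one_iff (K := K) (V := LinearMap.range N)).1 (by omega)
    refine hA lam (R1.of_line (f := A.toLinearMap) a fun x => ?_)
    obtain ⟨t, ht⟩ := hspan ⟨N x, LinearMap.mem_range_self N x⟩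
    exact Submodule.mem_span_singleton.2 ⟨t, by simpa [N] using congrArg Subtype.val ht⟩
  have hSd : finrank K S ≤ 2 := finrank_span_pair_le w (A w)
  have heq : LinearMap.range N = S := Submodule.eq_of_le_of_finrank_le hle (by omega)
  -- every non-eigenvector lies in that image
  have hin : ∀ v, (∀ κ : K, A v ≠ κ • v) → v ∈ LinearMap.range N := fun v hv => by
    obtain ⟨l, hl⟩ := key v hv
    set T := Submodule.span K {z | z ∈ [v, A v]}
    have hTd : finrank K T ≤ 2 := finrank_span_pair_le v (A v)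
    by_cases hll : l = lam
    · subst hll
      have hle' : LinearMap.range N ≤ T := by rintro _ ⟨x, rfl⟩; exact hl x
      rw [Submodule.eq_of_le_of_finrank_le hle' (by omega)]
      exact Submodule.subset_span (by simp)
    · exfalso
      have htop : (⊤ : Submodule K V) ≤ T ⊔ LinearMap.range N := fun x _ => by
        rw [show x = (lam - l)⁻¹ • ((A x - l • x) - (A x - lam • x)) by
          rw [show (A x - l • x) - (A x - lam • x) = (lam - l) • x by module, inv_smul_smul₀ (sub_ne_zero.2 (Ne.symm hll))]]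
        exact Submodule.smul_mem _ _ (sub_mem (Submodule.mem_sup_left (hl x))
          (Submodule.mem_sup_right ⟨x, rfl⟩))
      have h1 := Submodule.finrank_mono htop
      have h2 := Submodule.finrank_add_le_finrank_add_finrank T (LinearMap.range N)
      have h3 := Submodule.finrank_mono hle
      rw [finrank_top] at h1
      omega
  -- but an eigenvector outside the image translates one of them out of it
  obtain ⟨z, hz⟩ : ∃ z, z ∉ LinearMap.range N := by
    by_contra h
    push Not at h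
    have := Submodule.finrank_mono (show ⊤ ≤ LinearMap.range N from fun x _ => h x)
    rw [finrank_top, heq] at this
    omega
  have hwI : w ∈ LinearMap.range N := hin w hw
  have hze : ∃ ν : K, A z = ν • z := by
    by_contra h
    push Not at h
    exact hz (hin z h)
  obtain ⟨ν, hν⟩ := hze
  have hwz : ∃ τ : K, A (w + z) = τ • (w + z) := by
    by_contra h
    push Not at h
    exact hz (by simpa using sub_mem (hin _ h) hwI)
  obtain ⟨τ, hτ⟩ := hwz
  have hAw : A w ∈ LinearMap.range N := by rw [heq]; exact Submodule.subset_span (by simp)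
  by_cases hτν : τ = ν
  · refine hw τ ?_
    rw [map_add, hν, hτν, smul_add] at hτ
    simpa [hτν] using add_right_cancel hτ
  · refine hz ((Submodule.smul_mem_iff _ (sub_ne_zero.2 hτν)).1 ?_)
    rw [show (τ - ν) • z = A w - τ • w by
      rw [map_add, hν] at hτ
      linear_combination (norm := module) -hτ]
    exact sub_mem hAw ((LinearMap.range N).smul_mem τ hwI)

theorem proj_prod {P W : Type v} [AddCommGroup P] [Module K P] [AddCommGroup W] [Module K W] (χ : P →ₗ[K] K) :
    ∀ (k : ℕ) (L : Fin k → (P × W) ≃ₗ[K] P × W) (L' : Fin k → (K × W) ≃ₗ[K] K × W),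
      (∀ i p, (χ (L i p).1, (L i p).2) = L' i (χ p.1, p.2)) → ∀ p,
      (χ ((List.ofFn L).prod p).1, ((List.ofFn L).prod p).2) = (List.ofFn L').prod (χ p.1, p.2) := by
  intro k
  induction k with
  | zero => intro L L' _ p; simp [one_apply']
  | succ k ih =>
    intro L L' hL p
    rw [List.ofFn_succ, List.ofFn_succ, List.prod_cons, List.prod_cons, mul_apply', mul_apply', hL,
      ih _ _ (fun i => hL i.succ)]

section Rows

variable {P W : Type v} [AddCommGroup P] [Module K P] [AddCommGroup W] [Module K W] [FiniteDimensional K W]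

/-- Corners with values in a space on which all factors are one scalar. -/
theorem exists_rows (bP : Basis (Fin 2) K P) (c : Kˣ) {k : ℕ} (Z : Fin k → W →ₗ[K] P) (B : Fin k → W ≃ₗ[K] W)
    (hno : ∀ x : W, x ≠ 0 → ¬ ∀ i, B i x = (c : K) • x) (R : W →ₗ[K] P) :
    ∃ T : Fin k → W →ₗ[K] P,
      (List.ofFn fun i => triE 1 (T i) 1 * triE (LinearEquiv.smulOfUnit c) (Z i) (B i) * (triE 1 (T i) 1)⁻¹).prod =
        triE (LinearEquiv.smulOfUnit (c ^ k)) R (List.ofFn B).prod := by
  have row : ∀ j, ∃ t : Fin k → W →ₗ[K] K, (List.ofFn fun i => up 1 (t i) 1 *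
      up c ((bP.coord j).comp (Z i)) (B i) * (up 1 (t i) 1)⁻¹).prod = up (c ^ k) ((bP.coord j).comp R) (List.ofFn B).prod := by
    intro j
    let l : List (Datum K W) := List.ofFn fun i => (c, (bP.coord j).comp (Z i), B i)
    obtain ⟨R₀, hR₀⟩ := prod_val l
    have hfst : (l.map Prod.fst).prod = c ^ k := by simp [l, List.map_ofFn, Function.comp_def]
    have hthird : (l.map (·.2.2)).prod = (List.ofFn B).prod := by simp [l, List.map_ofFn, Function.comp_def]
    obtain ⟨ts, hts, htp⟩ := exists_corner_add l R₀ ((bP.coord j).comp R - R₀) hR₀ fun x hx => by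
      by_cases hx0 : x = 0
      · simp [hx0]
      · exact absurd (fun i => hx (c, (bP.coord j).comp (Z i), B i) (List.mem_ofFn.2 ⟨i, rfl⟩)) (hno x hx0)
    rw [add_sub_cancel, hfst, hthird] at htp
    have hlen : ts.length = k := by rw [hts]; simp [l]
    refine ⟨fun i => ts[(i : ℕ)]'(by rw [hlen]; exact i.2), ?_⟩
    rw [← htp]
    congr 1
    exact List.ext_getElem (by simp [hts, l]) fun i h1 h2 => by simp [l, Datum.val]
  choose t ht using row
  refine ⟨fun i => (t 0 i).smulRight (bP 0) + (t 1 i).smulRight (bP 1), ?_⟩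
  -- both rows determine the factors
  let L : Fin k → (P × W) ≃ₗ[K] P × W := fun i =>
    triE 1 ((t 0 i).smulRight (bP 0) + (t 1 i).smulRight (bP 1)) 1 * triE (LinearEquiv.smulOfUnit c) (Z i) (B i) *
      (triE 1 ((t 0 i).smulRight (bP 0) + (t 1 i).smulRight (bP 1)) 1)⁻¹
  have proj := fun j : Fin 2 => proj_prod (W := W) (bP.coord j) k L
  refine LinearEquiv.ext fun p => Prod.ext (bP.ext_elem fun j => ?_) ?_
  · have h := proj j (fun i => up 1 (t j i) 1 * up c ((bP.coord j).comp (Z i)) (B i) * (up 1 (t j i) 1)⁻¹)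
      (fun i q => by
        rw [conj_trans, up_apply]
        obtain ⟨q', rfl⟩ := (triE (1 : P ≃ₗ[K] P) ((t 0 i).smulRight (bP 0) + (t 1 i).smulRight (bP 1)) 1).surjective q
        rw [mul_apply', mul_apply', inv_apply']
        fin_cases j <;>
          simp [triE_apply, smulOfUnit_apply', one_apply', Finsupp.single_apply] <;> ring) p
    rw [ht] at h
    simpa [triE_apply, up_apply, smulOfUnit_apply'] using congrArg Prod.fst h
  · have h := proj 0 (fun i => up 1 (t 0 i) 1 * up c ((bP.coord 0).comp (Z i)) (B i) * (up 1 (t 0 i) 1)⁻¹)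
      (fun i q => by
        rw [conj_trans, up_apply]
        obtain ⟨q', rfl⟩ := (triE (1 : P ≃ₗ[K] P) ((t 0 i).smulRight (bP 0) + (t 1 i).smulRight (bP 1)) 1).surjective q
        rw [mul_apply', mul_apply', inv_apply']
        simp [triE_apply, smulOfUnit_apply', one_apply', Finsupp.single_apply] <;> ring) p
    rw [ht] at h
    simpa [triE_apply, up_apply] using congrArg Prod.snd h

end Rows

theorem exists_tri_scalar {P W : Type v} [AddCommGroup P] [Module K P] [AddCommGroup W] [Module K W]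
    [FiniteDimensional K W] (c : Kˣ) {f : (P × W) ≃ₗ[K] P × W} (hf : ∀ p : P, f (p, 0) = ((c : K) • p, 0)) :
    ∃ (Z : W →ₗ[K] P) (B : W ≃ₗ[K] W), f = triE (LinearEquiv.smulOfUnit c) Z B := by
  let Z : W →ₗ[K] P := (LinearMap.fst K P W).comp (f.toLinearMap.comp (LinearMap.inr K P W))
  let B₀ : W →ₗ[K] W := (LinearMap.snd K P W).comp (f.toLinearMap.comp (LinearMap.inr K P W))
  have key : ∀ q x, f (q, x) = ((c : K) • q + Z x, B₀ x) := fun q x => by
    rw [show ((q, x) : P × W) = (q, 0) + (0, x) by simp, map_add, hf]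
    exact Prod.ext (by simp [Z]) (by simp [B₀])
  have hinj : Function.Injective B₀ := (injective_iff_map_eq_zero B₀).2 fun x hx => by
    have : f (-(((c⁻¹ : Kˣ) : K) • Z x), x) = f (0, 0) := by
      rw [key, key, hx]
      simp [smul_smul]
    exact (Prod.ext_iff.1 (f.injective this)).2
  exact ⟨Z, LinearEquiv.ofInjectiveEndo B₀ hinj, LinearEquiv.ext fun ⟨q, x⟩ => key q x⟩

/-- An eigenplane without splitting, from dimension five. -/
theorem prdScalar_plane [Fintype K] (hF : 4 ≤ Fintype.card K) (h5 : 5 ≤ finrank K V) {A : V ≃ₗ[K] V}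
    (hdA : dt A = 1) (hs : ¬ (A : V →ₗ[K] V).charpoly.Splits) {c : Kˣ} {u₁ u₂ : V}
    (hu : LinearIndependent K ![u₁, u₂]) (hu₁ : A u₁ = (c : K) • u₁) (hu₂ : A u₂ = (c : K) • u₂) : PrdScalar A := by
  classical
  obtain ⟨v₁, v₂, h4⟩ := exists_plane hF h5 (A := A) (not_R1_of_not_splits hs)
  have hv : LinearIndependent K ![v₁, v₂] := by
    have e := h4.comp ![0, 1] (by intro a b h; fin_cases a <;> fin_cases b <;> simp at h ⊢)
    convert e using 1
    funext i; fin_cases i <;> rfl
  obtain ⟨N, hN, hNd⟩ := exists_map ![u₁, u₂] ![v₁, v₂] hu hv (by simp; omega) 1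
  let A₀ := N * A * N⁻¹
  have hA₀v : A₀ v₁ = (c : K) • v₁ ∧ A₀ v₂ = (c : K) • v₂ := by
    have n1 : N u₁ = v₁ := hN 0
    have n2 : N u₂ = v₂ := hN 1
    constructor
    · rw [mul_apply', mul_apply', inv_apply_eq N n1, hu₁, map_smul, n1]
    · rw [mul_apply', mul_apply', inv_apply_eq N n2, hu₂, map_smul, n2]
  set n := finrank K V
  let m := n - 2
  let k : Kˣ := c ^ m
  -- the first free factor
  have h4' : LinearIndependent K ![A v₁, A v₂, v₁, v₂] := by
    have e := h4.comp ![2, 3, 0, 1] (by intro a b h; fin_cases a <;> fin_cases b <;> simp at h ⊢)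
    convert e using 1
    funext i; fin_cases i <;> rfl
  have hk4 : LinearIndependent K ![v₁, v₂, (k : K) • A v₁, (k : K) • A v₂] := by
    have e := h4.units_smul ![1, 1, k, k]
    convert e using 1
    funext i; fin_cases i <;> simp [Units.smul_def]
  obtain ⟨M, hM, hMd⟩ := exists_map _ _ h4' hk4 (by simp; omega) 1
  let X := M * A * M⁻¹
  have hX : ∀ v, v = v₁ ∨ v = v₂ → X⁻¹ v = (k : K) • A v := by
    have m0 : M (A v₁) = v₁ := hM 0
    have m1 : M (A v₂) = v₂ := hM 1
    have m2 : M v₁ = (k : K) • A v₁ := hM 2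
    have m3 : M v₂ = (k : K) • A v₂ := hM 3
    rintro v (rfl | rfl) <;>
      refine inv_apply_eq X ?_ <;>
      simp only [X, mul_apply'] 
    · rw [inv_apply_eq M m2, m0]
    · rw [inv_apply_eq M m3, m1]
  set P := Submodule.span K (Set.range ![v₁, v₂])
  set S₄ := Submodule.span K (Set.range ![v₁, v₂, A v₁, A v₂])
  have hPS : P ≤ S₄ := Submodule.span_mono (by
    rintro _ ⟨i, rfl⟩; fin_cases i
    exacts [⟨0, rfl⟩, ⟨1, rfl⟩])
  have hAPS : ∀ p ∈ P, A p ∈ S₄ := fun p hp => by
    refine Submodule.span_induction (p := fun z _ => A z ∈ S₄) ?_ (by simp)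
      (fun a b _ _ ha hb => by rw [map_add]; exact add_mem ha hb)
      (fun a z _ hz => by rw [map_smul]; exact S₄.smul_mem a hz) hp
    rintro _ ⟨i, rfl⟩; fin_cases i
    exacts [Submodule.subset_span ⟨2, rfl⟩, Submodule.subset_span ⟨3, rfl⟩]
  have hdisj : ∀ p ∈ P, A p ∈ P → p = 0 := fun p hp hAp => by
    obtain ⟨a, ha⟩ := (Submodule.mem_span_range_iff_exists_fun K).1 hp
    obtain ⟨b, hb⟩ := (Submodule.mem_span_range_iff_exists_fun K).1 hAp
    rw [← ha] at hb
    simp only [Fin.sum_univ_two, Matrix.cons_val_zero, Matrix.cons_val_one, map_add, map_smul] at hb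
    have h := Fintype.linearIndependent_iff.1 h4 ![b 0, b 1, -a 0, -a 1] (by
      simp only [Fin.sum_univ_four, Matrix.cons_val_zero, Matrix.cons_val_one, Matrix.cons_val, neg_smul]
      linear_combination (norm := module) hb)
    have a0 : a 0 = 0 := by simpa using h 2
    have a1 : a 1 = 0 := by simpa using h 3
    simp [← ha, Fin.sum_univ_two, a0, a1]
  -- a variant of it, one of which has non-scalar quotient
  obtain ⟨x, hxS, hyS⟩ : ∃ x, x ∉ S₄ ∧ X⁻¹ x ∉ S₄ := by
    by_contra hno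
    push Not at hno
    have hle : ∀ x, X⁻¹ x ∈ S₄ := fun x => by
      by_cases hx : x ∈ S₄
      · obtain ⟨z, hz⟩ : ∃ z, z ∉ S₄ := by
          by_contra h
          push Not at h
          have := Submodule.finrank_mono (show ⊤ ≤ S₄ from fun x _ => h x)
          rw [finrank_top, finrank_span_eq_card h4, Fintype.card_fin] at this
          omega
        have := sub_mem (hno (x + z) fun h => hz (by simpa using sub_mem h hx)) (hno z hz)
        simpa using this
      · exact hno x hx
    have := Submodule.finrank_mono (show ⊤ ≤ S₄ from fun x _ => by simpa [inv_apply'] using hle (X x))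
    rw [finrank_top, finrank_span_eq_card h4, Fintype.card_fin] at this
    omega
  obtain ⟨ψ, hψ4, hψx, hψy⟩ : ∃ ψ : V →ₗ[K] K, (∀ s ∈ S₄, ψ s = 0) ∧ ψ x = 1 ∧ ψ (X⁻¹ x) ≠ 0 := by
    have get : ∀ z, z ∉ S₄ → ∃ ψ : V →ₗ[K] K, (∀ s ∈ S₄, ψ s = 0) ∧ ψ z ≠ 0 := fun z hz => by
      obtain ⟨ψ, h1, h2⟩ := Submodule.exists_dual_map_eq_bot_of_notMem hz inferInstance
      refine ⟨ψ, fun s hs => ?_, h1⟩
      have := Submodule.mem_map_of_mem (f := ψ) hs
      rwa [h2, Submodule.mem_bot] at this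
    obtain ⟨p, hp, hpx⟩ := get x hxS
    obtain ⟨r, hr, hry⟩ := get _ hyS
    obtain ⟨ψ, h1, h2, h3⟩ : ∃ ψ : V →ₗ[K] K, (∀ s ∈ S₄, ψ s = 0) ∧ ψ x ≠ 0 ∧ ψ (X⁻¹ x) ≠ 0 := by
      by_cases e1 : p (X⁻¹ x) = 0
      · by_cases e2 : r x = 0
        · exact ⟨p + r, fun s hs => by simp [hp s hs, hr s hs], by rw [LinearMap.add_apply, e2, add_zero]; exact hpx,
            by rw [LinearMap.add_apply, e1, zero_add]; exact hry⟩
        · exact ⟨r, hr, e2, hry⟩
      · exact ⟨p, hp, hpx, e1⟩
    exact ⟨(ψ x)⁻¹ • ψ, fun s hs => by simp [h1 s hs], by rw [LinearMap.smul_apply, smul_eq_mul, inv_mul_cancel₀ h2],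
      by rw [LinearMap.smul_apply, smul_eq_mul]; exact mul_ne_zero (inv_ne_zero h2) h3⟩
  have hv₁P : v₁ ∈ P := Submodule.subset_span ⟨0, rfl⟩
  have hv₁0 : ψ v₁ = 0 := hψ4 v₁ (hPS hv₁P)
  let τ := pRefl v₁ ψ (by rw [hv₁0, add_zero]; exact one_ne_zero)
  have hτd : LinearEquiv.det τ = 1 := Units.ext (by rw [det_pRefl, hv₁0, add_zero]; rfl)
  have hτS : ∀ s ∈ S₄, τ s = s := fun s hs => by rw [pRefl_apply, hψ4 s hs, zero_smul, add_zero]
  let X' := τ * X * τ⁻¹
  have hX' : ∀ v, v = v₁ ∨ v = v₂ → X'⁻¹ v = (k : K) • A v := by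
    intro v hv
    have hvP : v ∈ P := by rcases hv with rfl | rfl <;> [exact hv₁P; exact Submodule.subset_span ⟨1, rfl⟩]
    show (τ * X * τ⁻¹)⁻¹ v = _
    rw [show (τ * X * τ⁻¹)⁻¹ = τ * X⁻¹ * τ⁻¹ by group, mul_apply', mul_apply', inv_apply_eq τ (hτS v (hPS hvP)),
      hX v hv, hτS _ (S₄.smul_mem _ (hAPS v hvP))]
  obtain ⟨Y, hYC, hY, hYns⟩ : ∃ Y ∈ Cl A, (∀ v, v = v₁ ∨ v = v₂ → Y⁻¹ v = (k : K) • A v) ∧
      ∀ t : K, ∃ z, (A⁻¹ * Y⁻¹) z - t • z ∉ P := by
    by_contra hno
    push Not at hno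
    obtain ⟨t, ht⟩ := hno X ⟨M, fun _ => hMd, rfl⟩ hX
    obtain ⟨t', ht'⟩ := hno X' ⟨τ * M, fun _ => by rw [map_mul, hτd, hMd, one_mul], by
      simp only [X', X]; group⟩ hX'
    have e1 : X⁻¹ x - t • A x ∈ S₄ ∧ ∃ p ∈ P, X⁻¹ x = t • A x + A p := by
      have e : X⁻¹ x = t • A x + A ((A⁻¹ * X⁻¹) x - t • x) := by
        rw [map_sub, map_smul, mul_apply', apply_inv]; abel
      exact ⟨by rw [e, add_sub_cancel_left]; exact hAPS _ (ht x), _, ht x, e⟩
    obtain ⟨-, p, hp, ep⟩ := e1
    have hAx : A x ∉ S₄ := fun h => hyS (by rw [ep]; exact add_mem (S₄.smul_mem t h) (hAPS p hp))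
    have hx' : τ x = x + v₁ := by rw [pRefl_apply, hψx, one_smul]
    have e2 : X'⁻¹ (x + v₁) = X⁻¹ x + ψ (X⁻¹ x) • v₁ := by
      rw [show X'⁻¹ = τ * X⁻¹ * τ⁻¹ by simp only [X']; group, mul_apply', mul_apply', inv_apply_eq τ hx', pRefl_apply]
    set q := (A⁻¹ * X'⁻¹) (x + v₁) - t' • (x + v₁) with hq
    have e3 : X'⁻¹ (x + v₁) = t' • A x + t' • A v₁ + A q := by
      rw [show A q = X'⁻¹ (x + v₁) - t' • A (x + v₁) by rw [hq, map_sub, map_smul, mul_apply', apply_inv],
        map_add A, smul_add]; abel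
    have e4 : (t - t') • A x = -(ψ (X⁻¹ x) • v₁) + A (t' • v₁ + q - p) := by
      rw [e2] at e3
      rw [map_sub, map_add, map_smul]
      linear_combination (norm := module) e3 - ep
    have htt : t = t' := by
      by_contra h
      refine hAx ((Submodule.smul_mem_iff _ (sub_ne_zero.2 h)).1 ?_)
      rw [e4]
      exact add_mem (neg_mem (S₄.smul_mem _ (hPS hv₁P)))
        (hAPS _ (sub_mem (add_mem (P.smul_mem _ hv₁P) (ht' _)) hp))
    rw [htt, sub_self, zero_smul] at e4
    have hmem : t' • v₁ + q - p ∈ P := sub_mem (add_mem (P.smul_mem _ hv₁P) (ht' _)) hp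
    have hz := hdisj _ hmem (by
      rw [show A (t' • v₁ + q - p) = ψ (X⁻¹ x) • v₁ by linear_combination (norm := module) -e4]
      exact P.smul_mem _ hv₁P)
    rw [hz, map_zero, add_zero, eq_comm, neg_eq_zero, smul_eq_zero] at e4
    exact hv.ne_zero 0 (e4.resolve_left hψy)
  -- coordinates along the plane
  let h := A⁻¹ * Y⁻¹
  have hPd : finrank K P = 2 := (finrank_span_eq_card hv).trans (by simp)
  obtain ⟨W, hW⟩ := P.exists_isCompl
  let Φ := Submodule.prodEquivOfIsCompl P W hW
  have hWd : finrank K W = m := by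
    have := Submodule.finrank_add_eq_of_isCompl hW
    simp only [m]; omega
  have onP : ∀ (f : V ≃ₗ[K] V) (a : K), f v₁ = a • v₁ → f v₂ = a • v₂ → ∀ p : P, f p = a • (p : V) := fun f a h1 h2 p => by
    obtain ⟨g, hg⟩ := (Submodule.mem_span_range_iff_exists_fun K).1 p.2
    rw [← hg]
    simp only [Fin.sum_univ_two, Matrix.cons_val_zero, Matrix.cons_val_one, map_add, map_smul, h1, h2]
    module
  have triOf : ∀ (f : V ≃ₗ[K] V) (a : Kˣ), f v₁ = (a : K) • v₁ → f v₂ = (a : K) • v₂ →
      ∃ (Z : W →ₗ[K] P) (B : W ≃ₗ[K] W), conjHom Φ.symm f = triE (LinearEquiv.smulOfUnit a) Z B := fun f a h1 h2 =>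
    exists_tri_scalar a fun p => by
      rw [conjHom_apply, LinearEquiv.symm_symm, LinearEquiv.symm_apply_eq]
      simp [Φ, onP f a h1 h2 p]
  obtain ⟨ZA, A₂, hA₂⟩ := triOf A₀ c hA₀v.1 hA₀v.2
  obtain ⟨Zh, h₂, hh₂⟩ := triOf h k
    (by rw [mul_apply', hY v₁ (Or.inl rfl), map_smul, inv_apply'])
    (by rw [mul_apply', hY v₂ (Or.inr rfl), map_smul, inv_apply'])
  have modP : ∀ (f : V ≃ₗ[K] V) (a : Kˣ) (Z : W →ₗ[K] P) (B : W ≃ₗ[K] W),
      conjHom Φ.symm f = triE (LinearEquiv.smulOfUnit a) Z B → ∀ z : V, ∀ y : W, y = (Φ.symm z).2 →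
      ∀ w : W, B y = w → f z - (w : V) ∈ P := fun f a Z B e z y hy w hw => by
    have h1 : f z = Φ (triE (LinearEquiv.smulOfUnit a) Z B (Φ.symm z)) := by
      rw [← e, conjHom_apply]; simp
    rw [h1, triE_apply, ← hy, hw]
    simp [Φ]
    exact add_mem (Submodule.coe_mem _) (Submodule.coe_mem _)
  have split : ∀ z : V, z - ((Φ.symm z).2 : V) ∈ P := fun z => by
    have : z = ((Φ.symm z).1 : V) + (Φ.symm z).2 := (Φ.apply_symm_apply z).symm.trans rfl
    rw [show z - ((Φ.symm z).2 : V) = ((Φ.symm z).1 : V) by rw [sub_eq_iff_eq_add]; exact this]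
    exact Submodule.coe_mem _
  have hh₂ns : NS (K := K) h₂ := fun κ => by
    by_contra hno
    push Not at hno
    obtain ⟨z, hz⟩ := hYns κ
    refine hz ?_
    have h1 := modP h k Zh h₂ hh₂ z _ rfl _ (hno _)
    have h2 := P.smul_mem κ (split z)
    have := sub_mem h1 h2
    convert this using 1
    simp only [Submodule.coe_smul]
    module
  have hA₂no : ∀ μ : K, ¬ R1 A₂ μ := fun μ ⟨a, φ, ha⟩ => by
    let P₀ := Submodule.span K (Set.range ![u₁, u₂])
    refine no_R1mod_of_not_splits hs (U₀ := P₀) (c := (c : K)) (fun z hz => ?_) μ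
      ⟨N⁻¹ (a : V), φ.comp ((LinearMap.snd K P W).comp (Φ.symm.toLinearMap.comp N.toLinearMap)), fun z => ?_⟩
    · obtain ⟨g, hg⟩ := (Submodule.mem_span_range_iff_exists_fun K).1 hz
      rw [← hg]
      simp only [Fin.sum_univ_two, Matrix.cons_val_zero, Matrix.cons_val_one, map_add, map_smul, hu₁, hu₂]
      module
    · have h1 := modP A₀ c ZA A₂ hA₂ (N z) _ rfl _ (ha _)
      have h2 := P.smul_mem μ (split (N z))
      have h3 : N (A z - μ • z - φ (Φ.symm (N z)).2 • N⁻¹ (a : V)) ∈ P := by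
        have := sub_mem h1 h2
        convert this using 1
        simp only [map_sub, map_smul, apply_inv, Submodule.coe_add, Submodule.coe_smul, A₀, mul_apply', inv_apply']
        module
      obtain ⟨g, hg⟩ := (Submodule.mem_span_range_iff_exists_fun K).1 h3
      refine (Submodule.mem_span_range_iff_exists_fun K).2 ⟨g, N.injective ?_⟩
      rw [LinearMap.comp_apply, LinearMap.comp_apply, LinearMap.comp_apply]
      refine Eq.trans ?_ hg
      simp only [Fin.sum_univ_two, Matrix.cons_val_zero, Matrix.cons_val_one, map_add, map_smul]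
      rw [show N u₁ = v₁ from hN 0, show N u₂ = v₂ from hN 1]
  have hA₂ns : NS (K := K) A₂ := fun κ => by
    by_contra hno
    push Not at hno
    exact hA₂no κ ⟨0, 0, fun z => by simp [hno z]⟩
  -- determinants
  have dtTri : ∀ (f : V ≃ₗ[K] V) (a : Kˣ) (Z : W →ₗ[K] P) (B : W ≃ₗ[K] W),
      conjHom Φ.symm f = triE (LinearEquiv.smulOfUnit a) Z B → dt f = (a : K) ^ 2 * dt B := fun f a Z B e => by
    have h1 := congrArg dt e
    rw [show dt (conjHom Φ.symm f) = dt f by simp only [dt, det_conjHom]] at h1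
    rw [h1, dt, det_triE, Units.val_mul, show ((LinearEquiv.det (LinearEquiv.smulOfUnit a : P ≃ₗ[K] P) : Kˣ) : K) = _
      from dt_smulOfUnit a, hPd]
  have hd₂ : dt h₂ = dt A₂ ^ m := by
    have e1 := dtTri A₀ c ZA A₂ hA₂
    have e2 := dtTri h k Zh h₂ hh₂
    rw [show dt A₀ = 1 by rw [← hdA]; simp [A₀, dt, map_mul, map_inv]] at e1
    have hYd : dt Y = 1 := by rw [dt, det_of_mem_Cl hYC]; exact hdA
    rw [show dt h = 1 by
      simp only [h, dt, map_mul, map_inv, Units.val_mul, Units.val_inv_eq_inv_val]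
      simp only [dt] at hdA hYd
      rw [hdA, hYd]; simp] at e2
    have : ((c : K) ^ 2 * dt A₂) ^ m = 1 := by rw [← e1, one_pow]
    rw [mul_pow, ← pow_mul, mul_comm 2 m, pow_mul] at this
    simp only [k, Units.val_pow_eq_pow_val] at e2
    exact mul_left_cancel₀ (pow_ne_zero 2 (pow_ne_zero m c.ne_zero)) (e2.symm.trans this.symm)
  obtain ⟨l, hl, hC, hp, hno⟩ := good_main hF m W hWd (by simp only [m]; omega) A₂ h₂ hA₂ns hh₂ns hd₂
    (fun e => by
      rcases e with ⟨-, μ, h1, -⟩ | ⟨h2, -⟩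
      · exact hA₂no μ h1
      · simp only [m] at hWd; omega) (c : K)
  obtain ⟨k', B, rfl⟩ : ∃ (k' : ℕ) (B : Fin k' → W ≃ₗ[K] W), l = List.ofFn B :=
    ⟨_, fun i => l[i], (List.ofFn_getElem (xs := l)).symm⟩
  have hZ : ∀ i, ∃ Z, triE (LinearEquiv.smulOfUnit c) Z (B i) ∈ Cl (conjHom Φ.symm A) := fun i => by
    obtain ⟨Q, hQ, hQe⟩ := hC (B i) (List.mem_ofFn.2 ⟨i, rfl⟩)
    refine ⟨ZA.comp (Q⁻¹).toLinearMap, Cl_of_conj (M := conjHom Φ.symm N) (fun _ => by rw [det_conjHom]; exact hNd) ?_⟩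
    rw [← map_inv, ← map_mul, ← map_mul, hA₂]
    refine ⟨triE 1 0 Q, fun _ => by rw [det_triE, hQ (by simp only [m] at hWd; omega), map_one, one_mul], ?_⟩
    rw [hQe, eq_mul_inv_iff_mul_eq, triE_mul, triE_mul]
    congr 1
    all_goals first
      | (ext z; simp [inv_apply', one_apply']; done)
      | group
  choose Z hZ using hZ
  obtain ⟨T, hT⟩ := exists_rows (basisOfLinearIndependentOfCardEqFinrank
    (b := fun i : Fin 2 => (⟨![v₁, v₂] i, Submodule.subset_span ⟨i, rfl⟩⟩ : P))
    (LinearIndependent.of_comp P.subtype hv) (by simp [hPd])) c Z B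
    (fun z hz hall => hno z hz fun f hf => by obtain ⟨i, rfl⟩ := List.mem_ofFn.1 hf; exact hall i) Zh
  rw [List.length_ofFn] at hl
  rw [hp, show c ^ k' = k by simp only [k]; rw [hl], ← hh₂] at hT
  refine ⟨1, Y :: A :: (List.ofFn fun i => triE 1 (T i) 1 * triE (LinearEquiv.smulOfUnit c) (Z i) (B i) *
    (triE 1 (T i) 1)⁻¹).map (conjHom Φ), ?_, fun f hf => ?_, ?_⟩
  · simp [hl, m]; omega
  · simp only [List.mem_cons] at hf
    rcases hf with rfl | rfl | hf
    · exact hYC
    · exact self_mem_Cl _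
    · obtain ⟨g, hg, rfl⟩ := List.mem_map.1 hf
      obtain ⟨i, rfl⟩ := List.mem_ofFn.1 hg
      have := mem_Cl_conjHom Φ (Cl_conj (hZ i) (triE 1 (T i) 1) fun _ => by rw [det_triE, map_one, map_one, one_mul])
      rwa [show conjHom Φ (conjHom Φ.symm A) = A from conjHom_symm Φ A] at this
  · rw [List.prod_cons, List.prod_cons, List.prod_hom, hT, conjHom_symm]
    refine LinearEquiv.ext fun z => ?_
    simp [h, mul_apply', smulOfUnit_apply', apply_inv]

end Cfsg.Agent.Classical.CovPSL
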