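import Cfsg.Agent.Lib.Classical.CovPSL.Plane

set_option autoImplicit false

/-! A quadratic semisimple part: four conjugates give a scalar. -/

namespace Cfsg.Agent.Classical.CovPSL

open Module Polynomial

universe u v

variable {K : Type u} [Field K] {V : Type v} [AddCommGroup V] [Module K V]

attribute [local instance] Classical.propDecidable

/-- A quadratic relation without roots. -/
structure Quad (S : V →ₗ[K] V) (b c : K) : Prop where
  noRoot : ∀ t : K, t * t + b * t + c ≠ 0
  rel : ∀ x, S (S x) = -(b • S x) - c • x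

theorem Quad.eq_zero {S : V →ₗ[K] V} {b c : K} (h : Quad S b c) {x : V} {t : K} (hx : S x = t • x) : x = 0 := by
  have e := h.rel x
  rw [hx, map_smul, hx] at e
  have : (t * t + b * t + c) • x = 0 := by linear_combination (norm := module) e
  exact (smul_eq_zero.1 this).resolve_left (h.noRoot t)

theorem quad_ne {b c : K} (h : ∀ t : K, t * t + b * t + c ≠ 0) : c ≠ 0 := fun e => h 0 (by rw [e]; ring)

theorem quad_disc [Finite K] {b c : K} (h : ∀ t : K, t * t + b * t + c ≠ 0) : b * b - 4 * c ≠ 0 := fun e => by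
  by_cases h2 : (2 : K) = 0
  · have h4 : (4 : K) = 0 := by linear_combination (2 : K) * h2
    have hb : b = 0 := by
      have : b * b = 0 := by linear_combination e + c * h4
      exact mul_self_eq_zero.1 this
    haveI := CharTwo.of_one_ne_zero_of_two_eq_zero (R := K) one_ne_zero h2
    obtain ⟨r, hr⟩ := FiniteField.isSquare_of_char_two (F := K) (ringChar.eq K 2) c
    exact h r (by rw [hb, ← hr]; linear_combination c * h2)
  · refine h (-(b / 2)) ?_
    field_simp
    linear_combination -e

theorem Quad.span_free [FiniteDimensional K V] {S : V →ₗ[K] V} {b c : K} (h : Quad S b c) :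
    ∃ (L : Submodule K V) (Φ : (L × L) ≃ₗ[K] V), ∀ p, Φ p = (p.1 : V) + S p.2 := by
  let free : Set (Submodule K V) := {L | ∀ l ∈ L, ∀ m ∈ L, l + S m = 0 → l = 0 ∧ m = 0}
  obtain ⟨L, hL, hmax⟩ := (wellFounded_gt (α := Submodule K V)).has_min free
    ⟨⊥, fun l hl m hm _ => ⟨(Submodule.mem_bot K).1 hl, (Submodule.mem_bot K).1 hm⟩⟩
  let Φ₀ : (L × L) →ₗ[K] V := L.subtype.coprod (S.comp L.subtype)
  have hinj : Function.Injective Φ₀ := (injective_iff_map_eq_zero Φ₀).2 fun p hp => by
    have := hL _ p.1.2 _ p.2.2 (by simpa [Φ₀] using hp)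
    exact Prod.ext (Subtype.ext this.1) (Subtype.ext this.2)
  have hT : ∀ z ∈ LinearMap.range Φ₀, S z ∈ LinearMap.range Φ₀ := by
    rintro _ ⟨⟨l, m⟩, rfl⟩
    refine ⟨(-(c • m), l - b • m), ?_⟩
    simp [Φ₀, map_add, map_sub, h.rel]
    abel
  have hsurj : LinearMap.range Φ₀ = ⊤ := by
    refine Submodule.eq_top_iff'.2 fun v => ?_
    by_contra hv
    have hkey : ∀ s t : K, t • v + s • S v ∈ LinearMap.range Φ₀ → s = 0 ∧ t = 0 := fun s t hm => by
      have hs : s = 0 := by
        by_contra hs
        have hu : S v - (-(t / s)) • v ∈ LinearMap.range Φ₀ := by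
          have := Submodule.smul_mem _ s⁻¹ hm
          rw [smul_add, smul_smul, smul_smul, inv_mul_cancel₀ hs, one_smul] at this
          convert this using 1
          rw [div_eq_inv_mul]; module
        generalize -(t / s) = u at hu
        have h1 := hT _ hu
        rw [map_sub, map_smul, h.rel] at h1
        refine hv ?_
        have h2 := Submodule.smul_mem _ (-(u * u + b * u + c))⁻¹ (add_mem h1 (Submodule.smul_mem _ (u + b) hu))
        convert h2 using 1
        rw [show -(b • S v) - c • v - u • S v + (u + b) • (S v - u • v) = (-(u * u + b * u + c)) • v by module,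
          inv_smul_smul₀ (neg_ne_zero.2 (h.noRoot u))]
      rw [hs, zero_smul, add_zero] at hm
      refine ⟨hs, by_contra fun ht => hv ?_⟩
      simpa [smul_smul, ht] using Submodule.smul_mem _ t⁻¹ hm
    refine hmax (L ⊔ K ∙ v) ?_ ?_
    · intro l hl m hm e
      obtain ⟨l₁, hl₁, z, hz, rfl⟩ := Submodule.mem_sup.1 hl
      obtain ⟨m₁, hm₁, z', hz', rfl⟩ := Submodule.mem_sup.1 hm
      obtain ⟨t, rfl⟩ := Submodule.mem_span_singleton.1 hz
      obtain ⟨s, rfl⟩ := Submodule.mem_span_singleton.1 hz'
      rw [map_add, map_smul] at e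
      obtain ⟨rfl, rfl⟩ := hkey s t ⟨-(⟨l₁, hl₁⟩, ⟨m₁, hm₁⟩), by
        simp [Φ₀]; linear_combination (norm := module) -e⟩
      simp only [zero_smul, add_zero] at e ⊢
      exact hL _ hl₁ _ hm₁ e
    · refine lt_of_le_of_ne le_sup_left fun e => hv ?_
      exact ⟨(⟨v, e ▸ Submodule.mem_sup_right (Submodule.mem_span_singleton_self v)⟩, 0), by simp [Φ₀]⟩
  exact ⟨L, LinearEquiv.ofBijective Φ₀ ⟨hinj, LinearMap.range_eq_top.1 hsurj⟩, fun p => rfl⟩

/-- The Galois conjugation. -/
theorem Quad.exists_conj [FiniteDimensional K V] {S : V →ₗ[K] V} {b c : K} (h : Quad S b c) :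
    ∃ R : V ≃ₗ[K] V, (∀ x, R (S x) = -(b • R x) - S (R x)) ∧ ∀ k, finrank K V = 4 * k → LinearEquiv.det R = 1 := by
  obtain ⟨L, Φ, hΦ⟩ := h.span_free
  refine ⟨conjHom Φ (triE (1 : L ≃ₗ[K] L) (-(b • LinearMap.id)) (LinearEquiv.neg K)), fun x => ?_, fun k hk => ?_⟩
  · obtain ⟨⟨l, m⟩, rfl⟩ := Φ.surjective x
    have e : S (Φ (l, m)) = Φ (-(c • m), l - b • m) := by
      simp [hΦ, map_add, map_sub, h.rel]; abel
    rw [e, conjHom_apply', conjHom_apply', hΦ, hΦ]
    simp [triE_apply, one_apply', h.rel, map_add, map_sub, smul_sub, smul_add, smul_smul]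
    module
  · refine Units.ext ?_
    have hd : finrank K L = 2 * k := by
      have := Φ.finrank_eq
      rw [Module.finrank_prod] at this
      omega
    rw [det_conjHom, det_triE, map_one, one_mul, LinearEquiv.coe_det]
    show LinearMap.det (-LinearMap.id : L →ₗ[K] L) = _
    rw [← neg_one_smul K LinearMap.id, LinearMap.det_smul, LinearMap.det_id, hd, pow_mul]
    simp

theorem prd_four_quad_core [FiniteDimensional K V] {k : ℕ} (hn : finrank K V = 4 * k) {A M : V ≃ₗ[K] V}
    {S η : V →ₗ[K] V} {b c : K} (h : Quad S b c) (hA : ∀ x, A x = S x + η x) (hc : ∀ x, S (η x) = η (S x))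
    (hη : ∀ x, η (η x) = 0) (hMd : LinearEquiv.det M = 1) (hMS : ∀ x, M (S x) = S (M x))
    (hMη : ∀ x, M (η x) = -η (M x)) : ∃ ζ : Kˣ, Prd A 4 (LinearEquiv.smulOfUnit ζ) := by
  obtain ⟨R, hR, hRd⟩ := h.exists_conj
  have hRd' := hRd k hn
  have hB : ∀ x, (M * A * M⁻¹) x = S x - η x := fun x => by
    obtain ⟨y, rfl⟩ := M.surjective x
    rw [mul_apply', mul_apply', inv_apply', hA, map_add, hMS, hMη]
    abel
  have hAB : ∀ x, (A * (M * A * M⁻¹)) x = S (S x) := fun x => by
    rw [mul_apply', hB, map_sub, hA, hA, hc, hη]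
    abel
  refine ⟨Units.mk0 (c * c) (mul_ne_zero (quad_ne h.noRoot) (quad_ne h.noRoot)),
    [A, M * A * M⁻¹, R * A * R⁻¹, (R * M) * A * (R * M)⁻¹], rfl, fun X hX => ?_, LinearEquiv.ext fun x => ?_⟩
  · simp only [List.mem_cons, List.not_mem_nil, or_false] at hX
    rcases hX with h' | h' | h' | h' <;> rw [h']
    exacts [self_mem_Cl A, ⟨M, fun _ => hMd, rfl⟩, ⟨R, fun _ => hRd', rfl⟩,
      ⟨R * M, fun _ => by rw [map_mul, hRd', hMd, one_mul], rfl⟩]
  · rw [List.prod_cons, List.prod_cons, List.prod_cons, List.prod_singleton,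
      show A * (M * A * M⁻¹ * (R * A * R⁻¹ * (R * M * A * (R * M)⁻¹))) =
        (A * (M * A * M⁻¹)) * (R * (A * (M * A * M⁻¹)) * R⁻¹) by group, mul_apply', hAB, mul_apply', mul_apply']
    obtain ⟨y, rfl⟩ := R.surjective x
    rw [inv_apply', hAB, hR, hR, smulOfUnit_apply', Units.val_mk0]
    simp [h.rel, map_sub, map_neg, smul_sub, smul_smul]
    module

variable [FiniteDimensional K V]

/-- Kernel equal to image, or everything, for a quadratic irreducible. -/
theorem prd_four_of_quad [Finite K] {k : ℕ} (hn : finrank K V = 4 * k) {A : V ≃ₗ[K] V} {q : K[X]}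
    (hq : Irreducible q) (hd : q.natDegree = 2)
    (h : aeval (A : Module.End K V) q = 0 ∨
      LinearMap.ker (aeval (A : Module.End K V) q) = LinearMap.range (aeval (A : Module.End K V) q)) :
    ∃ ζ : Kˣ, Prd A 4 (LinearEquiv.smulOfUnit ζ) := by
  obtain ⟨a, b, c, ha, hqe⟩ : ∃ a b c : K, a ≠ 0 ∧ q = C a * (X ^ 2 + C b * X + C c) := by
    have ha : q.coeff 2 ≠ 0 := by rw [← hd]; exact leadingCoeff_ne_zero.2 hq.ne_zero
    refine ⟨q.coeff 2, q.coeff 1 / q.coeff 2, q.coeff 0 / q.coeff 2, ha, ?_⟩
    conv_lhs => rw [q.as_sum_range_C_mul_X_pow, hd]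
    simp only [Finset.sum_range_succ, Finset.sum_range_zero, mul_add, ← mul_assoc, ← C_mul, mul_div_cancel₀ _ ha]
    ring
  have hno : ∀ t : K, t * t + b * t + c ≠ 0 := fun t e => by
    have h1 := natDegree_eq_of_degree_eq_some (n := 1) (by
      exact_mod_cast degree_eq_one_of_irreducible_of_root hq (x := t) (by simp [hqe, pow_two, e]))
    omega
  have hd0 := quad_disc hno
  set T : Module.End K V := (A : Module.End K V)
  set g : K[X] := X ^ 2 + C b * X + C c with hg
  set G := aeval T g
  have hG : ∀ x, G x = T (T x) + b • T x + c • x := fun x => by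
    simp [G, hg, pow_two]
  have hsc : aeval T q = a • G := by rw [hqe, map_mul, aeval_C, ← Algebra.smul_def]
  rw [hsc, LinearMap.ker_smul _ _ ha, LinearMap.range_smul _ _ ha, smul_eq_zero, or_iff_right ha] at h
  rcases h with h0 | heq
  · exact prd_four_quad_core hn (S := T) (η := 0) (b := b) (c := c) (M := 1) (A := A)
      ⟨hno, fun x => by have := hG x; rw [h0, LinearMap.zero_apply] at this; linear_combination (norm := module) -this⟩
      (fun x => by simp [T]) (fun x => by simp) (fun x => by simp) (map_one _) (fun x => rfl) (fun x => by simp [one_apply'])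
  let D : V →ₗ[K] V := (2 : K) • T + b • LinearMap.id
  let η : V →ₗ[K] V := (b * b - 4 * c)⁻¹ • G.comp D
  let S : V →ₗ[K] V := T - η
  have hTG : ∀ x, T (G x) = G (T x) := fun x => by simp [hG, map_add]
  have hGG : ∀ x, G (G x) = 0 := fun x => LinearMap.mem_ker.1 (heq ▸ LinearMap.mem_range_self G x)
  have hDD : ∀ x, D (D x) = (b * b - 4 * c) • x + (4 : K) • G x := fun x => by
    simp [D, hG, map_add, smul_add, smul_smul]; module
  have hGD : ∀ x, G (D x) = D (G x) := fun x => by simp [D, hTG, map_add]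
  have hTη : ∀ x, T (η x) = η (T x) := fun x => by
    simp [η, D, hTG, map_add]
  have hηη : ∀ x, η (η x) = 0 := fun x => by
    show (b * b - 4 * c)⁻¹ • G (D (η x)) = 0
    rw [hGD, show G (η x) = 0 by simp [η, hGG], map_zero, smul_zero]
  have hS : Quad S b c := ⟨hno, fun x => by
    have e1 : D (η x) = G x := by
      simp only [η, LinearMap.smul_apply, LinearMap.comp_apply, map_smul]
      rw [← hGD, hDD, map_add, map_smul, map_smul, hGG, smul_zero, add_zero, inv_smul_smul₀ hd0]
    have e2 : (2 : K) • T (η x) + b • η x = G x := e1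
    have e3 := hG x
    simp only [S, LinearMap.sub_apply, map_sub]
    rw [← hTη x, hηη, sub_zero, smul_sub]
    linear_combination (norm := module) -e2 - e3⟩
  set U := LinearMap.range η
  have hkerle : LinearMap.ker G ≤ LinearMap.ker η := fun x hx => by
    rw [LinearMap.mem_ker] at hx ⊢
    simp [η, hGD, hx]
  have hrle : U ≤ LinearMap.range G := by rintro _ ⟨x, rfl⟩; exact ⟨(b * b - 4 * c)⁻¹ • D x, by simp [η]⟩
  have hkU : LinearMap.ker η ≤ U := fun x hx => by
    have hx' : G x = 0 := by
      have e := congrArg D (LinearMap.mem_ker.1 hx)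
      simp only [η, LinearMap.smul_apply, LinearMap.comp_apply, map_smul, map_zero] at e
      rw [← hGD, hDD, map_add, map_smul, map_smul, hGG, smul_zero, add_zero, inv_smul_smul₀ hd0] at e
      exact e
    have hUeq : U = LinearMap.range G := by
      refine Submodule.eq_of_le_of_finrank_le hrle ?_
      have h1 : finrank K U + finrank K (LinearMap.ker η) = finrank K V := LinearMap.finrank_range_add_finrank_ker η
      have h2 := LinearMap.finrank_range_add_finrank_ker G
      have h3 : LinearMap.ker η ≤ LinearMap.ker G := fun y hy => by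
        have e := congrArg D (LinearMap.mem_ker.1 hy)
        simp only [η, LinearMap.smul_apply, LinearMap.comp_apply, map_smul, map_zero] at e
        rw [← hGD, hDD, map_add, map_smul, map_smul, hGG, smul_zero, add_zero, inv_smul_smul₀ hd0] at e
        exact e
      have h4 := Submodule.finrank_mono h3
      omega
    rw [hUeq, ← heq]; exact hx'
  have hUk : ∀ u ∈ U, η u = 0 := by rintro _ ⟨x, rfl⟩; exact hηη x
  have hUS : ∀ u ∈ U, S u ∈ U := fun u hu => by
    obtain ⟨x, rfl⟩ := hu
    exact ⟨S x, by simp [S, hTη, map_sub, hηη]⟩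
  obtain ⟨W, hW⟩ := U.exists_isCompl
  let e := Submodule.prodEquivOfIsCompl U W hW
  let P : V →ₗ[K] V := U.subtype.comp ((LinearMap.fst K U W).comp e.symm.toLinearMap)
  have hPU : ∀ x, P x ∈ U := fun x => Submodule.coe_mem _
  have hPid : ∀ u ∈ U, P u = u := fun u hu => by
    show ((e.symm u).1 : V) = u
    rw [show e.symm u = (⟨u, hu⟩, 0) by rw [LinearEquiv.symm_apply_eq]; simp [e]]
  let Q : V →ₗ[K] V := (b * b - 4 * c)⁻¹ • ((S.comp P + P.comp S + b • P).comp ((2 : K) • S + b • LinearMap.id))
  have hQU : ∀ x, Q x ∈ U := fun x => by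
    simp only [Q, LinearMap.smul_apply, LinearMap.comp_apply, LinearMap.add_apply]
    exact U.smul_mem _ (add_mem (add_mem (hUS _ (hPU _)) (hPU _)) (U.smul_mem _ (hPU _)))
  have hQid : ∀ u ∈ U, Q u = u := fun u hu => by
    simp only [Q, LinearMap.smul_apply, LinearMap.comp_apply, LinearMap.add_apply, LinearMap.id_apply]
    have hy : (2 : K) • S u + b • u ∈ U := add_mem (U.smul_mem _ (hUS u hu)) (U.smul_mem _ hu)
    rw [hPid _ hy, hPid _ (hUS _ hy), inv_smul_eq_iff₀ hd0, map_add, map_smul, map_smul, hS.rel]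
    module
  have hSQ : ∀ x, S (Q x) = Q (S x) := fun x => by
    simp only [Q, LinearMap.smul_apply, LinearMap.comp_apply, LinearMap.add_apply, LinearMap.id_apply, map_add,
      map_smul, hS.rel, map_sub, map_neg]
    module
  let M : V ≃ₗ[K] V := LinearEquiv.ofLinearMap (LinearMap.id - (2 : K) • Q) (LinearMap.id - (2 : K) • Q)
    (LinearMap.ext fun x => by simp [hQid _ (hQU x)]; module)
    (LinearMap.ext fun x => by simp [hQid _ (hQU x)]; module)
  have hM : ∀ x, M x = x - (2 : K) • Q x := fun x => rfl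
  have hMd : LinearEquiv.det M = 1 := by
    have hk : finrank K U = 2 * k := by
      have h1 : finrank K U + finrank K (LinearMap.ker η) = finrank K V := LinearMap.finrank_range_add_finrank_ker η
      have h2 : LinearMap.ker η = U := le_antisymm hkU fun u hu => hUk u hu
      rw [h2] at h1
      omega
    let Z : W →ₗ[K] U := LinearMap.codRestrict U (-((2 : K) • Q.comp W.subtype)) fun w =>
      neg_mem (U.smul_mem _ (hQU _))
    have hMe : M = conjHom e (triE (LinearEquiv.neg K) Z 1) := LinearEquiv.ext fun x => by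
      obtain ⟨⟨u, w⟩, rfl⟩ := e.surjective x
      rw [conjHom_apply', hM]
      simp [e, triE_apply, Z, one_apply', hQid _ u.2]
      module
    refine Units.ext ?_
    rw [hMe, det_conjHom, det_triE, map_one, mul_one, LinearEquiv.coe_det]
    show LinearMap.det (-LinearMap.id : U →ₗ[K] U) = _
    rw [← neg_one_smul K LinearMap.id, LinearMap.det_smul, LinearMap.det_id, hk, pow_mul]
    simp
  refine prd_four_quad_core hn (S := S) (η := η) (M := M) hS (fun x => by simp [S, T])
    (fun x => by simp [S, hTη, map_sub, hηη]) hηη hMd (fun x => by rw [hM, hM, map_sub, map_smul, hSQ]) fun x => ?_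
  rw [hM, hM, hQid _ (LinearMap.mem_range_self η x), map_sub, map_smul, hUk _ (hQU x)]
  module

end Cfsg.Agent.Classical.CovPSL
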