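import Cfsg.Agent.Lib.Classical.CovPSL.Glue
import Cfsg.Agent.Lib.Fus.CentralizerDet

set_option autoImplicit false

/-! Structure of one operator: cyclic vectors, invariant subspaces, determinants of the centraliser. -/

namespace Cfsg.Agent.Classical.CovPSL

open Module Polynomial

universe u v

variable {K : Type u} [Field K] {V : Type v} [AddCommGroup V] [Module K V]

/-- The centraliser has every determinant. -/
def Full (A : V ≃ₗ[K] V) : Prop := ∀ δ : Kˣ, ∃ C : V ≃ₗ[K] V, C * A = A * C ∧ LinearEquiv.det C = δ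

theorem aeval_comm_apply (f : Module.End K V) (p r : K[X]) (x : V) :
    aeval f p (aeval f r x) = aeval f r (aeval f p x) := by
  rw [← Module.End.mul_apply, ← map_mul, mul_comm, map_mul, Module.End.mul_apply]

theorem apply_aeval (f : Module.End K V) (r : K[X]) (x : V) : f (aeval f r x) = aeval f r (f x) := by
  simpa using aeval_comm_apply f X r x

theorem aeval_eigen {f : Module.End K V} {c : K} {x : V} (h : f x = c • x) (p : K[X]) :
    aeval f p x = p.eval c • x := by
  induction p using Polynomial.induction_on with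
  | C a => rw [aeval_C, eval_C, Module.algebraMap_end_apply]
  | add p r hp hr => simp [hp, hr, add_smul]
  | monomial k a ih => rw [pow_succ, ← mul_assoc, map_mul, Module.End.mul_apply, aeval_X, h, map_smul, ih, smul_smul]
                       congr 1
                       simp only [eval_mul, eval_C, eval_pow, eval_X]
                       ring

theorem li_iterates (f : Module.End K V) (w : V) (d : ℕ)
    (h : ∀ r : K[X], r ≠ 0 → r.natDegree < d → aeval f r w ≠ 0) :
    LinearIndependent K (fun i : Fin d => (f ^ (i : ℕ)) w) := by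
  classical
  rw [Fintype.linearIndependent_iff]
  intro c hc i
  by_contra hi
  let r : K[X] := ∑ j : Fin d, monomial (j : ℕ) (c j)
  have hcoef : ∀ j : Fin d, r.coeff j = c j := fun j => by
    simp only [r, finset_sum_coeff, coeff_monomial]
    rw [Finset.sum_eq_single j]
    · simp
    · intro b _ hb; simp [Fin.val_inj, hb]
    · simp
  have hr0 : r ≠ 0 := fun e => hi (by rw [← hcoef, e, coeff_zero])
  refine h r hr0 ((natDegree_lt_iff_degree_lt hr0).2 ((degree_sum_le _ _).trans_lt ?_)) ?_
  · refine (Finset.sup_lt_iff (WithBot.bot_lt_coe d)).2 fun j _ => ?_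
    exact (degree_monomial_le _ _).trans_lt (WithBot.coe_lt_coe.2 j.2)
  · simpa [r, map_sum, aeval_monomial, LinearMap.sum_apply] using hc

theorem irreducible_dichotomy {q : K[X]} (hq : Irreducible q) (r : K[X]) {f : Module.End K V} {w : V}
    (hw : aeval f q w = 0) : q ∣ r ∨ ∃ a : K[X], aeval f a (aeval f r w) = w := by
  refine or_iff_not_imp_left.2 fun h => ?_
  obtain ⟨a, b, hab⟩ := ((hq.coprime_iff_not_dvd).2 h)
  refine ⟨b, ?_⟩
  have e := congrArg (fun p => aeval f p w) hab
  simp only [map_add, map_mul, map_one, LinearMap.add_apply, Module.End.mul_apply, Module.End.one_apply, hw,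
    map_zero, zero_add] at e
  exact e

theorem li_irreducible {q : K[X]} (hq : Irreducible q) {f : Module.End K V} {w : V} (hw : aeval f q w = 0)
    (hw0 : w ≠ 0) : LinearIndependent K (fun i : Fin q.natDegree => (f ^ (i : ℕ)) w) :=
  li_iterates f w _ fun r hr0 hr h => by
    rcases irreducible_dichotomy hq r hw with hd | ⟨a, ha⟩
    · exact absurd (natDegree_le_of_dvd hd hr0) (by omega)
    · exact hw0 (by rw [← ha, h, map_zero])

variable [FiniteDimensional K V]

theorem li_square {q : K[X]} (hq : Irreducible q) {f : Module.End K V} {w : V} (hw : aeval f (q * q) w = 0)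
    (hqw : aeval f q w ≠ 0) : LinearIndependent K (fun i : Fin (q.natDegree + q.natDegree) => (f ^ (i : ℕ)) w) := by
  rw [map_mul, Module.End.mul_apply] at hw
  refine li_iterates f w _ fun r hr0 hr h => ?_
  rcases irreducible_dichotomy hq r hw with ⟨s, rfl⟩ | ⟨a, ha⟩
  · have hs0 : s ≠ 0 := right_ne_zero_of_mul hr0
    rw [natDegree_mul hq.ne_zero hs0] at hr
    rcases irreducible_dichotomy hq s hw with hd | ⟨a, ha⟩
    · exact absurd (natDegree_le_of_dvd hd hs0) (by omega)
    · rw [← aeval_comm_apply f q s, ← Module.End.mul_apply (aeval f q) (aeval f s), ← map_mul, h, map_zero] at ha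
      exact hqw ha.symm
  · rw [aeval_comm_apply f r q, h, map_zero, map_zero] at ha
    exact hqw ha.symm

/-- The invariant span of a short chain. -/
theorem exists_cyclic_sub (f : Module.End K V) (w : V) {d : ℕ}
    (hli : LinearIndependent K (fun i : Fin d => (f ^ (i : ℕ)) w)) {p : K[X]} (hp : p.Monic) (hdeg : p.natDegree = d)
    (hw : aeval f p w = 0) :
    ∃ U : Submodule K V, finrank K U = d ∧ (∀ x ∈ U, f x ∈ U) ∧ (∀ x ∈ U, ∃ r : K[X], x = aeval f r w) ∧
      ∀ i : Fin d, (f ^ (i : ℕ)) w ∈ U := by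
  refine ⟨Submodule.span K (Set.range fun i : Fin d => (f ^ (i : ℕ)) w), (finrank_span_eq_card hli).trans (by simp),
    fun x hx => ?_, fun x hx => ?_, fun i => Submodule.subset_span ⟨i, rfl⟩⟩
  · refine Submodule.span_induction (p := fun z _ => f z ∈ _) ?_ (by simp)
      (fun a b _ _ ha hb => by rw [map_add]; exact add_mem ha hb)
      (fun a z _ hz => by rw [map_smul]; exact Submodule.smul_mem _ a hz) hx
    rintro _ ⟨i, rfl⟩
    rcases Nat.lt_or_ge ((i : ℕ) + 1) d with h | h
    · exact Submodule.subset_span ⟨⟨(i : ℕ) + 1, h⟩, by simp [pow_succ']⟩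
    have e : f ((f ^ (i : ℕ)) w) = (f ^ d) w := by
      rw [← Module.End.mul_apply, ← pow_succ', show (i : ℕ) + 1 = d from le_antisymm i.2 h]
    rw [aeval_eq_sum_range, hdeg, Finset.sum_range_succ, LinearMap.add_apply,
      show p.coeff d = 1 by rw [← hdeg]; exact hp, one_smul, add_eq_zero_iff_neg_eq, LinearMap.sum_apply] at hw
    rw [e, ← hw]
    exact neg_mem (Submodule.sum_mem _ fun k hk => by
      rw [LinearMap.smul_apply]
      exact Submodule.smul_mem _ _ (Submodule.subset_span ⟨⟨k, Finset.mem_range.1 hk⟩, rfl⟩))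
  · obtain ⟨c, rfl⟩ := (Submodule.mem_span_range_iff_exists_fun K).1 hx
    exact ⟨∑ i : Fin d, monomial (i : ℕ) (c i), by simp [map_sum, aeval_monomial, LinearMap.sum_apply]⟩

/-- Coordinates along an invariant subspace. -/
theorem exists_tri (A : V ≃ₗ[K] V) (U : Submodule K V) (hU : ∀ x ∈ U, A x ∈ U) :
    ∃ (W : Submodule K V) (Φ : (U × W) ≃ₗ[K] V) (B : U ≃ₗ[K] U) (Z : W →ₗ[K] U) (D : W ≃ₗ[K] W),
      (∀ p, A (Φ p) = Φ (triE B Z D p)) ∧ (∀ x : U, (B x : V) = A x) ∧
      finrank K U + finrank K W = finrank K V := by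
  obtain ⟨W, hW⟩ := U.exists_isCompl
  let Φ := Submodule.prodEquivOfIsCompl U W hW
  let B₀ : U →ₗ[K] U := A.toLinearMap.restrict hU
  have hB : Function.Injective B₀ := fun x y h => Subtype.ext (A.injective (congrArg Subtype.val h))
  let Z : W →ₗ[K] U := (LinearMap.fst K U W).comp (Φ.symm.toLinearMap.comp (A.toLinearMap.comp W.subtype))
  let D₀ : W →ₗ[K] W := (LinearMap.snd K U W).comp (Φ.symm.toLinearMap.comp (A.toLinearMap.comp W.subtype))
  have key : ∀ p : U × W, A (Φ p) = Φ (B₀ p.1 + Z p.2, D₀ p.2) := fun p => by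
    rw [show (B₀ p.1 + Z p.2, D₀ p.2) = ((B₀ p.1, 0) : U × W) + Φ.symm (A p.2) from
      Prod.ext (by simp [Z]) (by simp [D₀]), map_add, LinearEquiv.apply_symm_apply]
    rw [show Φ p = (p.1 : V) + p.2 from rfl, map_add]
    simp [Φ, B₀]
  have hD : Function.Injective D₀ := (injective_iff_map_eq_zero D₀).2 fun y hy => by
    obtain ⟨x, hx⟩ := LinearMap.surjective_of_injective hB (-Z y)
    have h := key (x, y)
    rw [hx, hy] at h
    simp only [neg_add_cancel, Prod.mk_zero_zero, map_zero, LinearEquiv.map_eq_zero_iff] at h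
    exact (Prod.ext_iff.1 h).2
  exact ⟨W, Φ, LinearEquiv.ofInjectiveEndo B₀ hB, Z, LinearEquiv.ofInjectiveEndo D₀ hD, key, fun x => rfl,
    Submodule.finrank_add_eq_of_isCompl hW⟩

theorem G1.quotient {U Q : Type v} [AddCommGroup U] [Module K U] [FiniteDimensional K U] [AddCommGroup Q]
    [Module K Q] {B : U ≃ₗ[K] U} {Z : Q →ₗ[K] U} {D : Q ≃ₗ[K] Q} (hB : ∀ c : K, ¬ Eig B c)
    (hG : G1 (triE B Z D).toLinearMap) : G1 D.toLinearMap := by
  intro c x y hx hfx hfy
  obtain ⟨p, hp⟩ := surjective_sub hB c (-Z x)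
  obtain ⟨p', hp'⟩ := surjective_sub hB c (-Z y)
  simp only [LinearMap.sub_apply, LinearMap.smul_apply, LinearMap.id_apply, LinearEquiv.coe_coe] at hp hp'
  have e : ∀ (z : Q) (r : U), D z = c • z → B r - c • r = -Z z → triE B Z D (r, z) = c • (r, z) := fun z r h1 h2 => by
    rw [triE_apply, Prod.smul_mk, h1]
    exact Prod.ext (by simp only; linear_combination (norm := module) h2) rfl
  obtain ⟨t, ht⟩ := Submodule.mem_span_singleton.1
    (hG c (p, x) (p', y) (fun h => hx (Prod.ext_iff.1 h).2) (e x p hfx hp) (e y p' hfy hp'))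
  exact Submodule.mem_span_singleton.2 ⟨t, congrArg Prod.snd ht⟩

/-- Split with lines as eigenspaces. -/
theorem exists_spl_of_splits {A : V ≃ₗ[K] V} (hs : (A : V →ₗ[K] V).charpoly.Splits) (hG : G1 (A : V →ₗ[K] V)) :
    ∃ l : List K, Spl (A : V →ₗ[K] V) l ∧ l.prod = dt A ∧ ∀ a ∈ l, a ≠ 0 := by
  classical
  set l := (A : V →ₗ[K] V).charpoly.roots.toList with hl
  have hp : (A : V →ₗ[K] V).charpoly = pol l := by
    conv_lhs => rw [hs.eq_prod_roots_of_monic (LinearMap.charpoly_monic _)]
    rw [pol, hl, ← Multiset.prod_coe, ← Multiset.map_coe, Multiset.coe_toList]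
  have hlen : l.length = finrank K V := by
    rw [← pol_natDegree l, ← hp, LinearMap.charpoly_natDegree]
  have hd : l.prod = dt A := by
    rw [dt, LinearEquiv.coe_det, LinearMap.det_eq_sign_charpoly_coeff, hp, coeff_zero_eq_eval_zero, ← hlen]
    clear hp hlen hl
    induction l with
    | nil => simp [pol]
    | cons a l ih =>
      rw [pol_cons, List.prod_cons, ih, List.length_cons, eval_mul, eval_sub, eval_X, eval_C, pow_succ]
      ring
  exact ⟨l, ⟨hlen, ann_of_charpoly hp, hG⟩, hd, fun a ha e => by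
    have := Units.ne_zero (LinearEquiv.det A)
    exact this (hd.symm.trans (List.prod_eq_zero (e ▸ ha)))⟩

/-- An irreducible invariant subspace without eigenvectors. -/
theorem exists_irreducible_sub {A : V ≃ₗ[K] V} (hs : ¬ (A : V →ₗ[K] V).charpoly.Splits) :
    ∃ U : Submodule K V, ∃ hU : ∀ x ∈ U, A x ∈ U, 2 ≤ finrank K U ∧
      (∀ (c : K) (x : V), x ∈ U → x ≠ 0 → A x ≠ c • x) ∧
      ∃ w, LinearIndependent K (fun i : Fin (finrank K U) => ((A : Module.End K V).restrict hU ^ (i : ℕ)) w) := by
  classical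
  obtain ⟨g, hgi, hgd, hg2⟩ : ∃ g, Irreducible g ∧ g ∣ (A : V →ₗ[K] V).charpoly ∧ 2 ≤ g.natDegree := by
    by_contra hno
    push Not at hno
    refine hs (splits_iff_splits.2 (Or.inr fun {g} hgi hgd => ?_))
    have h1 := hno g hgi hgd
    have h2 := hgi.natDegree_pos
    exact degree_eq_iff_natDegree_eq_of_pos one_pos |>.2 (by omega)
  let g' := normalize g
  have hm : g'.Monic := monic_normalize hgi.ne_zero
  have hi : Irreducible g' := (normalize_associated g).irreducible_iff.2 hgi
  have hdeg : g'.natDegree = g.natDegree := natDegree_eq_of_degree_eq (degree_normalize)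
  obtain ⟨W, hW, hWc⟩ := InvCharpoly.exists_cyclic (A : V →ₗ[K] V) hm hi
    ((normalize_associated g).dvd.trans hgd)
  have hWd : finrank K W = g'.natDegree := by rw [← hWc, LinearMap.charpoly_natDegree]
  have hzero : aeval ((A : Module.End K V).restrict hW) g' = 0 := hWc ▸ LinearMap.aeval_self_charpoly _
  refine ⟨W, hW, by omega, fun c x hx hx0 hAx => ?_, ?_⟩
  · let x' : W := ⟨x, hx⟩
    have hx' : ((A : Module.End K V).restrict hW) x' = c • x' := Subtype.ext hAx
    have := aeval_eigen hx' g'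
    rw [hzero, LinearMap.zero_apply, eq_comm, smul_eq_zero] at this
    have hroot : g'.IsRoot c := this.resolve_right fun e => hx0 (congrArg Subtype.val e)
    have h1 := degree_eq_one_of_irreducible_of_root hi hroot
    have := natDegree_eq_of_degree_eq_some (n := 1) (by exact_mod_cast h1)
    omega
  · obtain ⟨w, hw⟩ : ∃ w : W, w ≠ 0 := by
      haveI : Nontrivial W := Module.nontrivial_of_finrank_pos (R := K) (by omega)
      exact exists_ne 0
    exact ⟨w, hWd ▸ li_irreducible hi (by rw [hzero]; rfl) hw⟩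

/-- An irreducible kernel outside the image gives every determinant. -/
theorem full_of_not_le [Finite K] {A : V ≃ₗ[K] V} {q : K[X]} (hq : Irreducible q)
    (h : ¬ LinearMap.ker (aeval (A : Module.End K V) q) ≤ LinearMap.range (aeval (A : Module.End K V) q)) :
    Full A := by
  classical
  let T : Module.End K V := (A : Module.End K V)
  obtain ⟨q', hq'd⟩ : ∃ q' : K[X], q' = q * C q.leadingCoeff⁻¹ := ⟨_, rfl⟩
  have hm : q'.Monic := hq'd ▸ monic_mul_leadingCoeff_inv hq.ne_zero
  have hi : Irreducible q' := hq'd ▸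
    (irreducible_mul_isUnit (isUnit_C.2 (inv_ne_zero (leadingCoeff_ne_zero.2 hq.ne_zero)).isUnit)).2 hq
  obtain ⟨v, hv, hvR⟩ := SetLike.not_le_iff_exists.1 h
  obtain ⟨k, hk0, hk⟩ : ∃ k : K, k ≠ 0 ∧ q = C k * q' := ⟨q.leadingCoeff, leadingCoeff_ne_zero.2 hq.ne_zero, by
    rw [hq'd, mul_left_comm, ← C_mul, mul_inv_cancel₀ (leadingCoeff_ne_zero.2 hq.ne_zero), C_1, mul_one]⟩
  have hscal : aeval T q = k • aeval T q' := by
    rw [hk, map_mul, aeval_C, Algebra.algebraMap_eq_smul_one, smul_mul_assoc, one_mul]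
  have hv' : aeval T q' v = 0 := by
    rw [LinearMap.mem_ker, hscal, LinearMap.smul_apply, smul_eq_zero] at hv
    exact hv.resolve_left hk0
  have hvR' : v ∉ LinearMap.range (aeval T q') := fun ⟨y, hy⟩ => hvR ⟨k⁻¹ • y, by
    rw [hscal, LinearMap.smul_apply, map_smul, hy, smul_smul, mul_inv_cancel₀ hk0, one_smul]⟩
  have hv0 : v ≠ 0 := fun e => hvR' (e ▸ zero_mem _)
  obtain ⟨U, hUd, hU, hUr, hUv⟩ := exists_cyclic_sub T v (li_irreducible hi hv' hv0) hm rfl hv'
  have hirr : ∀ W : Submodule K V, W ≤ U → (∀ x ∈ W, T x ∈ W) → W = ⊥ ∨ W = U := by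
    intro W hWU hW
    refine or_iff_not_imp_left.2 fun hne => le_antisymm hWU ?_
    obtain ⟨x, hxW, hx0⟩ := Submodule.exists_mem_ne_zero_of_ne_bot hne
    obtain ⟨r, hr⟩ := hUr x (hWU hxW)
    have hWp : ∀ (p : K[X]) (z : V), z ∈ W → aeval T p z ∈ W := by
      intro p
      induction p using Polynomial.induction_on with
      | C a => intro z hz; simp only [aeval_C, Module.algebraMap_end_apply]; exact W.smul_mem a hz
      | add p r hp hr => intro z hz; rw [map_add, LinearMap.add_apply]; exact add_mem (hp z hz) (hr z hz)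
      | monomial j a ih =>
        intro z hz
        rw [pow_succ, ← mul_assoc, map_mul, Module.End.mul_apply, aeval_X]
        exact ih _ (hW z hz)
    rcases irreducible_dichotomy hi r hv' with ⟨s, rfl⟩ | ⟨a, ha⟩
    · exact absurd (by rw [hr, mul_comm, map_mul, Module.End.mul_apply, hv', map_zero]) hx0
    · intro y hy
      obtain ⟨ry, hry⟩ := hUr y hy
      rw [hry, ← ha, ← hr]
      exact hWp _ _ (hWp _ _ hxW)
  set R := LinearMap.range (aeval T q')
  have hRinv : ∀ x ∈ R, T x ∈ R := fun x ⟨y, hy⟩ => ⟨T y, by rw [← apply_aeval, hy]⟩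
  have hdisj : U ⊓ R = ⊥ := (hirr _ inf_le_left fun x hx => ⟨hU x hx.1, hRinv x hx.2⟩).resolve_right fun e => by
    have : v ∈ U ⊓ R := by
      rw [e]
      simpa using hUv ⟨0, hi.natDegree_pos⟩
    exact hvR' this.2
  -- the quotient by the image is semisimple
  let Tbar : Module.End K (V ⧸ R) := R.mapQ R T hRinv
  have hTbar : aeval Tbar q' = 0 := by
    refine LinearMap.ext fun x => ?_
    obtain ⟨x, rfl⟩ := R.mkQ_surjective x
    have : ∀ p : K[X], aeval Tbar p (R.mkQ x) = R.mkQ (aeval T p x) := by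
      intro p
      induction p using Polynomial.induction_on' with
      | add p r hp hr => rw [map_add, map_add, LinearMap.add_apply, LinearMap.add_apply, hp, hr, map_add]
      | monomial j a =>
        simp only [aeval_monomial, Module.End.mul_apply, Module.algebraMap_end_apply, map_smul]
        congr 1
        induction j generalizing x with
        | zero => rfl
        | succ j ihj =>
          rw [pow_succ, pow_succ, Module.End.mul_apply, Module.End.mul_apply, ← ihj (T x)]
          rfl
    rw [this, LinearMap.zero_apply, Submodule.mkQ_apply, Submodule.Quotient.mk_eq_zero]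
    exact ⟨x, rfl⟩
  have hss : Tbar.IsSemisimple := Module.End.isSemisimple_of_squarefree_aeval_eq_zero hi.squarefree hTbar
  obtain ⟨Wb, hWb, hc⟩ := Module.End.isSemisimple_iff.1 hss (U.map R.mkQ) (by
    rintro _ ⟨x, hx, rfl⟩
    exact ⟨T x, hU x hx, rfl⟩)
  let W := Wb.comap R.mkQ
  have hWinv : ∀ x ∈ W, T x ∈ W := fun x hx => hWb hx
  have hcW : IsCompl U W := by
    refine ⟨disjoint_iff.2 (eq_bot_iff.2 fun x hx => ?_), codisjoint_iff.2 (eq_top_iff.2 fun x _ => ?_)⟩
    · have h0 : R.mkQ x = 0 := (Submodule.mem_bot K).1 (hc.disjoint.eq_bot ▸ ⟨⟨x, hx.1, rfl⟩, hx.2⟩)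
      rw [← hdisj]
      exact ⟨hx.1, (Submodule.Quotient.mk_eq_zero R).1 h0⟩
    · obtain ⟨a, ⟨u, hu, rfl⟩, b, hb, hab⟩ := Submodule.mem_sup.1
        (hc.sup_eq_top ▸ Submodule.mem_top : R.mkQ x ∈ U.map R.mkQ ⊔ Wb)
      refine Submodule.mem_sup.2 ⟨u, hu, x - u, ?_, add_sub_cancel _ _⟩
      show R.mkQ (x - u) ∈ Wb
      rw [map_sub, ← hab, add_sub_cancel_left]
      exact hb
  intro δ
  haveI : Nontrivial U := Module.nontrivial_of_finrank_pos (R := K) (hUd ▸ hi.natDegree_pos)
  obtain ⟨a, ha, had⟩ := Fus.CentralizerDet.exists_commute_det (T.restrict hU) (fun X hX => by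
    rcases hirr (X.map U.subtype) (Submodule.map_subtype_le U X) (fun z hz => by
      obtain ⟨y, hy, rfl⟩ := hz
      exact ⟨_, hX y hy, rfl⟩) with e | e
    · exact Or.inl (Submodule.map_injective_of_injective U.subtype_injective (e.trans (Submodule.map_bot _).symm))
    · exact Or.inr (Submodule.map_injective_of_injective U.subtype_injective
        (e.trans (Submodule.map_subtype_top U).symm))) (δ : K)
  let e := Submodule.prodEquivOfIsCompl U W hcW
  let C₀ : Module.End K V :=
    (e : (U × W) →ₗ[K] V) ∘ₗ (a.prodMap LinearMap.id) ∘ₗ (e.symm : V →ₗ[K] U × W)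
  have hC₀ : LinearMap.det C₀ = δ := by
    rw [LinearMap.det_conj, LinearMap.det_prodMap, had, LinearMap.det_id, mul_one]
  have hC₀' : LinearMap.det C₀ ≠ 0 := by rw [hC₀]; exact δ.ne_zero
  let C := LinearEquiv.ofIsUnitDet (f := C₀) (v := finBasis K V) (v' := finBasis K V) (by
    rw [LinearMap.det_toMatrix]; exact hC₀'.isUnit)
  refine ⟨C, LinearEquiv.ext fun x => ?_, Units.ext (by rw [LinearEquiv.coe_det, ← hC₀]; rfl)⟩
  obtain ⟨⟨x, y⟩, rfl⟩ := e.surjective x
  show C₀ (A (e (x, y))) = A (C₀ (e (x, y)))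
  have hT : ∀ z : U, A (e (z, y)) = e (T.restrict hU z, T.restrict hWinv y) := fun z => by
    simp only [e, Submodule.coe_prodEquivOfIsCompl', map_add]
    rfl
  simp only [C₀, LinearMap.comp_apply, LinearEquiv.coe_coe, hT, LinearEquiv.symm_apply_apply,
    LinearMap.prodMap_apply, LinearMap.id_apply]
  exact congrArg (fun z => e (z, T.restrict hWinv y)) (LinearMap.congr_fun ha.eq x)

/-- Small kernels force a cyclic vector. -/
theorem exists_cycVec (A : V ≃ₗ[K] V)
    (h : ∀ q : K[X], Irreducible q →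
      finrank K (LinearMap.ker (aeval (A : Module.End K V) q)) < 2 * q.natDegree) :
    ∃ w, CycVec A w := by
  classical
  let T : Module.End K V := (A : Module.End K V)
  let D : Module.End K (Dual K V) := LinearMap.dualMap T
  have hdual : ∀ (p : K[X]) (g : Dual K V), aeval D p g = g.comp (aeval T p) := by
    intro p
    induction p using Polynomial.induction_on with
    | C a => intro g; ext x; simp
    | add p r hp hr => intro g; simp [hp, hr, LinearMap.comp_add]
    | monomial j a ih =>
      intro g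
      rw [pow_succ, ← mul_assoc, map_mul, map_mul (aeval T), Module.End.mul_apply, ih, aeval_X, aeval_X]
      ext x
      simp only [LinearMap.comp_apply, Module.End.mul_apply, D, LinearMap.dualMap_apply]
      rw [← apply_aeval]
  have hker : ∀ q : K[X], Irreducible q → finrank K (LinearMap.ker (aeval D q)) < 2 * q.natDegree := by
    intro q hq
    have e : aeval D q = (aeval T q).dualMap := LinearMap.ext fun g => hdual q g
    have h1 := LinearMap.finrank_range_add_finrank_ker (aeval D q)
    have h2 := LinearMap.finrank_range_add_finrank_ker (aeval T q)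
    rw [e, LinearMap.finrank_range_dualMap_eq_finrank_range, Subspace.dual_finrank_eq] at h1
    rw [e]
    have : finrank K (LinearMap.ker (aeval T q)) < 2 * q.natDegree := h q hq
    omega
  -- the irreducible kernels of the transpose
  let S := (UniqueFactorizationMonoid.normalizedFactors (LinearMap.charpoly T)).toFinset.filter
    fun q => LinearMap.ker (aeval D q) ≠ ⊥
  have hS : ∀ q ∈ S, Irreducible q ∧ normalize q = q := fun q hq =>
    ⟨UniqueFactorizationMonoid.irreducible_of_normalized_factor q (Multiset.mem_toFinset.1 (Finset.mem_filter.1 hq).1),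
      UniqueFactorizationMonoid.normalize_normalized_factor q (Multiset.mem_toFinset.1 (Finset.mem_filter.1 hq).1)⟩
  choose f hfk hf0 using fun q : S => Submodule.exists_mem_ne_zero_of_ne_bot (Finset.mem_filter.1 q.2).2
  let r : S → K[X] := fun q => ∏ p ∈ Finset.univ.erase q, (p : K[X])
  have hrq : ∀ q, ∃ x, f q (aeval T (r q) x) = 1 := fun q => by
    rcases irreducible_dichotomy (hS q.1 q.2).1 (r q) (LinearMap.mem_ker.1 (hfk q)) with hd | ⟨a, ha⟩
    · obtain ⟨p, hp, hdp⟩ := (((hS q.1 q.2).1).prime.dvd_finsetProd_iff _).1 hd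
      have := eq_of_monic_of_associated
        ((hS q.1 q.2).2 ▸ monic_normalize (hS q.1 q.2).1.ne_zero)
        ((hS p.1 p.2).2 ▸ monic_normalize (hS p.1 p.2).1.ne_zero)
        ((hS q.1 q.2).1.associated_of_dvd (hS p.1 p.2).1 hdp)
      exact absurd (Subtype.ext this).symm (Finset.mem_erase.1 hp).1
    · have hne : (f q).comp (aeval T (r q)) ≠ 0 := fun e => hf0 q (by rw [← ha, hdual (r q), e, map_zero])
      obtain ⟨x, hx⟩ := DFunLike.ne_iff.1 hne
      exact ⟨(f q (aeval T (r q) x))⁻¹ • x, by
        rw [map_smul, map_smul, smul_eq_mul, inv_mul_cancel₀ (by simpa using hx)]⟩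
  choose x hx using hrq
  let v := ∑ q, aeval T (r q) (x q)
  have hv : ∀ q, f q v = 1 := fun q => by
    rw [map_sum, Finset.sum_eq_single q (fun p _ hp => ?_) (by simp), hx]
    have hd : (q : K[X]) ∣ r p := Finset.dvd_prod_of_mem (fun s : S => (s : K[X]))
      (Finset.mem_erase.2 ⟨Ne.symm hp, Finset.mem_univ q⟩)
    obtain ⟨s, hs⟩ := hd
    rw [hs, map_mul, Module.End.mul_apply]
    exact LinearMap.congr_fun ((hdual q (f q)).symm.trans (LinearMap.mem_ker.1 (hfk q))) _
  refine ⟨v, linearIndependent_of_top_le_span_of_card_eq_finrank ?_ (by simp)⟩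
  set W := Submodule.span K (Set.range fun i : Fin (finrank K V) => (T ^ (i : ℕ)) v)
  by_contra hne
  have hW : W ≠ ⊤ := fun e => hne e.ge
  obtain ⟨g, hgmem, hg0⟩ := Submodule.exists_mem_ne_zero_of_ne_bot
    (show W.dualAnnihilator ≠ ⊥ from fun e => hW (Subspace.dualAnnihilator_inj.1 (by
      rw [e, Submodule.dualAnnihilator_top])))
  have hgW := (Submodule.mem_dualAnnihilator _).1 hgmem
  have hall : ∀ p : K[X], aeval T p v ∈ W := fun p => by
    have hm := LinearMap.charpoly_monic T
    rw [← modByMonic_add_div p (LinearMap.charpoly T), map_add, map_mul, LinearMap.aeval_self_charpoly, zero_mul,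
      add_zero]
    by_cases h0 : p %ₘ LinearMap.charpoly T = 0
    · rw [h0, map_zero]; exact W.zero_mem
    rw [aeval_eq_sum_range, LinearMap.sum_apply]
    refine Submodule.sum_mem _ fun i hi => W.smul_mem _ (Submodule.subset_span ⟨⟨i, ?_⟩, rfl⟩)
    have := natDegree_lt_natDegree h0 (degree_modByMonic_lt p hm)
    rw [Finset.mem_range] at hi
    rw [LinearMap.charpoly_natDegree] at this
    omega
  let N : Submodule K (Dual K V) :=
    { carrier := {g | ∀ p : K[X], g (aeval T p v) = 0}
      add_mem' := fun ha hb p => by simp [ha p, hb p]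
      zero_mem' := fun _ => rfl
      smul_mem' := fun t _ ha p => by simp [ha p] }
  have hNp : ∀ (p : K[X]) g, g ∈ N → aeval D p g ∈ N := fun p g hg s => by
    rw [hdual, LinearMap.comp_apply, ← Module.End.mul_apply, ← map_mul]; exact hg _
  -- some element of the annihilator is killed by an irreducible factor
  obtain ⟨q, hqS, g', hg'N, hg'0, hg'⟩ : ∃ q ∈ S, ∃ g' ∈ N, g' ≠ 0 ∧ aeval D q g' = 0 := by
    have key : ∀ m : Multiset K[X], (∀ p ∈ m, p ∈ UniqueFactorizationMonoid.normalizedFactors (LinearMap.charpoly T)) →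
        ∀ g ∈ N, g ≠ 0 → aeval D m.prod g = 0 → ∃ q ∈ S, ∃ g' ∈ N, g' ≠ 0 ∧ aeval D q g' = 0 := by
      intro m
      induction m using Multiset.induction with
      | empty => intro _ g _ hg h; exact absurd (by simpa using h) hg
      | cons p m ih =>
        intro hm g hgN hg h
        by_cases h0 : aeval D m.prod g = 0
        · exact ih (fun s hs => hm s (Multiset.mem_cons_of_mem hs)) g hgN hg h0
        rw [Multiset.prod_cons, map_mul, Module.End.mul_apply] at h
        exact ⟨p, Finset.mem_filter.2 ⟨Multiset.mem_toFinset.2 (hm p (Multiset.mem_cons_self p m)),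
          fun e => h0 ((Submodule.mem_bot K).1 (e ▸ LinearMap.mem_ker.2 h))⟩, _, hNp _ g hgN, h0, h⟩
    refine key _ (fun p hp => hp) g (fun p => hgW _ (hall p)) hg0 ?_
    obtain ⟨w, hw⟩ := UniqueFactorizationMonoid.prod_normalizedFactors (LinearMap.charpoly_monic T).ne_zero
    have e : (UniqueFactorizationMonoid.normalizedFactors (LinearMap.charpoly T)).prod =
        ((w⁻¹ : K[X]ˣ) : K[X]) * LinearMap.charpoly T := by
      rw [mul_comm]
      exact (Units.eq_mul_inv_iff_mul_eq w).2 hw
    rw [e, map_mul, Module.End.mul_apply, hdual (LinearMap.charpoly T) g, LinearMap.aeval_self_charpoly,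
      LinearMap.comp_zero, map_zero]
  -- two cyclic pieces of the kernel meet
  have hf' := LinearMap.mem_ker.1 (hfk ⟨q, hqS⟩)
  obtain ⟨hqi, -⟩ := hS q hqS
  let S₁ := Submodule.span K (Set.range fun i : Fin q.natDegree => (D ^ (i : ℕ)) (f ⟨q, hqS⟩))
  let S₂ := Submodule.span K (Set.range fun i : Fin q.natDegree => (D ^ (i : ℕ)) g')
  have hd1 : finrank K S₁ = q.natDegree := (finrank_span_eq_card (li_irreducible hqi hf' (hf0 _))).trans (by simp)
  have hd2 : finrank K S₂ = q.natDegree := (finrank_span_eq_card (li_irreducible hqi hg' hg'0)).trans (by simp)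
  have hle : ∀ z, aeval D q z = 0 →
      Submodule.span K (Set.range fun i : Fin q.natDegree => (D ^ (i : ℕ)) z) ≤ LinearMap.ker (aeval D q) := fun z hz => by
    rw [Submodule.span_le]
    rintro _ ⟨i, rfl⟩
    rw [SetLike.mem_coe, LinearMap.mem_ker]
    have := aeval_comm_apply D q (X ^ (i : ℕ)) z
    rw [map_pow, aeval_X, hz, map_zero] at this
    exact this
  have hmeet : S₁ ⊓ S₂ ≠ ⊥ := fun e => by
    have h1 := Submodule.finrank_sup_add_finrank_inf_eq S₁ S₂
    rw [e, finrank_bot, hd1, hd2] at h1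
    have h2 := Submodule.finrank_mono (sup_le (hle _ hf') (hle _ hg') : S₁ ⊔ S₂ ≤ LinearMap.ker (aeval D q))
    have h3 := hker q hqi
    omega
  obtain ⟨z, ⟨hz1, hz2⟩, hz0⟩ := Submodule.exists_mem_ne_zero_of_ne_bot hmeet
  obtain ⟨c, hc⟩ := (Submodule.mem_span_range_iff_exists_fun K).1 hz1
  have hz1' : z = aeval D (∑ i : Fin q.natDegree, monomial (i : ℕ) (c i) : K[X]) (f ⟨q, hqS⟩) := by
    rw [← hc]; simp [map_sum, aeval_monomial, LinearMap.sum_apply]
  have hzN : z ∈ N := by
    refine Submodule.span_le.2 ?_ hz2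
    rintro _ ⟨i, rfl⟩
    have := hNp (X ^ (i : ℕ)) g' hg'N
    rwa [map_pow, aeval_X] at this
  rcases irreducible_dichotomy hqi (∑ i : Fin q.natDegree, monomial (i : ℕ) (c i) : K[X]) hf' with ⟨s, hs⟩ | ⟨a, ha⟩
  · refine hz0 ?_
    rw [hz1', hs, mul_comm, map_mul, Module.End.mul_apply, hf', map_zero]
  · have hfN := hNp a _ hzN
    rw [hz1', ha] at hfN
    have := hfN 1
    rw [map_one, Module.End.one_apply, hv] at this
    exact one_ne_zero this

end Cfsg.Agent.Classical.CovPSL
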