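import Cfsg.Agent.Lib.Classical.CovPSL.IdMain

set_option autoImplicit false

/-! The upper and lower bound for products of conjugates, up to scalars. -/

namespace Cfsg.Agent.Classical.CovPSL

open Module Polynomial

universe u v

variable {K : Type u} [Field K] {V : Type v} [AddCommGroup V] [Module K V] [FiniteDimensional K V]

attribute [local instance] Classical.propDecidable

/-- Every element of determinant one, up to a scalar. -/
theorem prd_all [Fintype K] (hF : 4 ≤ Fintype.card K) (h3 : 3 ≤ finrank K V) {A g : V ≃ₗ[K] V}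
    (hA : NS (K := K) A) (hdA : dt A = 1) (hg : dt g = 1) :
    ∃ ζ : Kˣ, Prd A (finrank K V) (LinearEquiv.smulOfUnit ζ * g) := by
  have hone : (LinearEquiv.smulOfUnit (1 : Kˣ) : V ≃ₗ[K] V) * g = g := LinearEquiv.ext fun x => by
    simp [smulOfUnit_apply', mul_apply']
  by_cases hns : NS (K := K) g
  · have hd : dt g = dt A ^ finrank K V := by rw [hg, hdA, one_pow]
    refine ⟨1, hone.symm ▸ ?_⟩
    by_cases hE : Exc A g
    · rcases hE with ⟨-, μ, ⟨a, φ, ha⟩, ⟨c, ψ, hc⟩⟩ | ⟨h2, -⟩
      · refine prd_rank_one hF rfl h3 ha (fun e => ?_) (fun e => ?_) hc (fun e => ?_) hd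
        · obtain ⟨x, hx⟩ := hA μ; exact hx (by simp [ha, e])
        · obtain ⟨x, hx⟩ := hA μ; exact hx (by simp [ha, e])
        · obtain ⟨x, hx⟩ := hns (μ ^ finrank K V); exact hx (by simp [hc, e])
      · omega
    · obtain ⟨l, h1, h2, h3', -⟩ := good_main hF _ V rfl (by omega) A g hA hns hd hE 0
      exact ⟨l, h1, h2, h3'⟩
  · simp only [NS, not_forall, not_exists, ne_eq, not_not] at hns
    obtain ⟨κ, hκ⟩ := hns
    have hκ0 : κ ≠ 0 := fun e => by
      haveI : Nontrivial V := Module.nontrivial_of_finrank_pos (R := K) (by omega)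
      obtain ⟨x, hx⟩ := exists_ne (0 : V)
      exact hx (g.map_eq_zero_iff.1 (by rw [hκ, e, zero_smul]))
    obtain ⟨ζ, hζ⟩ := prdScalar_all hF h3 hA hdA
    refine ⟨ζ * (Units.mk0 κ hκ0)⁻¹, ?_⟩
    convert hζ using 1
    exact LinearEquiv.ext fun x => by
      simp [mul_apply', smulOfUnit_apply', hκ, smul_smul]
      rw [show κ * ((ζ : K) * κ⁻¹) = ζ by field_simp]

/-- A product of transvection conjugates fixes a large subspace. -/
theorem exists_fixed {a : V} {φ : V →ₗ[K] K} {A : V ≃ₗ[K] V} (hA : ∀ x, A x = x + φ x • a) :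
    ∀ l : List (V ≃ₗ[K] V), (∀ X ∈ l, ∃ M, X = M * A * M⁻¹) →
      ∃ S : Submodule K V, finrank K V ≤ finrank K S + l.length ∧ ∀ x ∈ S, l.prod x = x := by
  intro l
  induction l with
  | nil => exact fun _ => ⟨⊤, by simp, fun x _ => rfl⟩
  | cons X l ih =>
    intro h
    obtain ⟨S, hS, hfix⟩ := ih fun Y hY => h Y (List.mem_cons_of_mem _ hY)
    obtain ⟨M, rfl⟩ := h X (List.mem_cons_self ..)
    refine ⟨S ⊓ LinearMap.ker (φ.comp (M⁻¹ : V ≃ₗ[K] V).toLinearMap), ?_, fun x hx => ?_⟩
    · have h1 := Submodule.finrank_sup_add_finrank_inf_eq S (LinearMap.ker (φ.comp (M⁻¹ : V ≃ₗ[K] V).toLinearMap))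
      have h2 := LinearMap.finrank_range_add_finrank_ker (φ.comp (M⁻¹ : V ≃ₗ[K] V).toLinearMap)
      have h3 := Submodule.finrank_le (LinearMap.range (φ.comp (M⁻¹ : V ≃ₗ[K] V).toLinearMap))
      have h4 := Submodule.finrank_le (S ⊔ LinearMap.ker (φ.comp (M⁻¹ : V ≃ₗ[K] V).toLinearMap))
      rw [finrank_self] at h3
      simp only [List.length_cons]
      omega
    · have h0 : φ (M⁻¹ x) = 0 := hx.2
      rw [List.prod_cons, mul_apply', hfix x hx.1, mul_apply', mul_apply', hA, h0, zero_smul, add_zero, apply_inv]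

/-- A companion matrix of determinant one, without eigenvalue among the roots of unity of its size. -/
theorem exists_companion (m : ℕ) (hm : 1 ≤ m) : ∃ M : Matrix (Fin (m + 1)) (Fin (m + 1)) K, M.det = 1 ∧
    ∀ ζ : K, ζ ^ (m + 1) = 1 → ∀ v, M.mulVec v = ζ • v → v = 0 := by
  obtain ⟨k, rfl⟩ : ∃ k, m = k + 1 := ⟨m - 1, by omega⟩
  let a : K := if (1 : K) + (-1) ^ (k + 2) = 0 then 1 else 0
  let L := Fin.last (k + 1)
  let M : Matrix (Fin (k + 2)) (Fin (k + 2)) K := Matrix.of (Fin.cons (Pi.single L ((-1 : K) ^ (k + 1)))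
    fun l : Fin (k + 1) => Pi.single l.castSucc 1 + (if l = 0 then Pi.single L (-a) else 0))
  refine ⟨M, ?_, fun ζ hζ v hv => ?_⟩
  · rw [Matrix.det_succ_row_zero, Finset.sum_eq_single L]
    · rw [show M.submatrix Fin.succ L.succAbove = 1 from by
        ext i j
        rw [Matrix.submatrix_apply]
        by_cases hi : i = 0 <;>
          simp [M, L, Fin.succAbove_last, Matrix.one_apply, Pi.single_apply, hi, (Fin.castSucc_lt_last j).ne, eq_comm],
        Matrix.det_one, mul_one]
      simp [M, L, ← mul_pow]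
    · intro j _ hj
      simp [M, hj]
    · simp
  · have e0 : (-1) ^ (k + 1) * v L = ζ * v 0 := by
      have := congrFun hv 0
      simpa [M, Matrix.mulVec, single_dotProduct] using this
    have es : ∀ l : Fin (k + 1), v l.castSucc + (if l = 0 then -a * v L else 0) = ζ * v l.succ := fun l => by
      have := congrFun hv l.succ
      have e : M l.succ = Pi.single l.castSucc 1 + (if l = 0 then Pi.single L (-a) else 0) := by
        funext j
        simp [M, Matrix.of_apply]
      rw [Matrix.mulVec, e, add_dotProduct] at this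
      by_cases hl : l = 0 <;> simpa [-Fin.succ_zero_eq_one, hl, single_dotProduct] using this
    have hup : ∀ i : Fin (k + 2), i ≠ 0 → v i = ζ ^ (k + 1 - (i : ℕ)) * v L := by
      intro i
      induction i using Fin.reverseInduction with
      | last => intro _; simp [L]
      | cast l ih =>
        intro hl
        have hl' : l ≠ 0 := fun e => hl (by rw [e]; rfl)
        have h := es l
        rw [if_neg hl', add_zero, ih (Fin.succ_ne_zero l), ← mul_assoc, ← pow_succ'] at h
        rw [h, Fin.val_succ, Fin.val_castSucc]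
        congr 2
        have := l.isLt
        omega
    have hv0 : v 0 = (ζ ^ (k + 1) + a) * v L := by
      have h := es 0
      rw [if_pos rfl, hup (Fin.succ 0) (Fin.succ_ne_zero _), ← mul_assoc, ← pow_succ'] at h
      simp only [Fin.castSucc_zero, Fin.val_succ, Fin.val_zero] at h
      rw [show k + 1 - (0 + 1) + 1 = k + 1 by omega] at h
      linear_combination h
    have hkey : (1 + a * ζ + (-1) ^ (k + 2)) * v L = 0 := by
      rw [hv0, ← mul_assoc, mul_add, ← pow_succ', hζ] at e0
      linear_combination -e0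
    have hL : v L = 0 := by
      refine (mul_eq_zero.1 hkey).resolve_left fun e => ?_
      by_cases h0 : (1 : K) + (-1) ^ (k + 2) = 0
      · simp only [a, if_pos h0, one_mul] at e
        have : ζ = 0 := by linear_combination e - h0
        rw [this, zero_pow (by omega)] at hζ
        exact zero_ne_one hζ
      · simp only [a, if_neg h0, zero_mul, add_zero] at e
        exact h0 e
    funext i
    by_cases hi : i = 0
    · rw [hi, hv0, hL, mul_zero]; rfl
    · rw [hup i hi, hL, mul_zero]; rfl

end Cfsg.Agent.Classical.CovPSL
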