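import Cfsg.Agent.Lib.Classical.CovPSL.Choose
import Cfsg.Agent.Lib.Classical.CovPSL.Struct
import Cfsg.Agent.Lib.Classical.CovPSL.DD

set_option autoImplicit false

/-! Two triangular split operators whose product has a simple root. -/

namespace Cfsg.Agent.Classical.CovPSL

open Module Polynomial

universe u v

variable {K : Type u} [Field K]

attribute [local instance] Classical.propDecidable

/-- Pairings of a list with itself having a product attained once. -/
theorem exists_pairing {α : List K} (hα : ∀ a ∈ α, a ≠ 0) (hm : Mixed α) :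
    ∃ (a : K) (l : List (K × K)), (((a, a) :: l).map Prod.fst).Perm α ∧ (((a, a) :: l).map Prod.snd).Perm α ∧
      ∀ p ∈ l, p.1 * p.2 ≠ a * a := by
  classical
  have hcnt : ∀ x y : K, x ≠ y → α.count x + α.count y ≤ α.length := by
    intro x y hxy
    induction α with
    | nil => simp
    | cons z l ih =>
      have := ih (fun a ha => hα a (List.mem_cons_of_mem _ ha))
      clear ih hm
      simp only [List.count_cons, List.length_cons, beq_iff_eq]
      have h2 : l.count x + l.count y ≤ l.length := by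
        clear this
        induction l with
        | nil => simp
        | cons w l ih =>
          have := ih fun a ha => hα a (by
            rcases List.mem_cons.1 ha with rfl | h
            · exact List.mem_cons_self ..
            · exact List.mem_cons_of_mem _ (List.mem_cons_of_mem _ h))
          simp only [List.count_cons, List.length_cons, beq_iff_eq]
          split_ifs <;> simp_all <;> omega
      split_ifs <;> simp_all <;> omega
  have hcnt3 : ∀ x y z : K, x ≠ y → x ≠ z → y ≠ z → α.count x + α.count y + α.count z ≤ α.length := by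
    intro x y z hxy hxz hyz
    clear hα hm hcnt
    induction α with
    | nil => simp
    | cons w l ih =>
      simp only [List.count_cons, List.length_cons, beq_iff_eq]
      split_ifs <;> simp_all <;> omega
  obtain ⟨y₀, hy₀, -⟩ := hm 0
  have hpos : 0 < α.length := List.length_pos_of_mem hy₀
  obtain ⟨a, ha, ha1, ha2⟩ : ∃ a ∈ α, 2 * α.count a ≤ α.length + 1 ∧
      (-a ≠ a → 2 * α.count (-a) + 1 ≤ α.length) := by
    by_cases hc : ∃ c, α.length ≤ 2 * α.count c
    · obtain ⟨c, hc⟩ := hc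
      obtain ⟨a, ha, hac, hac'⟩ := hm c
      have h1 := hcnt a c hac
      refine ⟨a, ha, by omega, fun hne => ?_⟩
      have h2 := hcnt3 (-a) a c hne (fun e => hac' (by rw [← e, neg_neg])) hac
      have := List.count_pos_iff.2 ha
      omega
    · push Not at hc
      exact ⟨y₀, hy₀, by have := hc y₀; omega, fun _ => by have := hc (-y₀); omega⟩
  set R := α.erase a
  have hperm : (a :: R).Perm α := (List.perm_cons_erase ha).symm
  set N := R.length
  have hN : N + 1 = α.length := by rw [← hperm.length_eq]; rfl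
  let r : Fin N → K := fun i => R[i]
  have hR : List.ofFn r = R := List.ext_getElem (by simp [N]) fun i _ _ => by simp [r]
  have hcr : ∀ x, (Finset.univ.filter fun i => r i = x).card = R.count x := fun x => by
    conv_rhs => rw [← hR]
    rw [← Multiset.coe_count, show (↑(List.ofFn r) : Multiset K) = Finset.univ.val.map r from (Fin.univ_val_map r).symm,
      Multiset.count_map]
    simp [Finset.card_def, Finset.filter_val, eq_comm]
  have hbound : ∀ x y, x * y = a * a → (Finset.univ.filter fun i => r i = x).card +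
      (Finset.univ.filter fun i => r i = y).card ≤ N := by
    intro x y hxy
    by_cases hxy' : x = y
    · subst hxy'
      rw [hcr]
      rcases mul_self_eq_mul_self_iff.1 hxy with rfl | rfl
      · have : R.count x = α.count x - 1 := List.count_erase_self
        omega
      · by_cases hne : -a = a
        · rw [hne]
          have : R.count a = α.count a - 1 := List.count_erase_self
          omega
        · have : R.count (-a) = α.count (-a) := List.count_erase_of_ne (a := -a) (b := a) hne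
          have := ha2 hne
          omega
    · rw [← Finset.card_union_of_disjoint (Finset.disjoint_filter.2 fun i _ h1 h2 => hxy' (h1.symm.trans h2))]
      exact (Finset.card_le_univ _).trans (by simp)
  let bad (σ : Equiv.Perm (Fin N)) := Finset.univ.filter fun i => r i * r (σ i) = a * a
  obtain ⟨σ, -, hmin⟩ := (Finset.univ : Finset (Equiv.Perm (Fin N))).exists_min_image (fun σ => (bad σ).card)
    Finset.univ_nonempty
  have hgood : ∀ i, r i * r (σ i) ≠ a * a := by
    intro i hi
    have hxy := hbound _ _ hi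
    obtain ⟨j, hj1, hj2⟩ : ∃ j, r j ≠ r i ∧ r (σ j) ≠ r (σ i) := by
      by_contra hno
      push Not at hno
      have hcover : (Finset.univ : Finset (Fin N)) ⊆ (Finset.univ.filter fun j => r j = r i) ∪
          (Finset.univ.filter fun j => r (σ j) = r (σ i)).erase i := fun j _ => by
        by_cases h : r j = r i
        · simp [h]
        · simp only [Finset.mem_union, Finset.mem_filter, Finset.mem_erase, Finset.mem_univ, true_and]
          exact Or.inr ⟨fun e => h (by rw [e]), hno j h⟩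
      have h1 := (Finset.card_le_card hcover).trans (Finset.card_union_le _ _)
      rw [Finset.card_univ, Fintype.card_fin, Finset.card_erase_of_mem (by simp)] at h1
      have e : (Finset.univ.filter fun j => r (σ j) = r (σ i)).card = (Finset.univ.filter fun k => r k = r (σ i)).card :=
        Finset.card_bij (fun j _ => σ j) (fun j hj => by simpa using hj) (fun _ _ _ _ h => σ.injective h)
          (fun k hk => ⟨σ.symm k, by simpa using hk, σ.apply_symm_apply k⟩)
      have : 0 < (Finset.univ.filter fun j => r (σ j) = r (σ i)).card := Finset.card_pos.2 ⟨i, by simp⟩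
      omega
    have hx0 : r i ≠ 0 := hα _ (List.erase_subset (List.getElem_mem _))
    have hy0 : r (σ i) ≠ 0 := hα _ (List.erase_subset (List.getElem_mem _))
    have hlt : (bad (σ * Equiv.swap i j)).card < (bad σ).card := by
      refine Finset.card_lt_card ⟨fun k hk => ?_, fun h => ?_⟩
      · have hk' : r k * r ((σ * Equiv.swap i j) k) = a * a := (Finset.mem_filter.1 hk).2
        refine Finset.mem_filter.2 ⟨Finset.mem_univ _, ?_⟩
        rw [Equiv.Perm.mul_apply] at hk'
        rcases eq_or_ne k i with rfl | hki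
        · exact hi
        rcases eq_or_ne k j with rfl | hkj
        · rw [Equiv.swap_apply_right] at hk'
          exact absurd (mul_right_cancel₀ hy0 (hk'.trans hi.symm)) hj1
        · rwa [Equiv.swap_apply_of_ne_of_ne hki hkj] at hk'
      · have h' := (Finset.mem_filter.1 (h (Finset.mem_filter.2 ⟨Finset.mem_univ i, hi⟩ : i ∈ bad σ))).2
        have this : r i * r ((σ * Equiv.swap i j) i) = a * a := h'
        rw [Equiv.Perm.mul_apply, Equiv.swap_apply_left] at this
        exact hj2 (mul_left_cancel₀ hx0 (this.trans hi.symm))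
    exact absurd (hmin _ (Finset.mem_univ _)) (not_le.2 hlt)
  refine ⟨a, List.ofFn fun i => (r i, r (σ i)), ?_, ?_, fun p hp => ?_⟩
  · simpa [List.map_ofFn, Function.comp_def, hR] using hperm
  · simp only [List.map_cons, List.map_ofFn, Function.comp_def]
    exact ((σ.ofFn_comp_perm r).cons a).trans (hR ▸ hperm)
  · obtain ⟨i, rfl⟩ := List.mem_ofFn.1 hp
    exact hgood i

variable {V : Type v} [AddCommGroup V] [Module K V]

theorem spl_line {f : Module.End K V} {a : K} (hV : finrank K V = 1) (hf : ∀ x, f x = a • x) : Spl f [a] := by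
  refine ⟨by simp [hV], LinearMap.ext fun x => by simp [pol, hf], fun c x y hx _ _ => ?_⟩
  obtain ⟨t, ht⟩ := (finrank_eq_one_iff_of_nonzero' x hx).1 hV y
  exact Submodule.mem_span_singleton.2 ⟨t, ht⟩

theorem smulOfUnit_apply' (a : Kˣ) (x : V) : (LinearEquiv.smulOfUnit a : V ≃ₗ[K] V) x = (a : K) • x := rfl

section Step

variable {U Q : Type v} [AddCommGroup U] [Module K U] [AddCommGroup Q] [Module K Q] [FiniteDimensional K Q]

/-- The functionals missing every eigenvector. -/
def lineBad (f : Q ≃ₗ[K] Q) (a : K) : Submodule K (Dual K Q) :=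
  ⨅ (x : Q) (_ : f x = a • x), LinearMap.ker (LinearMap.applyₗ x : Dual K Q →ₗ[K] K)

theorem mem_lineBad {f : Q ≃ₗ[K] Q} {a : K} {χ : Dual K Q} : χ ∈ lineBad f a ↔ ∀ x, f x = a • x → χ x = 0 := by
  simp [lineBad, Submodule.mem_iInf]

theorem spl_step [FiniteDimensional K U] (hU : finrank K U = 1) {u₀ : U} (hu₀ : u₀ ≠ 0) (a : Kˣ) {B : Q ≃ₗ[K] Q}
    {l : List K} (hB : Spl B.toLinearMap l) {χ : Dual K Q} (hχ : Eig B (a : K) → χ ∉ lineBad B (a : K)) :
    Spl (triE (LinearEquiv.smulOfUnit a : U ≃ₗ[K] U) (χ.smulRight u₀) B).toLinearMap ((a : K) :: l) := by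
  refine (spl_line hU (a := (a : K)) fun x => rfl).tri hB ?_
  intro c p₀ x hp₀ hc hx hBx p hp
  obtain rfl : (a : K) = c := smul_left_injective K hp₀ hc
  have h0 : χ x • u₀ = 0 := by
    simpa [smulOfUnit_apply'] using hp
  have hchi : χ x = 0 := (smul_eq_zero.1 h0).resolve_right hu₀
  refine hχ ⟨x, hx, hBx⟩ (mem_lineBad.2 fun y hy => ?_)
  obtain ⟨t, rfl⟩ := Submodule.mem_span_singleton.1 (hB.2.2 _ x y hx hBx hy)
  rw [map_smul, hchi, smul_zero]

theorem lineBad_ne_top {f : Q ≃ₗ[K] Q} {a : K} (h : Eig f a) : lineBad f a ≠ ⊤ := fun e => by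
  obtain ⟨x, hx, hfx⟩ := h
  obtain ⟨χ, hχ⟩ := Module.Projective.exists_dual_ne_zero K hx
  exact hχ (mem_lineBad.1 (e ▸ Submodule.mem_top : χ ∈ lineBad f a) x hfx)

theorem triE_line_mul (a a' : Kˣ) (u₀ : U) (χ χ' : Dual K Q) (B B' : Q ≃ₗ[K] Q) :
    triE (LinearEquiv.smulOfUnit a : U ≃ₗ[K] U) (χ.smulRight u₀) B *
        triE (LinearEquiv.smulOfUnit a') (χ'.smulRight u₀) B' =
      triE (LinearEquiv.smulOfUnit (a * a')) (((a : K) • χ' + χ.comp B'.toLinearMap).smulRight u₀) (B * B') :=
  LinearEquiv.ext fun p => Prod.ext (by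
    simp [mul_apply', triE_apply, smulOfUnit_apply', Units.smul_def, smul_smul, add_smul, add_assoc]) rfl

theorem triE_scale (lam a : Kˣ) (u₀ : U) (χ : Dual K Q) (B : Q ≃ₗ[K] Q) :
    triE (LinearEquiv.smulOfUnit lam : U ≃ₗ[K] U) 0 1 * triE (LinearEquiv.smulOfUnit a) (χ.smulRight u₀) B *
        (triE (LinearEquiv.smulOfUnit lam) 0 1)⁻¹ =
      triE (LinearEquiv.smulOfUnit a) (((lam : K) • χ).smulRight u₀) B := by
  rw [mul_inv_eq_iff_eq_mul]
  refine LinearEquiv.ext fun p => Prod.ext ?_ rfl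
  simp [mul_apply', triE_apply, smulOfUnit_apply', Units.smul_def, smul_smul, mul_comm]

end Step

theorem exists_line [FiniteDimensional K V] {m : ℕ} (hn : finrank K V = m + 1) :
    ∃ (U W : Submodule K V), finrank K U = 1 ∧ finrank K W = m ∧ Nonempty ((U × W) ≃ₗ[K] V) ∧ ∃ u₀ : U, u₀ ≠ 0 := by
  haveI : Nontrivial V := Module.nontrivial_of_finrank_pos (R := K) (by omega)
  obtain ⟨x, hx⟩ := exists_ne (0 : V)
  obtain ⟨W, hW⟩ := (K ∙ x).exists_isCompl
  have h1 := Submodule.finrank_add_eq_of_isCompl hW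
  rw [finrank_span_singleton hx] at h1
  exact ⟨K ∙ x, W, finrank_span_singleton hx, by omega, ⟨Submodule.prodEquivOfIsCompl _ _ hW⟩,
    ⟨x, Submodule.mem_span_singleton_self x⟩, fun e => hx (congrArg Subtype.val e)⟩

/-- Transport to coordinates. -/
theorem Spl.conjHom {V' : Type v} [AddCommGroup V'] [Module K V'] {f : V ≃ₗ[K] V} {l : List K}
    (h : Spl f.toLinearMap l) (Φ : V ≃ₗ[K] V') : Spl (CovPSL.conjHom Φ f).toLinearMap l :=
  h.conj Φ fun x => CovPSL.conjHom_apply' Φ f x

/-- Triangular factors with any diagonals and product with lines as eigenspaces. -/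
theorem exists_tri_three (hK : RegUnipProduct.Big K) : ∀ (l : List (Kˣ × Kˣ)) (V : Type v) [AddCommGroup V]
    [Module K V] [FiniteDimensional K V], finrank K V = l.length →
    ∃ T₁ T₂ : V ≃ₗ[K] V, Spl T₁.toLinearMap (l.map fun p => (p.1 : K)) ∧
      Spl T₂.toLinearMap (l.map fun p => (p.2 : K)) ∧
      Spl (T₁ * T₂).toLinearMap (l.map fun p => (p.1 : K) * p.2) := by
  intro l
  induction l with
  | nil =>
    intro V _ _ _ hV
    haveI : Subsingleton V := Module.finrank_zero_iff.1 hV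
    have h : ∀ f : Module.End K V, Spl f [] := fun f =>
      ⟨hV.symm, Subsingleton.elim _ _, fun c x y hx => absurd (Subsingleton.elim x 0) hx⟩
    exact ⟨1, 1, h _, h _, h _⟩
  | cons p l ih =>
    intro V _ _ _ hV
    obtain ⟨a, a'⟩ := p
    obtain ⟨U, W, hU, hW, ⟨Φ⟩, u₀, hu₀⟩ := exists_line (V := V) (m := l.length) (by simpa using hV)
    obtain ⟨B₁, B₂, h₁, h₂, h₃⟩ := ih W hW
    let L₁ : Submodule K (Dual K W × Dual K W) := (lineBad B₁ (a : K)).comap (LinearMap.fst K _ _)
    let L₂ : Submodule K (Dual K W × Dual K W) := (lineBad B₂ (a' : K)).comap (LinearMap.snd K _ _)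
    let F : (Dual K W × Dual K W) →ₗ[K] Dual K W :=
      (a : K) • LinearMap.snd K _ _ + (LinearMap.lcomp K K B₂.toLinearMap).comp (LinearMap.fst K _ _)
    let L₃ : Submodule K (Dual K W × Dual K W) := (lineBad (B₁ * B₂) ((a : K) * a')).comap F
    obtain ⟨χ, hχ⟩ := RegUnipProduct.exists_avoid hK ([L₁, L₂, L₃].filter fun P => decide (P ≠ ⊤))
      ((List.length_filter_le _ _).trans (by simp)) (fun P hP => by simpa using (List.mem_filter.1 hP).2)
    have surj : ∀ (G : (Dual K W × Dual K W) →ₗ[K] Dual K W), Function.Surjective G →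
        ∀ P : Submodule K (Dual K W), P ≠ ⊤ → P.comap G ≠ ⊤ := fun G hG P hP e => hP (eq_top_iff.2 fun ψ _ => by
      obtain ⟨z, rfl⟩ := hG ψ
      exact (e ▸ Submodule.mem_top : z ∈ P.comap G))
    have hF : Function.Surjective F := fun ψ => ⟨(0, ((a⁻¹ : Kˣ) : K) • ψ), by
      simp [F, smul_smul]⟩
    have s1 := spl_step hU hu₀ a h₁ (χ := χ.1) fun hE h => hχ L₁ (List.mem_filter.2 ⟨by simp,
      by simpa using surj _ (fun ψ => ⟨(ψ, 0), rfl⟩) _ (lineBad_ne_top hE)⟩) h
    have s2 := spl_step hU hu₀ a' h₂ (χ := χ.2) fun hE h => hχ L₂ (List.mem_filter.2 ⟨by simp,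
      by simpa using surj _ (fun ψ => ⟨(0, ψ), rfl⟩) _ (lineBad_ne_top hE)⟩) h
    have s3 := spl_step hU hu₀ (a * a') h₃ (χ := F χ) fun hE h => by
      rw [Units.val_mul] at hE h
      exact hχ L₃ (List.mem_filter.2 ⟨by simp, by simpa using surj _ hF _ (lineBad_ne_top hE)⟩) h
    refine ⟨CovPSL.conjHom Φ (triE (LinearEquiv.smulOfUnit a) (χ.1.smulRight u₀) B₁),
      CovPSL.conjHom Φ (triE (LinearEquiv.smulOfUnit a') (χ.2.smulRight u₀) B₂), s1.conjHom Φ, s2.conjHom Φ, ?_⟩
    rw [← map_mul, triE_line_mul]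
    have := s3.conjHom Φ
    simp only [Units.val_mul] at this
    exact this

/-- Two conjugates, by determinant one, of a split operator whose product has a simple root. -/
theorem exists_simple_product (hK : RegUnipProduct.Big K) [FiniteDimensional K V] {T : V ≃ₗ[K] V} {α : List K}
    (hT : Spl T.toLinearMap α) (hα : ∀ a ∈ α, a ≠ 0) (hm : Mixed α) :
    ∃ (R₁ R₂ : V ≃ₗ[K] V) (b : K) (β : List K), LinearEquiv.det R₁ = 1 ∧ LinearEquiv.det R₂ = 1 ∧ b ∉ β ∧
      (∀ x ∈ b :: β, x ≠ 0) ∧ (b :: β).prod = α.prod * α.prod ∧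
      Spl ((R₁ * T * R₁⁻¹) * (R₂ * T * R₂⁻¹)).toLinearMap (b :: β) := by
  obtain ⟨a, l, hp1, hp2, hne⟩ := exists_pairing hα hm
  have hm1 : ∀ p ∈ l, p.1 ≠ 0 ∧ p.2 ≠ 0 := fun p hp =>
    ⟨hα _ (hp1.subset (by simp only [List.map_cons, List.mem_cons, List.mem_map]; exact Or.inr ⟨p, hp, rfl⟩)),
     hα _ (hp2.subset (by simp only [List.map_cons, List.mem_cons, List.mem_map]; exact Or.inr ⟨p, hp, rfl⟩))⟩
  have ha : a ≠ 0 := hα _ (hp1.subset (by simp))
  let aU : Kˣ := Units.mk0 a ha
  let lU : List (Kˣ × Kˣ) := l.attach.map fun p => (Units.mk0 p.1.1 (hm1 _ p.2).1, Units.mk0 p.1.2 (hm1 _ p.2).2)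
  have e1 : lU.map (fun p => (p.1 : K)) = l.map Prod.fst := by simp [lU, Function.comp_def, List.attach_map_val]
  have e2 : lU.map (fun p => (p.2 : K)) = l.map Prod.snd := by simp [lU, Function.comp_def, List.attach_map_val]
  have e3 : lU.map (fun p => (p.1 : K) * p.2) = l.map fun p => p.1 * p.2 := by
    simp [lU, Function.comp_def, List.attach_map_val (l := l) (f := fun p : K × K => p.1 * p.2)]
  obtain ⟨U, W, hU, hW, ⟨Φ⟩, u₀, hu₀⟩ := exists_line (V := V) (m := l.length) (by
    rw [← hT.1, ← hp1.length_eq]; simp)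
  obtain ⟨B₁, B₂, h₁, h₂, h₃⟩ := exists_tri_three hK lU W (by simpa [lU] using hW)
  rw [e1] at h₁; rw [e2] at h₂; rw [e3] at h₃
  obtain ⟨χ₁, hχ₁⟩ : ∃ χ, Eig B₁ (aU : K) → χ ∉ lineBad B₁ (aU : K) := by
    by_cases hE : Eig B₁ (aU : K)
    · obtain ⟨χ, -, hχ⟩ := SetLike.exists_of_lt (lt_top_iff_ne_top.2 (lineBad_ne_top hE))
      exact ⟨χ, fun _ => hχ⟩
    · exact ⟨0, fun h => absurd h hE⟩
  obtain ⟨χ₂, hχ₂⟩ : ∃ χ, Eig B₂ (aU : K) → χ ∉ lineBad B₂ (aU : K) := by
    by_cases hE : Eig B₂ (aU : K)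
    · obtain ⟨χ, -, hχ⟩ := SetLike.exists_of_lt (lt_top_iff_ne_top.2 (lineBad_ne_top hE))
      exact ⟨χ, fun _ => hχ⟩
    · exact ⟨0, fun h => absurd h hE⟩
  have s1 := ((spl_step hU hu₀ aU h₁ hχ₁).conjHom Φ).perm hp1
  have s2 := ((spl_step hU hu₀ aU h₂ hχ₂).conjHom Φ).perm hp2
  obtain ⟨R₁, hR₁⟩ := hT.similar s1
  obtain ⟨R₂, hR₂⟩ := hT.similar s2
  let D (r : Kˣ) : V ≃ₗ[K] V := CovPSL.conjHom Φ (triE (LinearEquiv.smulOfUnit r) 0 1)
  have hD : ∀ r : Kˣ, LinearEquiv.det (D r) = r := fun r => by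
    rw [det_conjHom, det_triE, map_one, mul_one]
    refine Units.ext ?_
    rw [LinearEquiv.coe_det, show (LinearEquiv.smulOfUnit r : U ≃ₗ[K] U).toLinearMap = (r : K) • LinearMap.id from
      LinearMap.ext fun x => rfl, LinearMap.det_smul, LinearMap.det_id, hU, pow_one, mul_one]
  have key : ∀ (R : V ≃ₗ[K] V) (χ : Dual K W) (B : W ≃ₗ[K] W),
      (∀ x, CovPSL.conjHom Φ (triE (LinearEquiv.smulOfUnit aU) (χ.smulRight u₀) B) (R x) = R (T x)) →
      (D (LinearEquiv.det R)⁻¹ * R) * T * (D (LinearEquiv.det R)⁻¹ * R)⁻¹ = CovPSL.conjHom Φ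
        (triE (LinearEquiv.smulOfUnit aU) (((((LinearEquiv.det R)⁻¹ : Kˣ) : K) • χ).smulRight u₀) B) := fun R χ B h => by
    rw [show (D (LinearEquiv.det R)⁻¹ * R) * T * (D (LinearEquiv.det R)⁻¹ * R)⁻¹ =
      D (LinearEquiv.det R)⁻¹ * (R * T * R⁻¹) * (D (LinearEquiv.det R)⁻¹)⁻¹ by group, ← conj_of_intertwine h,
      ← triE_scale, map_mul, map_mul, map_inv]
  refine ⟨D (LinearEquiv.det R₁)⁻¹ * R₁, D (LinearEquiv.det R₂)⁻¹ * R₂, a * a, l.map fun p => p.1 * p.2,
    by rw [map_mul, hD, inv_mul_cancel], by rw [map_mul, hD, inv_mul_cancel], fun h => ?_, fun x hx => ?_, ?_, ?_⟩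
  · obtain ⟨p, hp, hpe⟩ := List.mem_map.1 h
    exact hne p hp hpe
  · rcases List.mem_cons.1 hx with rfl | hx
    · exact mul_ne_zero ha ha
    · obtain ⟨p, hp, rfl⟩ := List.mem_map.1 hx
      exact mul_ne_zero (hm1 p hp).1 (hm1 p hp).2
  · have q1 : α.prod = a * (l.map Prod.fst).prod := by rw [← hp1.prod_eq]; simp
    have q2 : α.prod = a * (l.map Prod.snd).prod := by rw [← hp2.prod_eq]; simp
    conv_rhs => arg 1; rw [q1]
    conv_rhs => arg 2; rw [q2]
    rw [List.prod_cons, List.prod_map_mul]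
    ring
  rw [key R₁ χ₁ B₁ hR₁, key R₂ χ₂ B₂ hR₂, ← map_mul, triE_line_mul]
  refine Spl.conjHom ?_ Φ
  refine spl_step hU hu₀ (aU * aU) h₃ fun ⟨x, hx, hBx⟩ => ?_
  rw [Units.val_mul] at hBx
  have hmem := root_mem h₃.2.1 hx hBx
  obtain ⟨p, hp, hpe⟩ := List.mem_map.1 hmem
  exact absurd hpe (hne p hp)

end Cfsg.Agent.Classical.CovPSL
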