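import Cfsg.Agent.Lib.Classical.CovPSL.Basic

set_option autoImplicit false

/-! Products of block triangular conjugates: the corner is arbitrary when no common eigenvector exists. -/

namespace Cfsg.Agent.Classical.CovPSL

open Module

universe u v

variable {K : Type u} [Field K] {W : Type v} [AddCommGroup W] [Module K W]

/-- The triangular automorphism `(t, x) ↦ (a t + r x, B x)`. -/
def up (a : Kˣ) (r : W →ₗ[K] K) (B : W ≃ₗ[K] W) : (K × W) ≃ₗ[K] K × W where
  toFun p := ((a : K) * p.1 + r p.2, B p.2)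
  map_add' p q := Prod.ext (by simp [mul_add, add_add_add_comm]) (by simp)
  map_smul' t p := Prod.ext (by simp [mul_add, mul_left_comm]) (by simp)
  invFun p := ((a⁻¹ : Kˣ) * (p.1 - r (B.symm p.2)), B.symm p.2)
  left_inv p := Prod.ext (by simp) (by simp)
  right_inv p := Prod.ext (by simp) (by simp)

theorem up_apply (a : Kˣ) (r : W →ₗ[K] K) (B : W ≃ₗ[K] W) (p : K × W) :
    up a r B p = ((a : K) * p.1 + r p.2, B p.2) := rfl

theorem up_mul (a b : Kˣ) (r s : W →ₗ[K] K) (B C : W ≃ₗ[K] W) :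
    up a r B * up b s C = up (a * b) ((a : K) • s + r.comp C.toLinearMap) (B * C) :=
  LinearEquiv.ext fun p => Prod.ext (by simp [mul_apply', up_apply, mul_add, mul_assoc, add_assoc]) rfl

theorem up_one : up 1 0 1 = (1 : (K × W) ≃ₗ[K] K × W) :=
  LinearEquiv.ext fun p => Prod.ext (by simp [up_apply, one_apply']) rfl

theorem up_inv (a : Kˣ) (r : W →ₗ[K] K) (B : W ≃ₗ[K] W) :
    (up a r B)⁻¹ = up a⁻¹ (-((a⁻¹ : Kˣ) : K) • r.comp (B⁻¹).toLinearMap) B⁻¹ := by
  rw [inv_eq_iff_mul_eq_one, up_mul, mul_inv_cancel, mul_inv_cancel]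
  refine Eq.trans ?_ up_one
  congr 1
  ext x
  simp

theorem conj_trans (a : Kˣ) (r t : W →ₗ[K] K) (B : W ≃ₗ[K] W) :
    up 1 t 1 * up a r B * (up 1 t 1)⁻¹ = up a (r + (t.comp B.toLinearMap - (a : K) • t)) B := by
  rw [mul_inv_eq_iff_eq_mul, up_mul, up_mul, one_mul, one_mul, mul_one, mul_one]
  congr 1
  ext x
  simp [sub_eq_add_neg, add_comm, add_left_comm]

theorem conj_diag (a k : Kˣ) (r : W →ₗ[K] K) (B N : W ≃ₗ[K] W) :
    up k 0 N * up a r B * (up k 0 N)⁻¹ = up a ((k : K) • r.comp (N⁻¹).toLinearMap) (N * B * N⁻¹) := by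
  rw [mul_inv_eq_iff_eq_mul, up_mul, up_mul, mul_comm k a, inv_mul_cancel_right]
  congr 1
  ext x
  simp [inv_apply']

theorem exists_up {f : (K × W) ≃ₗ[K] K × W} [FiniteDimensional K W] {c : Kˣ} (h : f (1, 0) = ((c : K), 0)) :
    ∃ (r : W →ₗ[K] K) (B : W ≃ₗ[K] W), f = up c r B := by
  set B₀ : W →ₗ[K] W := (LinearMap.snd K K W).comp (f.toLinearMap.comp (LinearMap.inr K K W))
  set r : W →ₗ[K] K := (LinearMap.fst K K W).comp (f.toLinearMap.comp (LinearMap.inr K K W))
  have key : ∀ t x, f (t, x) = ((c : K) * t + r x, B₀ x) := fun t x => by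
    have e : ((t, x) : K × W) = t • ((1, 0) : K × W) + (0, x) := by simp
    rw [e, map_add, map_smul, h]
    exact Prod.ext (by simp [r, mul_comm]) (by simp [B₀])
  have hinj : Function.Injective B₀ := (injective_iff_map_eq_zero B₀).2 fun x hx => by
    have : f (-((c : K)⁻¹ * r x), x) = f (0, 0) := by
      rw [key, key, hx]; simp
    exact (Prod.ext_iff.1 (f.injective this)).2
  exact ⟨r, LinearEquiv.ofInjectiveEndo B₀ hinj, LinearEquiv.ext fun ⟨t, x⟩ => key t x⟩

theorem det_up [FiniteDimensional K W] (a : Kˣ) (r : W →ₗ[K] K) (B : W ≃ₗ[K] W) :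
    LinearEquiv.det (up a r B) = a * LinearEquiv.det B := by
  refine Units.ext ?_
  rw [LinearEquiv.coe_det, Units.val_mul, LinearEquiv.coe_det]
  have e : (up a r B : (K × W) →ₗ[K] K × W) =
      ((a : K) • (LinearMap.id : K →ₗ[K] K)).prodMap (B : W →ₗ[K] W) *
        LinearMap.transvection (((a⁻¹ : Kˣ) : K) • r.comp (LinearMap.snd K K W)) ((1, 0) : K × W) := by
    refine LinearMap.ext fun p => Prod.ext ?_ ?_
    · simp [up_apply, LinearMap.transvection.apply, mul_add]
    · simp [up_apply, LinearMap.transvection.apply]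
  rw [e, map_mul, LinearMap.transvection.det, LinearMap.det_prodMap]
  simp

theorem trace_up [FiniteDimensional K W] (a : Kˣ) (r : W →ₗ[K] K) (B : W ≃ₗ[K] W) :
    LinearMap.trace K (K × W) (up a r B : (K × W) →ₗ[K] K × W) =
      (a : K) + LinearMap.trace K W (B : W →ₗ[K] W) := by
  have e : (up a r B : (K × W) →ₗ[K] K × W) =
      ((a : K) • (LinearMap.id : K →ₗ[K] K)).prodMap (B : W →ₗ[K] W) +
        (LinearMap.inl K K W).comp (r.comp (LinearMap.snd K K W)) := by
    refine LinearMap.ext fun p => Prod.ext ?_ ?_ <;> simp [up_apply]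
  rw [e, map_add, LinearMap.trace_prodMap', LinearMap.trace_comp_comm']
  have h0 : (r.comp (LinearMap.snd K K W)).comp (LinearMap.inl K K W) = 0 := by
    ext; simp
  rw [h0, map_zero, add_zero]
  simp

/-- A factor. -/
abbrev Datum (K : Type u) [Field K] (W : Type v) [AddCommGroup W] [Module K W] :=
  Kˣ × (W →ₗ[K] K) × (W ≃ₗ[K] W)

/-- The automorphism of a datum. -/
def Datum.val (f : Datum K W) : (K × W) ≃ₗ[K] K × W := up f.1 f.2.1 f.2.2

theorem prod_val (l : List (Datum K W)) :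
    ∃ r, (l.map Datum.val).prod = up (l.map Prod.fst).prod r (l.map (·.2.2)).prod := by
  induction l with
  | nil => exact ⟨0, by simp [up_one]⟩
  | cons f l ih =>
    obtain ⟨r, hr⟩ := ih
    exact ⟨_, by simp only [List.map_cons, List.prod_cons, hr, Datum.val, up_mul]; rfl⟩

theorem apply_common {l : List (Datum K W)} {x : W} (hx : ∀ f ∈ l, f.2.2 x = (f.1 : K) • x) :
    (l.map (·.2.2)).prod x = (((l.map Prod.fst).prod : Kˣ) : K) • x := by
  induction l with
  | nil => simp [one_apply']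
  | cons f l ih =>
    simp only [List.map_cons, List.prod_cons, mul_apply', Units.val_mul]
    rw [ih fun g hg => hx g (List.mem_cons_of_mem _ hg), map_smul, hx f (List.mem_cons_self ..), smul_smul,
      mul_comm]

/-- The corner moves in every direction killing the common eigenvectors. -/
theorem exists_corner_add [FiniteDimensional K W] : ∀ (l : List (Datum K W)) (R₀ Δ : W →ₗ[K] K),
    (l.map Datum.val).prod = up (l.map Prod.fst).prod R₀ (l.map (·.2.2)).prod →
    (∀ x, (∀ f ∈ l, f.2.2 x = (f.1 : K) • x) → Δ x = 0) →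
    ∃ ts : List (W →ₗ[K] K), ts.length = l.length ∧
      ((ts.zip l).map fun p => up 1 p.1 1 * p.2.val * (up 1 p.1 1)⁻¹).prod =
        up (l.map Prod.fst).prod (R₀ + Δ) (l.map (·.2.2)).prod := by
  intro l
  induction l with
  | nil =>
    intro R₀ Δ hp hΔ
    have : Δ = 0 := LinearMap.ext fun x => hΔ x (by simp)
    refine ⟨[], rfl, ?_⟩
    simpa [this] using hp
  | cons f l ih =>
    intro R₀ Δ hp hΔ
    obtain ⟨a, r, B⟩ := f
    obtain ⟨Rl, hRl⟩ := prod_val l
    set P := (l.map (·.2.2)).prod with hP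
    let Z : Submodule K W := ⨅ g ∈ l, LinearMap.ker ((g.2.2 : W →ₗ[K] W) - (g.1 : K) • LinearMap.id)
    have hZ : ∀ x, x ∈ Z ↔ ∀ g ∈ l, g.2.2 x = (g.1 : K) • x := fun x => by
      simp [Z, Submodule.mem_iInf, sub_eq_zero]
    let G : Z →ₗ[K] W := (((B : W →ₗ[K] W) - (a : K) • LinearMap.id).comp P.toLinearMap).comp Z.subtype
    have hker : Δ.comp Z.subtype ∈ (LinearMap.ker G).dualAnnihilator := by
      rw [Submodule.mem_dualAnnihilator]
      intro z hz
      refine hΔ z fun g hg => ?_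
      rcases List.mem_cons.1 hg with rfl | hg
      · have h1 : B (P z) = (a : K) • P z := by
          simpa [G, sub_eq_zero] using hz
        rw [hP, apply_common ((hZ z).1 z.2), map_smul, smul_comm] at h1
        exact smul_right_injective W (Units.ne_zero _) h1
      · exact (hZ z).1 z.2 g hg
    rw [← LinearMap.range_dualMap_eq_dualAnnihilator_ker] at hker
    obtain ⟨t, ht⟩ := hker
    set T : W →ₗ[K] K := (t.comp ((B : W →ₗ[K] W) - (a : K) • LinearMap.id)).comp P.toLinearMap with hT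
    obtain ⟨ts, hts, htp⟩ := ih Rl (((a⁻¹ : Kˣ) : K) • (Δ - T)) hRl fun x hx => by
      have e : Δ x = T x := (LinearMap.congr_fun ht ⟨x, (hZ x).2 hx⟩).symm
      simp [e]
    refine ⟨t :: ts, by simp [hts], ?_⟩
    simp only [List.zip_cons_cons, List.map_cons, List.prod_cons] at hp ⊢
    rw [htp]
    rw [hRl] at hp
    simp only [Datum.val] at hp ⊢
    rw [up_mul] at hp
    rw [conj_trans, up_mul]
    congr 1
    have hR : ∀ x, R₀ x = (a : K) * Rl x + r (P x) := fun x => by
      have := congrArg Prod.fst (LinearEquiv.congr_fun hp (0, x))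
      simpa [up_apply] using this.symm
    ext x
    simp [hR, hT]
    ring

/-- The corner is arbitrary. -/
theorem exists_corner [FiniteDimensional K W] {C : Set ((K × W) ≃ₗ[K] K × W)}
    (hC : ∀ t, ∀ X ∈ C, up 1 t 1 * X * (up 1 t 1)⁻¹ ∈ C) (l : List (Datum K W)) (hl : ∀ f ∈ l, f.val ∈ C)
    (hno : ∀ x : W, x ≠ 0 → ¬ ∀ f ∈ l, f.2.2 x = (f.1 : K) • x) (R : W →ₗ[K] K) :
    ∃ l' : List ((K × W) ≃ₗ[K] K × W), l'.length = l.length ∧ (∀ X ∈ l', X ∈ C) ∧
      (∀ f ∈ l, ∃ X ∈ l', ∃ r, X = up f.1 r f.2.2) ∧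
      (∀ X ∈ l', ∃ f ∈ l, ∃ r, X = up f.1 r f.2.2) ∧
      l'.prod = up (l.map Prod.fst).prod R (l.map (·.2.2)).prod := by
  obtain ⟨R₀, hR₀⟩ := prod_val l
  obtain ⟨ts, hts, htp⟩ := exists_corner_add l R₀ (R - R₀) hR₀ fun x hx => by
    by_cases h0 : x = 0
    · simp [h0]
    · exact absurd hx (hno x h0)
  rw [add_sub_cancel] at htp
  refine ⟨_, by simp [hts], fun X hX => ?_, fun f hf => ?_, fun X hX => ?_, htp⟩
  · obtain ⟨⟨t, f⟩, hm, rfl⟩ := List.mem_map.1 hX
    exact hC t _ (hl f (List.of_mem_zip hm).2)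
  · obtain ⟨i, hi, rfl⟩ := List.getElem_of_mem hf
    refine ⟨_, List.mem_map_of_mem (List.getElem_mem (by simp [hts, hi] : i < (ts.zip l).length)), ?_⟩
    rw [List.getElem_zip]
    exact ⟨_, conj_trans _ _ _ _⟩
  · obtain ⟨⟨t, f⟩, hm, rfl⟩ := List.mem_map.1 hX
    exact ⟨f, (List.of_mem_zip hm).2, _, conj_trans _ _ _ _⟩

end Cfsg.Agent.Classical.CovPSL
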